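import Groth.Agent.UnivInjMod.Core

/-!
Flatness of a finitely presented model mapping linearly over the base to a flat module, injectively
modulo the maximal ideal.
-/

set_option autoImplicit false
set_option linter.style.haveILetI false
set_option linter.unusedSectionVars false
set_option backward.isDefEq.respectTransparency false

universe u

open TensorProduct IsLocalRing

namespace Groth.Agent.UnivInjMod

/-- An element mapping into `m N` for a localised module is in `m E` up to a multiplier. -/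
theorem exists_smul_mem_of_localized {P E N : Type u} [CommRing P] [AddCommGroup E] [Module P E] [AddCommGroup N]
    [Module P N] (W : Submonoid P) (l : E →ₗ[P] N) [IsLocalizedModule W l] (I : Ideal P) {e : E}
    (h : l e ∈ I • (⊤ : Submodule P N)) : ∃ t ∈ W, t • e ∈ I • (⊤ : Submodule P E) := by
  have key : ∀ y ∈ I • (⊤ : Submodule P N), ∃ t ∈ W, ∃ x ∈ I • (⊤ : Submodule P E), l x = t • y := by
    intro y hy
    refine Submodule.smul_induction_on hy (fun c hc z _ => ?_) fun y y' h h' => ?_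
    · obtain ⟨⟨x, t⟩, hx⟩ := IsLocalizedModule.surj W l z
      exact ⟨t, t.2, c • x, Submodule.smul_mem_smul hc Submodule.mem_top, by
        rw [map_smul, ← hx, smul_comm]; rfl⟩
    · obtain ⟨t, ht, x, hx, hxl⟩ := h
      obtain ⟨t', ht', x', hx', hxl'⟩ := h'
      refine ⟨t * t', W.mul_mem ht ht', t' • x + t • x', add_mem (Submodule.smul_mem _ _ hx) (Submodule.smul_mem _ _ hx'), ?_⟩
      rw [map_add, map_smul, map_smul, hxl, hxl', smul_smul, smul_smul, smul_add, mul_comm t' t]
  obtain ⟨t, ht, x, hx, hxl⟩ := key _ h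
  rw [← map_smul] at hxl
  obtain ⟨⟨c, hc⟩, hcx⟩ := IsLocalizedModule.exists_of_eq (S := W) hxl
  simp only [Submonoid.mk_smul] at hcx
  exact ⟨c * t, W.mul_mem hc ht, by rw [mul_smul, ← hcx]; exact Submodule.smul_mem _ _ hx⟩

/-- Membership in extended products. -/
theorem mem_smul_top_iff' {R B X : Type u} [CommRing R] [CommRing B] [Algebra R B] [AddCommGroup X]
    [Module R X] [Module B X] [IsScalarTower R B X] (J : Ideal R) (x : X) :
    x ∈ J • (⊤ : Submodule R X) ↔ x ∈ J.map (algebraMap R B) • (⊤ : Submodule B X) := by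
  rw [← Submodule.restrictScalars_mem R (J.map (algebraMap R B) • (⊤ : Submodule B X)),
    Submodule.restrictScalars_map_smul_eq, Submodule.restrictScalars_top]

/-- Membership in `I • ⊤` descends along a multiplier congruent to a unit. -/
theorem mem_pow_smul_of_smul_mem {R B X : Type u} [CommRing R] [CommRing B] [Algebra R B] [AddCommGroup X]
    [Module R X] [Module B X] [IsScalarTower R B X] (I : Ideal R) {w c : B} (hc : IsUnit c)
    (hwc : w - c ∈ I.map (algebraMap R B)) (n : ℕ) {z : X} (hz : w • z ∈ I ^ n • (⊤ : Submodule R X)) :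
    z ∈ I ^ n • (⊤ : Submodule R X) := by
  rw [mem_smul_top_iff' (B := B), Ideal.map_pow] at hz ⊢
  have : ∀ j, j ≤ n → z ∈ I.map (algebraMap R B) ^ j • (⊤ : Submodule B X) := by
    intro j
    induction j with
    | zero => intro; simp
    | succ j ih =>
      intro hj
      have h1 : (w - c) • z ∈ I.map (algebraMap R B) ^ (j + 1) • (⊤ : Submodule B X) := by
        rw [pow_succ', Submodule.mul_smul]
        exact Submodule.smul_mem_smul hwc (ih (Nat.le_of_succ_le hj))
      have h2 : w • z ∈ I.map (algebraMap R B) ^ (j + 1) • (⊤ : Submodule B X) :=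
        Submodule.smul_mono_left (Ideal.pow_le_pow_right hj) hz
      have h3 := sub_mem h2 h1
      rw [← sub_smul, sub_sub_cancel] at h3
      exact (Submodule.smul_mem_iff_of_isUnit _ hc).1 h3
  exact this n le_rfl

section

variable {A₀ A R A' P₀ P S T : Type u} [CommRing A₀] [CommRing A] [IsLocalRing A] [CommRing R] [IsLocalRing R]
  [CommRing A'] [IsLocalRing A'] [CommRing P₀] [CommRing P] [CommRing S] [CommRing T]
  [Algebra A₀ A] [Algebra A₀ R] [Algebra A₀ A'] [Algebra A A'] [Algebra R A'] [IsScalarTower A₀ A A']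
  [IsScalarTower A₀ R A'] [IsLocalHom (algebraMap A A')] [IsLocalHom (algebraMap R A')]
  [Algebra A₀ P₀] [Algebra A P] [Algebra R S] [Algebra A' T] [Algebra P₀ P] [Algebra P₀ S] [Algebra P₀ T]
  [Algebra P T] [Algebra S T] [IsScalarTower P₀ P T] [IsScalarTower P₀ S T]
  [Algebra A₀ P] [IsScalarTower A₀ A P] [IsScalarTower A₀ P₀ P] [Algebra.IsPushout A₀ A P₀ P]
  [Algebra A T] [IsScalarTower A A' T] [IsScalarTower A P T]
  [Algebra R T] [IsScalarTower R A' T] [IsScalarTower R S T]
  [Algebra A₀ S] [IsScalarTower A₀ R S] [IsScalarTower A₀ P₀ S]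
  [IsNoetherianRing R] [IsAdicComplete (maximalIdeal R) R] [IsNoetherianRing S] [Module.Flat A A']
  [Algebra.IsPushout A A' P T] [Algebra.IsPushout R A' S T] [Algebra.IsPushout A₀ R P₀ S]

/-- Flatness of the model. -/
theorem flatAt_of_model_linear
    (hS : ∀ z : S, ∃ z₀ : P₀, z - algebraMap P₀ S z₀ ∈ (maximalIdeal R).map (algebraMap R S))
    (hA' : ∀ x : A', ∃ a : A, x - algebraMap A A' a ∈ maximalIdeal A')
    (q : Ideal P) [q.IsPrime] (mP : Ideal P) (hmP : mP = (maximalIdeal A).map (algebraMap A P)) (hmq : mP ≤ q)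
    (θ : T →+* P ⧸ mP) (hθ : ∀ p, θ (algebraMap P T p) = Ideal.Quotient.mk _ p)
    (hθm : ∀ x ∈ maximalIdeal A', θ (algebraMap A' T x) = 0)
    {E₀ E N M : Type u} [AddCommGroup E₀] [Module A₀ E₀] [Module P₀ E₀] [IsScalarTower A₀ P₀ E₀]
    [Module.Finite P₀ E₀]
    [AddCommGroup E] [Module A E] [Module P E] [IsScalarTower A P E] [Module A₀ E] [IsScalarTower A₀ A E]
    [Module P₀ E] [IsScalarTower P₀ P E] [IsScalarTower A₀ P₀ E]
    (j : E₀ →ₗ[P₀] E) (hj : IsBaseChange P j)
    [AddCommGroup N] [Module A N] [Module P N] [IsScalarTower A P N]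
    (loc : E →ₗ[P] N) [IsLocalizedModule q.primeCompl loc]
    [AddCommGroup M] [Module A M] [Module.Flat A M]
    (u : N →ₗ[A] M) (hu : ∀ y, u y ∈ maximalIdeal A • (⊤ : Submodule A M) → y ∈ maximalIdeal A • (⊤ : Submodule A N))
    (s₀ : P₀) (hs₀ : algebraMap P₀ P s₀ ∉ q)
    (hs : ∀ e : E, (∃ t ∉ q, t • e ∈ maximalIdeal A • (⊤ : Submodule A E)) →
      algebraMap P₀ P s₀ • e ∈ maximalIdeal A • (⊤ : Submodule A E)) :
    FlatCA.FlatAt A q E := by
  classical
  let m := maximalIdeal R
  let qbar : Ideal (P ⧸ mP) := q.map (Ideal.Quotient.mk mP)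
  haveI : qbar.IsPrime := Ideal.map_isPrime_of_surjective Ideal.Quotient.mk_surjective (by rwa [Ideal.mk_ker])
  have hmk : qbar.comap (Ideal.Quotient.mk mP) = q := by
    rw [Ideal.comap_map_of_surjective _ Ideal.Quotient.mk_surjective, ← RingHom.ker_eq_comap_bot, Ideal.mk_ker,
      sup_eq_left]
    exact hmq
  let qT : Ideal T := qbar.comap θ
  haveI : qT.IsPrime := inferInstance
  have hqT : qT.comap (algebraMap P T) = q := by
    conv_rhs => rw [← hmk]
    ext p
    show θ (algebraMap P T p) ∈ qbar ↔ _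
    rw [hθ]
    rfl
  let qS : Ideal S := qT.comap (algebraMap S T)
  haveI : qS.IsPrime := inferInstance
  have hmR : ∀ x ∈ maximalIdeal R, algebraMap R S x ∈ qS := fun x hx => by
    show θ (algebraMap S T (algebraMap R S x)) ∈ qbar
    rw [← IsScalarTower.algebraMap_apply R S T, IsScalarTower.algebraMap_apply R A' T,
      hθm _ (Ideal.map_le_iff_le_comap.1 (maximalIdeal_map_le (R := R) (A := A')) hx)]
    exact zero_mem _
  have hqS : ∀ w₀ : P₀, algebraMap P₀ S w₀ ∈ qS ↔ algebraMap P₀ P w₀ ∈ q := fun w₀ => by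
    show algebraMap S T (algebraMap P₀ S w₀) ∈ qT ↔ _
    rw [← IsScalarTower.algebraMap_apply P₀ S T, IsScalarTower.algebraMap_apply P₀ P T]
    exact SetLike.ext_iff.1 hqT _
  -- the localisation by elements defined over the Noetherian ring
  let W₀ : Submonoid P₀ := q.primeCompl.comap (algebraMap P₀ P)
  let WS := Algebra.algebraMapSubmonoid S W₀
  have hWS : WS ≤ qS.primeCompl := by
    rintro _ ⟨w, hw, rfl⟩ h
    exact hw ((hqS w).1 h)
  obtain ⟨Y, _, _, _, _, ly, hly⟩ := exists_localizedModule W₀ E₀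
  haveI := hly
  obtain ⟨PR', _, _, _, _, lS', hlS'⟩ := exists_localizedModule WS (S ⊗[P₀] E₀)
  haveI := hlS'
  haveI : IsLocalizedModule WS (ly.baseChange S) := FlatSpread.isLocalizedModule_baseChange W₀ ly
  let e : PR' ≃ₗ[S] S ⊗[P₀] Y := IsLocalizedModule.linearEquiv WS lS' (ly.baseChange S)
  have he : ∀ x, e (lS' x) = ly.baseChange S x := IsLocalizedModule.linearEquiv_apply WS lS' _
  letI : Module R PR' := Module.compHom PR' (algebraMap R S)
  haveI : IsScalarTower R S PR' := IsScalarTower.of_algebraMap_smul fun _ _ => rfl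
  let B' := Localization WS
  haveI : IsNoetherianRing B' := IsLocalization.isNoetherianRing WS _ inferInstance
  haveI : Module.Finite B' PR' := Module.Finite.of_isLocalizedModule WS lS'
  haveI : IsScalarTower R B' PR' := IsScalarTower.of_algebraMap_smul fun x y => by
    rw [IsScalarTower.algebraMap_apply R S B', algebraMap_smul, algebraMap_smul]
  -- the map to the flat module
  let M'' := A' ⊗[A] M
  letI : Module A₀ Y := Module.compHom Y (algebraMap A₀ P₀)
  haveI : IsScalarTower A₀ P₀ Y := IsScalarTower.of_algebraMap_smul fun _ _ => rfl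
  letI : Module A₀ M := Module.compHom M (algebraMap A₀ A)
  haveI : IsScalarTower A₀ A M := IsScalarTower.of_algebraMap_smul fun _ _ => rfl
  haveI : IsScalarTower A₀ A' M'' := inferInstance
  haveI : IsScalarTower A₀ A M'' := IsScalarTower.of_algebraMap_smul fun x y => by
    rw [← algebraMap_smul A' (algebraMap A₀ A x) y, ← IsScalarTower.algebraMap_apply A₀ A A', algebraMap_smul]
  haveI : IsScalarTower A₀ R M'' := IsScalarTower.of_algebraMap_smul fun x y => by
    rw [← algebraMap_smul A' (algebraMap A₀ R x) y, ← IsScalarTower.algebraMap_apply A₀ R A', algebraMap_smul]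
  letI : Module P₀ N := Module.compHom N (algebraMap P₀ P)
  haveI : IsScalarTower P₀ P N := IsScalarTower.of_algebraMap_smul fun _ _ => rfl
  letI : Module A₀ N := Module.compHom N (algebraMap A₀ A)
  haveI : IsScalarTower A₀ A N := IsScalarTower.of_algebraMap_smul fun _ _ => rfl
  haveI : IsScalarTower A₀ P₀ N := IsScalarTower.of_algebraMap_smul fun x y => by
    show algebraMap P₀ P (algebraMap A₀ P₀ x) • y = algebraMap A₀ A x • y
    rw [← IsScalarTower.algebraMap_apply A₀ P₀ P, IsScalarTower.algebraMap_apply A₀ A P, algebraMap_smul]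
  haveI : SMulCommClass A P₀ N := ⟨fun c p x => by
    rw [← algebraMap_smul P p x, ← algebraMap_smul P p (c • x)]
    exact smul_comm _ _ _⟩
  have hun : ∀ w : W₀, IsUnit (algebraMap P₀ (Module.End P₀ N) w) := fun w => by
    have h := IsLocalizedModule.map_units loc (⟨algebraMap P₀ P w, w.2⟩ : q.primeCompl)
    rw [Module.End.isUnit_iff] at h ⊢
    exact h
  let ι₀ : Y →ₗ[P₀] N := IsLocalizedModule.lift W₀ ly (loc.restrictScalars P₀ ∘ₗ j) hun
  have hι₀ : ∀ e₀, ι₀ (ly e₀) = loc (j e₀) := IsLocalizedModule.lift_apply W₀ ly _ hun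
  let g₀ : Y →ₗ[A₀] M'' :=
    (TensorProduct.mk A A' M 1).restrictScalars A₀ ∘ₗ u.restrictScalars A₀ ∘ₗ ι₀.restrictScalars A₀
  have hYR := (DevFlat.isBaseChange_iff (A := A₀) (A' := R) (TensorProduct.mk P₀ S Y 1)).1
    (TensorProduct.isBaseChange P₀ Y S)
  let g : PR' →ₗ[R] M'' := hYR.lift g₀ ∘ₗ e.toLinearMap.restrictScalars R
  let inY : Y → PR' := fun y => e.symm ((1 : S) ⊗ₜ[P₀] y)
  have hg : ∀ y, g (inY y) = g₀ y := fun y => by
    show hYR.lift g₀ (e (e.symm _)) = _
    rw [LinearEquiv.apply_symm_apply]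
    exact hYR.lift_eq g₀ y
  -- congruences in the model
  have hmS : ∀ c ∈ m.map (algebraMap R S), ∀ y : PR', c • y ∈ m • (⊤ : Submodule R PR') := fun c hc y =>
    (mem_smul_top_iff (B := S) m _).2 (Submodule.smul_mem_smul hc Submodule.mem_top)
  have hd : ∀ z : S ⊗[P₀] Y, ∃ y, e.symm z - inY y ∈ m • (⊤ : Submodule R PR') := by
    intro z
    induction z using TensorProduct.induction_on with
    | zero => exact ⟨0, by simp [inY]⟩
    | tmul a y =>
      obtain ⟨a₀, ha⟩ := hS a
      refine ⟨a₀ • y, ?_⟩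
      have heq : e.symm (a ⊗ₜ y) - inY (a₀ • y) = (a - algebraMap P₀ S a₀) • inY y := by
        show e.symm (a ⊗ₜ y) - e.symm ((1 : S) ⊗ₜ (a₀ • y)) = (a - algebraMap P₀ S a₀) • e.symm ((1 : S) ⊗ₜ y)
        rw [← map_smul, ← map_sub, TensorProduct.smul_tmul', smul_eq_mul, mul_one, sub_tmul,
          Algebra.algebraMap_eq_smul_one, smul_tmul]
      rw [heq]
      exact hmS _ ha _
    | add x y hx hy =>
      obtain ⟨y₁, h₁⟩ := hx
      obtain ⟨y₂, h₂⟩ := hy
      refine ⟨y₁ + y₂, ?_⟩
      show e.symm (x + y) - e.symm ((1 : S) ⊗ₜ (y₁ + y₂)) ∈ _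
      rw [tmul_add, map_add, map_add, add_sub_add_comm]
      exact add_mem h₁ h₂
  obtain ⟨ι, b₁, hgen₁, hb₁⟩ := exists_basis_lift R PR'
  choose y hy using fun l => hd (e (b₁ l))
  simp only [LinearEquiv.symm_apply_apply] at hy
  let b : ι → PR' := fun l => inY (y l)
  have hgen : LinearMap.range (Finsupp.linearCombination R b) ⊔ m • (⊤ : Submodule R PR') = ⊤ := by
    refine eq_top_iff.2 (hgen₁.ge.trans (sup_le ?_ le_sup_right))
    rw [Finsupp.range_linearCombination, Submodule.span_le]
    rintro _ ⟨l, rfl⟩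
    rw [← add_sub_cancel (b l) (b₁ l)]
    exact Submodule.add_mem_sup (LinearMap.mem_range.2 ⟨Finsupp.single l 1, by simp⟩) (hy l)
  have hb : ∀ i, ∃ f : PR' →ₗ[R] R ⧸ m, (∀ l, f (b l) = Finsupp.single i (1 : R ⧸ m) l) ∧
      ∀ z ∈ m • (⊤ : Submodule R PR'), f z = 0 := fun i => by
    obtain ⟨f, hf, hfm⟩ := hb₁ i
    refine ⟨f, fun l => ?_, hfm⟩
    have := hfm _ (hy l)
    rw [map_sub, sub_eq_zero, hf] at this
    exact this.symm
  -- independence modulo the maximal ideal
  have hli : IndepMod (A := A') b g := by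
    intro c hc i
    choose a ha using hA'
    let kA : A ⧸ maximalIdeal A →ₗ[A] ResidueField A' :=
      Submodule.liftQ _ (Algebra.linearMap A (ResidueField A')) fun x hx => by
        rw [LinearMap.mem_ker, Algebra.linearMap_apply, IsScalarTower.algebraMap_apply A A' (ResidueField A'),
          ResidueField.algebraMap_eq, residue_eq_zero_iff]
        exact Ideal.map_le_iff_le_comap.1 (((local_hom_TFAE (algebraMap A A')).out 0 2).1 ‹IsLocalHom (algebraMap A A')›) hx
    have hkA : Function.Bijective kA := by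
      refine ⟨(injective_iff_map_eq_zero kA).2 fun x hx => ?_, fun x => ?_⟩
      · obtain ⟨x, rfl⟩ := Submodule.Quotient.mk_surjective _ x
        rw [Submodule.liftQ_apply, Algebra.linearMap_apply, IsScalarTower.algebraMap_apply A A' (ResidueField A'),
          ResidueField.algebraMap_eq, residue_eq_zero_iff] at hx
        exact (Submodule.Quotient.mk_eq_zero _).2 fun hu' => hx (hu'.map (algebraMap A A'))
      · obtain ⟨x, rfl⟩ := residue_surjective x
        refine ⟨Submodule.Quotient.mk (a x), ?_⟩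
        rw [Submodule.liftQ_apply, Algebra.linearMap_apply, IsScalarTower.algebraMap_apply A A' (ResidueField A'),
          ResidueField.algebraMap_eq]
        have := ha x
        rw [← residue_eq_zero_iff, map_sub, sub_eq_zero] at this
        exact this.symm
    let ρ : A' →ₗ[A] A ⧸ maximalIdeal A :=
      (LinearEquiv.ofBijective kA hkA).symm.toLinearMap ∘ₗ (IsScalarTower.toAlgHom A A' (ResidueField A')).toLinearMap
    let r : M'' →ₗ[A] (A ⧸ maximalIdeal A) ⊗[A] M := ρ.rTensor M
    have hr : ∀ x ∈ maximalIdeal A', ∀ z : M'', r (x • z) = 0 := by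
      intro x hx z
      induction z using TensorProduct.induction_on with
      | zero => rw [smul_zero, map_zero]
      | tmul t w =>
        rw [TensorProduct.smul_tmul', LinearMap.rTensor_tmul]
        have : ρ (x • t) = 0 := by
          show (LinearEquiv.ofBijective kA hkA).symm (residue A' (x * t)) = 0
          rw [map_mul, (residue_eq_zero_iff x).2 hx, zero_mul, map_zero]
        rw [this, zero_tmul]
      | add z z' h h' => rw [smul_add, map_add, h, h', add_zero]
    have hρ1 : ρ 1 = 1 := by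
      show (LinearEquiv.ofBijective kA hkA).symm (residue A' 1) = 1
      rw [LinearEquiv.symm_apply_eq]
      show residue A' 1 = kA (Submodule.Quotient.mk 1)
      rw [Submodule.liftQ_apply, Algebra.linearMap_apply, map_one, map_one]
    let z : N := ∑ l ∈ c.support, a (c l) • ι₀ (y l)
    have hz : u z ∈ maximalIdeal A • (⊤ : Submodule A M) := by
      rw [← FlatteningIdeal.mk_eq_zero_iff]
      have h0 : r (Finsupp.linearCombination A' (fun l => g (b l)) c) = 0 := by
        refine Submodule.smul_induction_on hc (fun x hx w _ => hr x hx w) fun v w hv hw => ?_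
        rw [map_add, hv, hw, add_zero]
      rw [← h0, map_sum, tmul_sum, Finsupp.linearCombination_apply, Finsupp.sum, map_sum]
      refine Finset.sum_congr rfl fun l _ => ?_
      show (1 : A ⧸ maximalIdeal A) ⊗ₜ[A] u (a (c l) • ι₀ (y l)) = r (c l • g (inY (y l)))
      rw [hg]
      show _ = r (c l • ((1 : A') ⊗ₜ[A] u (ι₀ (y l))))
      have hsplit : c l • ((1 : A') ⊗ₜ[A] u (ι₀ (y l))) =
          (c l - algebraMap A A' (a (c l))) • ((1 : A') ⊗ₜ[A] u (ι₀ (y l))) +
            a (c l) • ((1 : A') ⊗ₜ[A] u (ι₀ (y l))) := by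
        simp only [TensorProduct.smul_tmul', ← add_tmul, Algebra.smul_def, Algebra.algebraMap_self, RingHom.id_apply, smul_eq_mul, mul_one, sub_add_cancel]
      rw [hsplit, map_add, hr _ (ha (c l)), zero_add, map_smul, map_smul, LinearMap.rTensor_tmul, hρ1, tmul_smul]
    have hzN := hu z hz
    let L := insert i c.support
    choose p hp using fun l => IsLocalizedModule.surj W₀ ly (y l)
    let Wp := ∏ l ∈ L, ((p l).2 : P₀)
    let e' : ι → E₀ := fun l => (∏ l' ∈ L.erase l, ((p l').2 : P₀)) • (p l).1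
    have hWy : ∀ l ∈ L, ly (e' l) = Wp • y l := fun l hl => by
      rw [show ly (e' l) = _ from map_smul ly _ _, ← hp l, Submonoid.smul_def, smul_smul,
        Finset.prod_erase_mul L _ hl]
    have hWq : algebraMap P₀ P Wp ∉ q := by
      rw [map_prod, Ideal.IsPrime.prod_mem_iff]
      rintro ⟨l, -, hl⟩
      exact (p l).2.2 hl
    let eA : E := ∑ l ∈ c.support, a (c l) • j (e' l)
    have heA : loc eA ∈ ((maximalIdeal A).map (algebraMap A P)) • (⊤ : Submodule P N) := by
      have h1 : loc eA = algebraMap P₀ P Wp • z := by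
        rw [map_sum, Finset.smul_sum]
        refine Finset.sum_congr rfl fun l hl => ?_
        rw [LinearMap.map_smul_of_tower, ← hι₀, hWy l (Finset.mem_insert_of_mem hl), map_smul, smul_comm, algebraMap_smul]
      rw [h1]
      exact Submodule.smul_mem _ _ ((mem_smul_top_iff (B := P) _ _).1 hzN)
    obtain ⟨t, htq, hte⟩ := exists_smul_mem_of_localized q.primeCompl loc _ heA
    have hse := hs eA ⟨t, htq, (mem_smul_top_iff (B := P) _ _).2 hte⟩
    have huW : IsUnit (algebraMap S (Module.End S PR') (algebraMap P₀ S (s₀ * Wp))) := by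
      refine IsLocalizedModule.map_units lS' (⟨_, s₀ * Wp, fun h => ?_, rfl⟩ : WS)
      rw [map_mul] at h
      rcases Ideal.IsPrime.mem_or_mem inferInstance h with h | h
      exacts [hs₀ h, hWq h]
    obtain ⟨v, hv⟩ := huW
    let uinv : PR' →ₗ[S] PR' := ↑v⁻¹
    have huinv : ∀ x : PR', uinv (algebraMap P₀ S (s₀ * Wp) • x) = x := fun x => by
      show (↑v⁻¹ : Module.End S PR') (algebraMap S (Module.End S PR') _ x) = x
      rw [← hv, ← Module.End.mul_apply, Units.inv_mul, Module.End.one_apply]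
    obtain ⟨f, hfb, hfm⟩ := hb i
    let κ : R ⧸ maximalIdeal R →ₗ[R] ResidueField A' :=
      Submodule.liftQ _ (Algebra.linearMap R (ResidueField A')) fun x hx => by
        rw [LinearMap.mem_ker, Algebra.linearMap_apply, IsScalarTower.algebraMap_apply R A' (ResidueField A'),
          ResidueField.algebraMap_eq, residue_eq_zero_iff]
        exact Ideal.map_le_iff_le_comap.1 (maximalIdeal_map_le (R := R) (A := A')) hx
    let G : PR' →ₗ[R] ResidueField A' := κ ∘ₗ f ∘ₗ uinv.restrictScalars R
    haveI : IsScalarTower A₀ R (ResidueField A') := IsScalarTower.of_algebraMap_eq fun x => by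
      rw [IsScalarTower.algebraMap_apply R A' (ResidueField A'), ← IsScalarTower.algebraMap_apply A₀ R A',
        ← IsScalarTower.algebraMap_apply A₀ A' (ResidueField A')]
    let F₀ : E₀ →ₗ[A₀] ResidueField A' :=
      (G ∘ₗ e.symm.toLinearMap.restrictScalars R).restrictScalars A₀ ∘ₗ
        (TensorProduct.mk P₀ S Y 1).restrictScalars A₀ ∘ₗ ly.restrictScalars A₀
    have hF₀ : ∀ l ∈ L, F₀ (s₀ • e' l) = if l = i then 1 else 0 := by
      intro l hl
      show κ (f (uinv (inY (ly (s₀ • e' l))))) = _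
      have h2 : inY (ly (s₀ • e' l)) = algebraMap P₀ S (s₀ * Wp) • b l := by
        show e.symm ((1 : S) ⊗ₜ ly (s₀ • e' l)) = algebraMap P₀ S (s₀ * Wp) • e.symm ((1 : S) ⊗ₜ y l)
        rw [map_smul, hWy l hl, smul_smul, tmul_smul, ← algebraMap_smul S (s₀ * Wp), map_smul]
      rw [h2, huinv, hfb, Finsupp.single_apply]
      by_cases h : l = i
      · rw [if_pos h.symm, if_pos h]
        show κ (Submodule.Quotient.mk 1) = 1
        rw [Submodule.liftQ_apply, Algebra.linearMap_apply, map_one]
      · rw [if_neg (Ne.symm h), if_neg h, map_zero]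
    have hjA : IsBaseChange A (j.restrictScalars A₀) := (DevFlat.isBaseChange_iff (A := A₀) (A' := A) j).1 hj
    let F : E →ₗ[A] ResidueField A' := hjA.lift F₀
    have hFm : ∀ x ∈ maximalIdeal A • (⊤ : Submodule A E), F x = 0 := fun x hx => by
      refine Submodule.smul_induction_on hx (fun w hw z _ => ?_) fun a b ha hb => by rw [map_add, ha, hb, add_zero]
      rw [map_smul, ← algebraMap_smul A' w, Algebra.smul_def, ResidueField.algebraMap_eq,
        (residue_eq_zero_iff _).2 (Ideal.map_le_iff_le_comap.1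
          (((local_hom_TFAE (algebraMap A A')).out 0 2).1 ‹IsLocalHom (algebraMap A A')›) hw), zero_mul]
    have h5 := hFm _ hse
    rw [show algebraMap P₀ P s₀ • eA = ∑ l ∈ c.support, a (c l) • j (s₀ • e' l) by
      rw [Finset.smul_sum]
      refine Finset.sum_congr rfl fun l _ => ?_
      rw [j.map_smul s₀ (e' l), ← algebraMap_smul P s₀ (j (e' l))]
      exact smul_comm _ _ _, map_sum] at h5
    have h6 : ∀ l ∈ c.support, F (a (c l) • j (s₀ • e' l)) =
        a (c l) • (if l = i then (1 : ResidueField A') else 0) := fun l hl => by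
      rw [map_smul, ← hF₀ l (Finset.mem_insert_of_mem hl)]
      congr 1
      exact hjA.lift_eq F₀ _
    rw [Finset.sum_congr rfl h6] at h5
    by_cases hi : i ∈ c.support
    · simp only [smul_ite, smul_zero, Finset.sum_ite_eq', hi, if_true] at h5
      rw [← algebraMap_smul A' (a (c i)), Algebra.smul_def, mul_one, ResidueField.algebraMap_eq, residue_eq_zero_iff] at h5
      have := add_mem (ha (c i)) h5
      rwa [sub_add_cancel] at this
    · rw [Finsupp.notMem_support_iff.1 hi]
      exact zero_mem _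
  -- the local model
  obtain ⟨PR, _, _, _, _, lS, hlS⟩ := exists_localizedModule qS.primeCompl (S ⊗[P₀] E₀)
  haveI := hlS
  let BR := Localization.AtPrime qS
  haveI : IsNoetherianRing BR := IsLocalization.isNoetherianRing qS.primeCompl _ inferInstance
  haveI : Module.Finite BR PR := Module.Finite.of_isLocalizedModule qS.primeCompl lS
  letI : Module R PR := Module.compHom PR (algebraMap R S)
  haveI : IsScalarTower R S PR := IsScalarTower.of_algebraMap_smul fun _ _ => rfl
  haveI : IsScalarTower R BR PR := IsScalarTower.of_algebraMap_smul fun x y => by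
    rw [IsScalarTower.algebraMap_apply R S BR, algebraMap_smul, algebraMap_smul]
  have hB : (maximalIdeal R).map (algebraMap R BR) ≤ Ideal.jacobson ⊥ := by
    rw [IsLocalRing.jacobson_eq_maximalIdeal _ bot_ne_top, Ideal.map_le_iff_le_comap]
    intro x hx
    rw [Ideal.mem_comap, IsScalarTower.algebraMap_apply R S BR]
    exact (IsLocalization.AtPrime.to_map_mem_maximal_iff BR qS _).2 (hmR x hx)
  have huPR : ∀ w : WS, IsUnit (algebraMap S (Module.End S PR) w) := fun w =>
    IsLocalizedModule.map_units lS (⟨w, hWS w.2⟩ : qS.primeCompl)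
  let l : PR' →ₗ[S] PR := IsLocalizedModule.lift WS lS' lS huPR
  have hl : ∀ x, l (lS' x) = lS x := IsLocalizedModule.lift_apply WS lS' lS huPR
  -- the truncations agree
  have hscale : ∀ (w : S), w ∈ qS.primeCompl → ∃ c : S, c ∈ WS ∧ w - c ∈ m.map (algebraMap R S) := fun w hw => by
    obtain ⟨w₀, hw₀⟩ := hS w
    refine ⟨_, ⟨w₀, fun h => hw ?_, rfl⟩, hw₀⟩
    have := add_mem (Ideal.map_le_iff_le_comap.2 hmR hw₀) ((hqS w₀).2 h)
    rwa [sub_add_cancel] at this
  have hsurjmod : ∀ (n : ℕ) (x : PR' ), l x ∈ m ^ n • (⊤ : Submodule R PR) → x ∈ m ^ n • (⊤ : Submodule R PR') := by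
    intro n x hx
    have key : ∀ z ∈ m ^ n • (⊤ : Submodule R PR), ∃ w ∈ qS.primeCompl, ∃ x' ∈ m ^ n • (⊤ : Submodule R PR'), l x' = w • z := by
      intro z hz
      refine Submodule.smul_induction_on hz (fun c hc z _ => ?_) fun z z' h h' => ?_
      · obtain ⟨⟨z₀, w⟩, hw⟩ := IsLocalizedModule.surj qS.primeCompl lS z
        refine ⟨w, w.2, c • lS' z₀, Submodule.smul_mem_smul hc Submodule.mem_top, ?_⟩
        rw [LinearMap.map_smul_of_tower, hl, ← hw, smul_comm]
        rfl
      · obtain ⟨w, hw, x, hx, hxz⟩ := h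
        obtain ⟨w', hw', x', hx', hxz'⟩ := h'
        refine ⟨w * w', qS.primeCompl.mul_mem hw hw', w' • x + w • x', ?_, ?_⟩
        · rw [mem_smul_top_iff (B := S)] at hx hx' ⊢
          exact add_mem (Submodule.smul_mem _ _ hx) (Submodule.smul_mem _ _ hx')
        · rw [map_add, map_smul, map_smul, hxz, hxz', smul_smul, smul_smul, smul_add, mul_comm w' w]
    obtain ⟨w, hw, x', hx', hxl⟩ := key _ hx
    obtain ⟨⟨z₀, c₁⟩, hz₀⟩ := IsLocalizedModule.surj WS lS' (w • x - x')
    have h0 : lS z₀ = 0 := by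
      rw [← hl, ← show (c₁ : S) • (w • x - x') = lS' z₀ from hz₀, map_smul, map_sub, map_smul, hxl, sub_self, smul_zero]
    obtain ⟨⟨d, hd⟩, hdz⟩ := (IsLocalizedModule.eq_zero_iff qS.primeCompl lS).1 h0
    simp only [Submonoid.mk_smul] at hdz
    have h1 : (d * c₁ * w) • x = (d * c₁) • x' := by
      rw [mul_smul, ← sub_eq_zero, ← smul_sub, mul_smul,
        show (c₁ : S) • (w • x - x') = lS' z₀ from hz₀, ← map_smul, hdz, map_zero]
    have h2 : (d * c₁ * w) • x ∈ m ^ n • (⊤ : Submodule R PR') := by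
      rw [h1, mem_smul_top_iff (B := S)]
      exact Submodule.smul_mem _ _ ((mem_smul_top_iff (B := S) _ _).1 hx')
    obtain ⟨c, hc, hwc⟩ := hscale (d * c₁ * w)
      (qS.primeCompl.mul_mem (qS.primeCompl.mul_mem hd (hWS c₁.2)) hw)
    refine mem_pow_smul_of_smul_mem (B := B') m (w := algebraMap S B' (d * c₁ * w)) (c := algebraMap S B' c)
      (IsLocalization.map_units B' ⟨c, hc⟩) ?_ n (by rwa [algebraMap_smul])
    rw [← map_sub, IsScalarTower.algebraMap_eq R S B', ← Ideal.map_map]
    exact Ideal.mem_map_of_mem _ hwc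
  let b' : ι → PR := fun i => l (b i)
  have hlc : ∀ x : ι →₀ R, Finsupp.linearCombination R b' x = l (Finsupp.linearCombination R b x) := fun x => by
    rw [Finsupp.linearCombination_apply, Finsupp.linearCombination_apply, Finsupp.sum, Finsupp.sum, map_sum]
    exact Finset.sum_congr rfl fun i _ => (LinearMap.map_smul_of_tower l _ _).symm
  have hgen' : LinearMap.range (Finsupp.linearCombination R b') ⊔ m • (⊤ : Submodule R PR) = ⊤ := by
    rw [eq_top_iff]
    intro z _
    obtain ⟨⟨z₀, w⟩, hw⟩ := IsLocalizedModule.surj qS.primeCompl lS z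
    obtain ⟨c, hc, hwc⟩ := hscale w w.2
    obtain ⟨c₂, hc₂⟩ := IsLocalizedModule.map_units lS' (⟨c, hc⟩ : WS)
    let x := (↑c₂⁻¹ : Module.End S PR') (lS' z₀)
    have hcx : c • x = lS' z₀ := by
      show algebraMap S (Module.End S PR') c ((↑c₂⁻¹ : Module.End S PR') (lS' z₀)) = _
      rw [← hc₂, ← Module.End.mul_apply, Units.mul_inv, Module.End.one_apply]
    have hzx : z - l x ∈ m • (⊤ : Submodule R PR) := by
      have h1 : ((w : S) - c) • z ∈ m • (⊤ : Submodule R PR) :=
        (mem_smul_top_iff (B := S) m _).2 (Submodule.smul_mem_smul hwc Submodule.mem_top)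
      have h2 : c • (l x - z) = ((w : S) - c) • z := by
        rw [smul_sub, ← map_smul, hcx, hl, sub_smul, show (w : S) • z = lS z₀ from hw]
      obtain ⟨v, hv⟩ := huPR ⟨c, hc⟩
      have h3 : (↑v⁻¹ : Module.End S PR) (c • (l x - z)) = l x - z := by
        show (↑v⁻¹ : Module.End S PR) (algebraMap S (Module.End S PR) c (l x - z)) = _
        rw [← hv, ← Module.End.mul_apply, Units.inv_mul, Module.End.one_apply]
      rw [← neg_sub, neg_mem_iff, ← h3, h2]
      exact map_smul_top_mem ((↑v⁻¹ : Module.End S PR).restrictScalars R) m h1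
    obtain ⟨_, ⟨k, rfl⟩, r, hr, hkr⟩ := Submodule.mem_sup.1 (hgen.ge (Submodule.mem_top (x := x)))
    refine Submodule.mem_sup.2 ⟨_, ⟨k, rfl⟩, z - l x + l r, add_mem hzx (map_smul_top_mem (l.restrictScalars R) m hr), ?_⟩
    rw [hlc, ← hkr, map_add]
    abel
  have hcoef : ∀ n, coefIdeal b' n ≤ RingHom.ker (algebraMap R A') ⊔ m ^ (n + 1) := fun n => by
    refine sup_le le_sup_right (Ideal.span_le.2 ?_)
    rintro _ ⟨x, i, hx, rfl⟩
    rw [hlc] at hx
    exact coefIdeal_le_ker (B := B') (A := A') (g := g) hgen hli n (coef_mem_coefIdeal b (hsurjmod _ _ hx) i)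
  let K := RingHom.ker (algebraMap R A')
  haveI hK : Module.Flat (R ⧸ K) ((R ⧸ K) ⊗[R] PR) :=
    FlatteningIdeal.flatMod_of_truncations (B := BR) hB _ fun n => flatMod_of_coefIdeal_le b' hgen' (hcoef n)
  letI : Algebra (R ⧸ K) A' := (Ideal.Quotient.lift K (algebraMap R A') fun _ h => h).toAlgebra
  haveI : IsScalarTower R (R ⧸ K) A' := IsScalarTower.of_algebraMap_eq fun _ => rfl
  haveI : Module.Flat A' (A' ⊗[R] PR) :=
    Module.Flat.of_linearEquiv (AlgebraTensorModule.cancelBaseChange R (R ⧸ K) A' A' PR).symm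
  let WT := Algebra.algebraMapSubmonoid T qS.primeCompl
  haveI : Module.Flat A' (LocalizedModule WT (T ⊗[S] (S ⊗[P₀] E₀))) :=
    (FlatSpread.flat_localized_baseChange (R := R) (A := A') (T := T) qS.primeCompl lS).2 inferInstance
  have h1 : FlatCA.FlatAt A' qT (T ⊗[S] (S ⊗[P₀] E₀)) :=
    FlatModel.flat_localized_mono (L₁ := LocalizedModule WT (T ⊗[S] (S ⊗[P₀] E₀)))
      (L₂ := LocalizedModule qT.primeCompl (T ⊗[S] (S ⊗[P₀] E₀))) WT qT.primeCompl
      (fun x hx => ⟨1, by rw [one_mul]; obtain ⟨w, hw, rfl⟩ := hx; exact hw⟩)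
      (LocalizedModule.mkLinearMap WT (T ⊗[S] (S ⊗[P₀] E₀)))
      (LocalizedModule.mkLinearMap qT.primeCompl (T ⊗[S] (S ⊗[P₀] E₀)))
  let eT : T ⊗[S] (S ⊗[P₀] E₀) ≃ₗ[T] T ⊗[P] E :=
    (AlgebraTensorModule.cancelBaseChange P₀ S T T E₀).trans
      ((AlgebraTensorModule.cancelBaseChange P₀ P T T E₀).symm.trans
        (LinearEquiv.baseChange P T _ _ hj.equiv))
  haveI h2 : Module.Flat A' (LocalizedModule qT.primeCompl (T ⊗[P] E)) := RG.flatAt_congr qT eT h1
  haveI h3 : Module.Flat A (LocalizedModule qT.primeCompl (T ⊗[P] E)) := Module.Flat.trans A A' _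
  haveI : Algebra.IsPushout A P A' T := Algebra.IsPushout.symm ‹Algebra.IsPushout A A' P T›
  haveI : Module.Flat P T := Module.Flat.of_linearEquiv (Algebra.IsPushout.equiv A P A' T).symm.toLinearEquiv
  exact RG.flatAt_of_baseChange qT q ⟨hqT.symm⟩ h3

end

end Groth.Agent.UnivInjMod
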