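import Groth.Agent.UnivInjMod.Main
import Groth.Agent.UnivInjMod.LinearFlat

/-!
Injectivity over nilpotent thickenings of a point where a map is injective.
-/

set_option autoImplicit false
set_option linter.style.haveILetI false
set_option linter.unusedSectionVars false
set_option backward.isDefEq.respectTransparency false

universe u

open TensorProduct IsLocalRing

namespace Groth.Agent.UnivInjMod

variable {A : Type u} [CommRing A]

/-- Families of a flat module independent at a point are independent against modules supported at that point. -/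
theorem eq_zero_of_indep {M Q : Type u} [AddCommGroup M] [Module A M] [Module.Flat A M] [AddCommGroup Q] [Module A Q]
    (q : Ideal A) [q.IsPrime] (hQ : ∀ a ∉ q, Function.Bijective fun x : Q => a • x) {r : ℕ} (v : Fin r → M)
    (hv : LinearIndependent q.ResidueField fun i => (1 : q.ResidueField) ⊗ₜ[A] v i)
    (c : Fin r → Q) (h : ∑ i, c i ⊗ₜ[A] v i = 0) (i : Fin r) : c i = 0 := by
  classical
  let Aq := Localization.AtPrime q
  let Mq := Aq ⊗[A] M
  let u' : (Fin r → Aq) →ₗ[Aq] Mq := Fintype.linearCombination Aq fun l => (1 : Aq) ⊗ₜ[A] v l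
  have hu' : ∀ x, u' x ∈ maximalIdeal Aq • (⊤ : Submodule Aq Mq) →
      x ∈ maximalIdeal Aq • (⊤ : Submodule Aq (Fin r → Aq)) := by
    intro x hx
    let red : Mq →ₗ[Aq] q.ResidueField ⊗[A] M :=
      AlgebraTensorModule.map (Algebra.linearMap Aq q.ResidueField) LinearMap.id
    have hred : ∀ z ∈ maximalIdeal Aq • (⊤ : Submodule Aq Mq), red z = 0 := fun z hz => by
      refine Submodule.smul_induction_on hz (fun c hc w _ => ?_) fun a b ha hb => by rw [map_add, ha, hb, add_zero]
      rw [map_smul, ← algebraMap_smul q.ResidueField c (red w),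
        show algebraMap Aq q.ResidueField c = 0 from (residue_eq_zero_iff c).2 hc, zero_smul]
    have h0 := hred _ hx
    rw [Fintype.linearCombination_apply, map_sum] at h0
    have h1 : ∑ l, algebraMap Aq q.ResidueField (x l) • ((1 : q.ResidueField) ⊗ₜ[A] v l) = 0 := by
      rw [← h0]
      refine Finset.sum_congr rfl fun l _ => ?_
      rw [map_smul, algebraMap_smul]
      congr 1
    have h2 := Fintype.linearIndependent_iff.1 hv _ h1
    rw [pi_eq_sum_univ' x]
    exact Submodule.sum_mem _ fun l _ => Submodule.smul_mem_smul ((residue_eq_zero_iff _).1 (h2 l)) Submodule.mem_top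
  haveI : Algebra.EssFiniteType Aq Aq := inferInstance
  haveI : IsLocalHom (algebraMap Aq Aq) := ⟨fun _ h => by simpa using h⟩
  obtain ⟨hui, -, -⟩ := criterion (A := Aq) (B := Aq) u' hu'
  let Q' := Aq ⊗[A] Q
  let cq : Fin r → Q' := fun l => (1 : Aq) ⊗ₜ[A] c l
  let z : (Fin r → Aq) ⊗[Aq] Q' := ∑ l, (Pi.single l (1 : Aq) : Fin r → Aq) ⊗ₜ[Aq] cq l
  have hz : (u'.restrictScalars Aq).rTensor Q' z = 0 := by
    let Ψ : Q ⊗[A] M →ₗ[A] Mq ⊗[Aq] Q' := TensorProduct.lift
      (LinearMap.mk₂ A (fun x m => ((1 : Aq) ⊗ₜ[A] m) ⊗ₜ[Aq] ((1 : Aq) ⊗ₜ[A] x))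
        (fun x x' m => by simp only [tmul_add])
        (fun a x m => by rw [tmul_smul (R := A), tmul_smul])
        (fun x m m' => by simp only [tmul_add, add_tmul])
        (fun a x m => by rw [tmul_smul (R := A), ← smul_tmul']))
    have h1 := congrArg Ψ h
    rw [map_sum, map_zero] at h1
    rw [map_sum]
    refine (Finset.sum_congr rfl fun l _ => ?_).trans h1
    rw [LinearMap.rTensor_tmul]
    congr 1
    show u' (Pi.single l 1) = _
    rw [Fintype.linearCombination_apply_single, one_smul]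
  have hz0 : z = 0 := hui Q' (hz.trans (map_zero _).symm)
  have hci : cq i = 0 := by
    have := congrArg ((TensorProduct.lid Aq Q').toLinearMap ∘ₗ LinearMap.rTensor Q' (LinearMap.proj i : (Fin r → Aq) →ₗ[Aq] Aq)) hz0
    simp only [z, map_sum, map_zero, LinearMap.comp_apply, LinearEquiv.coe_coe, LinearMap.rTensor_tmul,
      LinearMap.proj_apply, TensorProduct.lid_tmul] at this
    rw [Finset.sum_eq_single i (fun l _ hl => by simp [Pi.single_apply, hl.symm]) (by simp)] at this
    simpa using this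
  haveI : IsLocalizedModule q.primeCompl (TensorProduct.mk A Aq Q 1) :=
    (isLocalizedModule_iff_isBaseChange q.primeCompl Aq _).2 (TensorProduct.isBaseChange A Q Aq)
  obtain ⟨⟨t, ht⟩, htc⟩ := (IsLocalizedModule.eq_zero_iff q.primeCompl (TensorProduct.mk A Aq Q 1)).1 hci
  exact (hQ t ht).1 (htc.trans (smul_zero t).symm)

/-- Elements killed at a point after localisation have a common multiplier. -/
theorem exists_point_killer {P Pk k : Type u} [CommRing P] [Algebra A P] [CommRing k] [Algebra A k] [CommRing Pk]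
    [IsNoetherianRing Pk] [Algebra k Pk] [Algebra P Pk] [Algebra A Pk] [IsScalarTower A P Pk] [IsScalarTower A k Pk]
    [Algebra.IsPushout A k P Pk]
    {E N : Type u} [AddCommGroup E] [Module A E] [Module P E]
    [IsScalarTower A P E] [Module.Finite P E] [AddCommGroup N]
    [Module A N] [Module P N] [IsScalarTower A P N]
    (W : Submonoid P) (loc : E →ₗ[P] N) [IsLocalizedModule W loc] :
    ∃ s ∈ W, ∀ z : k ⊗[A] E, (loc.restrictScalars A).lTensor k z = 0 →
      ((algebraMap P (Module.End P E) s).restrictScalars A).lTensor k z = 0 := by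
  classical
  let eE := Algebra.IsPushout.cancelBaseChange A k P Pk E
  let eN := Algebra.IsPushout.cancelBaseChange A k P Pk N
  haveI : IsLocalizedModule (Algebra.algebraMapSubmonoid Pk W) (loc.baseChange Pk) :=
    FlatSpread.isLocalizedModule_baseChange W loc
  have hnat : ∀ z : k ⊗[A] E, loc.baseChange Pk (eE.symm z) = eN.symm ((loc.restrictScalars A).lTensor k z) := by
    intro z
    induction z using TensorProduct.induction_on with
    | zero => simp
    | tmul x e => simp [eE, eN]
    | add a b ha hb => simp only [map_add, ha, hb]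
  haveI : IsNoetherian Pk (Pk ⊗[P] E) := isNoetherian_of_isNoetherianRing_of_finite Pk _
  obtain ⟨G, hG⟩ := IsNoetherian.noetherian (LinearMap.ker (loc.baseChange Pk))
  have hker : ∀ g : G, ∃ w ∈ W, w • g.1 = 0 := fun g => by
    obtain ⟨⟨_, w, hw, rfl⟩, hwg⟩ := (IsLocalizedModule.eq_zero_iff (Algebra.algebraMapSubmonoid Pk W)
      (loc.baseChange Pk)).1 (LinearMap.mem_ker.1 (hG ▸ Submodule.subset_span g.2))
    exact ⟨w, hw, by rwa [Submonoid.smul_def, algebraMap_smul] at hwg⟩
  choose w hw hwg using hker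
  refine ⟨∏ g, w g, prod_mem fun g _ => hw g, fun z hz => ?_⟩
  have h1 : eE.symm z ∈ LinearMap.ker (loc.baseChange Pk) := by
    rw [LinearMap.mem_ker, hnat, hz, map_zero]
  rw [← hG] at h1
  have h2 : ∀ y ∈ Submodule.span Pk (G : Set (Pk ⊗[P] E)), (∏ g, w g) • y = 0 := by
    intro y hy
    induction hy using Submodule.span_induction with
    | mem y hy => rw [← Finset.prod_erase_mul _ w (Finset.mem_univ ⟨y, hy⟩), mul_smul, hwg ⟨y, hy⟩, smul_zero]
    | zero => exact smul_zero _
    | add a b _ _ ha hb => rw [smul_add, ha, hb, add_zero]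
    | smul c a _ ha => rw [smul_comm, ha, smul_zero]
  have hnat' : ∀ (s : P) (z : k ⊗[A] E),
      eE.symm (((algebraMap P (Module.End P E) s).restrictScalars A).lTensor k z) = s • eE.symm z := by
    intro s z
    induction z using TensorProduct.induction_on with
    | zero => simp
    | tmul x e => simp [eE]
    | add a b ha hb => simp only [map_add, ha, hb, smul_add]
  refine eE.symm.injective ?_
  rw [hnat', h2 _ h1, map_zero]

section Model

variable {A₁ P₁ P : Type u} [CommRing A₁] [CommRing P₁] [CommRing P] [Algebra A P] [Algebra A₁ A] [Algebra A₁ P₁]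
  [Algebra A₁ P] [Algebra P₁ P] [IsScalarTower A₁ A P] [IsScalarTower A₁ P₁ P] [Algebra.IsPushout A₁ A P₁ P]
  {E₁ E N U : Type u} [AddCommGroup E₁] [Module A₁ E₁] [Module P₁ E₁] [IsScalarTower A₁ P₁ E₁]
  [AddCommGroup E] [Module A E] [Module P E] [IsScalarTower A P E] [Module A₁ E] [IsScalarTower A₁ A E]
  [Module P₁ E] [IsScalarTower P₁ P E] [IsScalarTower A₁ P₁ E]
  [AddCommGroup N] [Module A N] [Module P N] [IsScalarTower A P N] [Module A₁ N] [IsScalarTower A₁ A N]
  [Module P₁ N] [IsScalarTower P₁ P N] [IsScalarTower A₁ P₁ N]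
  [AddCommGroup U] [Module A₁ U] [Module P₁ U] [IsScalarTower A₁ P₁ U]
  (j : E₁ →ₗ[P₁] E) (loc : E →ₗ[P] N) {s₁ : P₁} {s : P}
  (lU : E₁ →ₗ[P₁] U) [IsLocalizedModule (Submonoid.powers s₁) lU]
  (ι₁ : U →ₗ[P₁] N)

/-- The fibre of the localised model embeds. -/
theorem injective_fibre (hj : IsBaseChange P j) (hs₁ : algebraMap P₁ P s₁ = s) (hι₁ : ∀ e₁, ι₁ (lU e₁) = loc (j e₁))
    (κ : Type u) [CommRing κ] [Algebra A κ] [Algebra A₁ κ] [IsScalarTower A₁ A κ]
    (hs : ∀ z : κ ⊗[A] E, (loc.restrictScalars A).lTensor κ z = 0 →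
      ((algebraMap P (Module.End P E) s).restrictScalars A).lTensor κ z = 0)
    (ικ : κ ⊗[A₁] U →ₗ[κ] κ ⊗[A] N) (hικ : ∀ x, ικ (1 ⊗ₜ x) = 1 ⊗ₜ[A] ι₁ x) : Function.Injective ικ := by
  have hjA : IsBaseChange A (j.restrictScalars A₁) := (DevFlat.isBaseChange_iff (A := A₁) (A' := A) j).1 hj
  rw [injective_iff_map_eq_zero]
  intro z hz
  let eE : κ ⊗[A₁] E₁ ≃ₗ[κ] κ ⊗[A] E :=
    (AlgebraTensorModule.cancelBaseChange A₁ A κ κ _).symm.trans (LinearEquiv.baseChange A κ _ _ hjA.equiv)
  have heE : ∀ x, eE (1 ⊗ₜ x) = 1 ⊗ₜ[A] j x := fun x => by simp [eE, LinearEquiv.baseChange, IsBaseChange.equiv_tmul]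
  have hrep : ∀ z : κ ⊗[A₁] U, ∃ (L : ℕ) (z₁ : κ ⊗[A₁] E₁),
      ((algebraMap P₁ (Module.End P₁ U) (s₁ ^ L)).restrictScalars A₁).lTensor κ z =
        (lU.restrictScalars A₁).lTensor κ z₁ := by
    intro z
    induction z using TensorProduct.induction_on with
    | zero => exact ⟨0, 0, by simp⟩
    | tmul x y =>
      obtain ⟨⟨e, ⟨_, L, rfl⟩⟩, he⟩ := IsLocalizedModule.surj (Submonoid.powers s₁) lU y
      refine ⟨L, x ⊗ₜ e, ?_⟩
      rw [LinearMap.lTensor_tmul, LinearMap.lTensor_tmul]
      exact congrArg (x ⊗ₜ[A₁] ·) he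
    | add y y' h h' =>
      obtain ⟨L, z₁, hz₁⟩ := h
      obtain ⟨L', z₂, hz₂⟩ := h'
      refine ⟨L + L', ((algebraMap P₁ (Module.End P₁ _) (s₁ ^ L')).restrictScalars A₁).lTensor κ z₁ +
        ((algebraMap P₁ (Module.End P₁ _) (s₁ ^ L)).restrictScalars A₁).lTensor κ z₂, ?_⟩
      have hcomm : ∀ (m : ℕ), (lU.restrictScalars A₁) ∘ₗ (algebraMap P₁ (Module.End P₁ _) (s₁ ^ m)).restrictScalars A₁ =
          (algebraMap P₁ (Module.End P₁ U) (s₁ ^ m)).restrictScalars A₁ ∘ₗ lU.restrictScalars A₁ := fun m => by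
        ext x
        simp only [LinearMap.comp_apply, LinearMap.coe_restrictScalars, Module.algebraMap_end_apply, map_smul]
      have hmul : ∀ m m' : ℕ, (algebraMap P₁ (Module.End P₁ U) (s₁ ^ (m + m'))).restrictScalars A₁ =
          (algebraMap P₁ (Module.End P₁ U) (s₁ ^ m')).restrictScalars A₁ ∘ₗ
            (algebraMap P₁ (Module.End P₁ U) (s₁ ^ m)).restrictScalars A₁ := fun m m' => by
        ext x
        simp [pow_add, mul_comm (s₁ ^ m), mul_smul]
      rw [map_add, map_add, ← LinearMap.lTensor_comp_apply, ← LinearMap.lTensor_comp_apply, hcomm, hcomm,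
        LinearMap.lTensor_comp_apply, LinearMap.lTensor_comp_apply, ← hz₁, ← hz₂,
        ← LinearMap.lTensor_comp_apply, ← LinearMap.lTensor_comp_apply, ← hmul, ← hmul, add_comm L' L]
  obtain ⟨L, z₁, hz₁⟩ := hrep z
  have hnat : ∀ z₁, ικ ((lU.restrictScalars A₁).lTensor κ z₁) = (loc.restrictScalars A).lTensor κ (eE z₁) := by
    intro z₁
    induction z₁ using TensorProduct.induction_on with
    | zero => simp
    | tmul x e =>
      rw [LinearMap.lTensor_tmul, show x = x • (1 : κ) by simp, ← smul_tmul', map_smul, hικ, ← smul_tmul',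
        map_smul, heE]
      rw [show (loc.restrictScalars A).lTensor κ (x • ((1 : κ) ⊗ₜ[A] j e)) =
        x • (loc.restrictScalars A).lTensor κ ((1 : κ) ⊗ₜ[A] j e) from
        ((loc.restrictScalars A).baseChange κ).map_smul x _, LinearMap.lTensor_tmul]
      congr 2
      exact hι₁ e
    | add p p' h h' => simp only [map_add, h, h']
  have hsm : ∀ (m : ℕ) (z : κ ⊗[A₁] U), ικ (((algebraMap P₁ (Module.End P₁ U) (s₁ ^ m)).restrictScalars A₁).lTensor κ z) =
      ((algebraMap P (Module.End P N) (s ^ m)).restrictScalars A).lTensor κ (ικ z) := by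
    intro m z
    induction z using TensorProduct.induction_on with
    | zero => simp
    | tmul x y =>
      rw [LinearMap.lTensor_tmul, show x = x • (1 : κ) by simp, ← smul_tmul', ← smul_tmul', map_smul, map_smul, hικ,
        hικ]
      rw [show ((algebraMap P (Module.End P N) (s ^ m)).restrictScalars A).lTensor κ (x • ((1 : κ) ⊗ₜ[A] ι₁ y)) =
        x • ((algebraMap P (Module.End P N) (s ^ m)).restrictScalars A).lTensor κ ((1 : κ) ⊗ₜ[A] ι₁ y) from
        (((algebraMap P (Module.End P N) (s ^ m)).restrictScalars A).baseChange κ).map_smul x _,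
        LinearMap.lTensor_tmul]
      congr 2
      simp only [LinearMap.coe_restrictScalars, Module.algebraMap_end_apply, map_smul]
      rw [← algebraMap_smul P (s₁ ^ m), map_pow, hs₁]
    | add p p' h h' => simp only [map_add, h, h']
  have h1 : (loc.restrictScalars A).lTensor κ (eE z₁) = 0 := by
    rw [← hnat, ← hz₁, hsm, hz, map_zero]
  have hsnat : ∀ z₁, ((algebraMap P (Module.End P E) s).restrictScalars A).lTensor κ (eE z₁) =
      eE (((algebraMap P₁ (Module.End P₁ _) s₁).restrictScalars A₁).lTensor κ z₁) := by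
    intro z₁
    induction z₁ using TensorProduct.induction_on with
    | zero => simp
    | tmul x e =>
      rw [LinearMap.lTensor_tmul, show x = x • (1 : κ) by simp, ← smul_tmul', ← smul_tmul', eE.map_smul, eE.map_smul,
        heE, heE]
      rw [show ((algebraMap P (Module.End P E) s).restrictScalars A).lTensor κ (x • ((1 : κ) ⊗ₜ[A] j e)) =
        x • ((algebraMap P (Module.End P E) s).restrictScalars A).lTensor κ ((1 : κ) ⊗ₜ[A] j e) from
        (((algebraMap P (Module.End P E) s).restrictScalars A).baseChange κ).map_smul x _,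
        LinearMap.lTensor_tmul]
      congr 2
      simp only [LinearMap.coe_restrictScalars, Module.algebraMap_end_apply, map_smul]
      rw [← algebraMap_smul P s₁, hs₁]
    | add p p' h h' => simp only [map_add, h, h']
  have h2 := hs _ h1
  rw [hsnat, LinearEquiv.map_eq_zero_iff] at h2
  have h3 : ((algebraMap P₁ (Module.End P₁ U) (s₁ ^ (L + 1))).restrictScalars A₁).lTensor κ z = 0 := by
    have hmul : (algebraMap P₁ (Module.End P₁ U) (s₁ ^ (L + 1))).restrictScalars A₁ =
        (algebraMap P₁ (Module.End P₁ U) s₁).restrictScalars A₁ ∘ₗ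
          (algebraMap P₁ (Module.End P₁ U) (s₁ ^ L)).restrictScalars A₁ := by
      ext x
      simp [pow_succ', mul_smul]
    have hcomm : (algebraMap P₁ (Module.End P₁ U) s₁).restrictScalars A₁ ∘ₗ lU.restrictScalars A₁ =
        lU.restrictScalars A₁ ∘ₗ (algebraMap P₁ (Module.End P₁ _) s₁).restrictScalars A₁ := by
      ext x
      simp
    rw [hmul, LinearMap.lTensor_comp_apply, hz₁, ← LinearMap.lTensor_comp_apply, hcomm,
      LinearMap.lTensor_comp_apply, h2, map_zero]
  obtain ⟨v, hv⟩ := IsLocalizedModule.map_units lU (⟨s₁ ^ (L + 1), L + 1, rfl⟩ : Submonoid.powers s₁)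
  have h4 : ((↑v⁻¹ : Module.End P₁ U).restrictScalars A₁) ∘ₗ
      (algebraMap P₁ (Module.End P₁ U) (s₁ ^ (L + 1))).restrictScalars A₁ = LinearMap.id := by
    ext x
    simp only [LinearMap.comp_apply, LinearMap.coe_restrictScalars, LinearMap.id_apply]
    show (↑v⁻¹ : Module.End P₁ U) (algebraMap P₁ (Module.End P₁ U) (s₁ ^ (L + 1)) x) = x
    rw [← hv, ← Module.End.mul_apply, Units.inv_mul, Module.End.one_apply]
  rw [← LinearMap.id_apply (R := A₁) z, ← LinearMap.lTensor_id κ U, ← h4, LinearMap.lTensor_comp_apply, h3, map_zero]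

variable (q : Ideal A) [q.IsPrime]

/-- Injectivity against modules killed by a power of the ideal of the stage. -/
theorem injective_lTensor_of_model [IsNoetherianRing A₁] (W : Submonoid P) [IsLocalizedModule W loc]
    (hj : IsBaseChange P j) (hι₁ : ∀ e₁, ι₁ (lU e₁) = loc (j e₁))
    (hinj : ∀ ικ : q.ResidueField ⊗[A₁] U →ₗ[q.ResidueField] q.ResidueField ⊗[A] N,
      (∀ x, ικ (1 ⊗ₜ x) = 1 ⊗ₜ[A] ι₁ x) → Function.Injective ικ)
    {M : Type u} [AddCommGroup M] [Module A M] [Module.Flat A M] (u : N →ₗ[A] M)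
    (hgood : Function.Injective (u.lTensor q.ResidueField))
    (Q : Type u) [AddCommGroup Q] [Module A Q] (hQ : ∀ a ∉ q, Function.Bijective fun x : Q => a • x) (k : ℕ)
    (hk : (q.comap (algebraMap A₁ A)).map (algebraMap A₁ A) ^ k • (⊤ : Submodule A Q) = ⊥) :
    Function.Injective (u.lTensor Q) := by
  classical
  have hjA : IsBaseChange A (j.restrictScalars A₁) := (DevFlat.isBaseChange_iff (A := A₁) (A' := A) j).1 hj
  let κ := q.ResidueField
  let q₁ : Ideal A₁ := q.comap (algebraMap A₁ A)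
  let κ₁ := q₁.ResidueField
  letI : Algebra κ₁ κ := (Ideal.ResidueField.map q₁ q (algebraMap A₁ A) rfl).toAlgebra
  haveI : IsScalarTower A₁ κ₁ κ := IsScalarTower.of_algebraMap_eq fun x => by
    rw [RingHom.algebraMap_toAlgebra, Ideal.ResidueField.map_algebraMap, ← IsScalarTower.algebraMap_apply A₁ A κ]
  let ικ : κ ⊗[A₁] U →ₗ[κ] κ ⊗[A] N := (TensorProduct.isBaseChange A₁ U κ).lift
    ((TensorProduct.mk A κ N 1).restrictScalars A₁ ∘ₗ ι₁.restrictScalars A₁)
  have hικ : ∀ x, ικ (1 ⊗ₜ x) = 1 ⊗ₜ[A] ι₁ x := (TensorProduct.isBaseChange A₁ U κ).lift_eq _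
  replace hinj := hinj ικ hικ
  -- a basis of the fibre of the model
  let bs := Module.Free.chooseBasis κ₁ (κ₁ ⊗[A₁] U)
  let ι := Module.Free.ChooseBasisIndex κ₁ (κ₁ ⊗[A₁] U)
  have hscale : ∀ z : κ₁ ⊗[A₁] U, ∃ c ∉ q₁, ∃ x : U, c • z = 1 ⊗ₜ x := by
    intro z
    induction z using TensorProduct.induction_on with
    | zero => exact ⟨1, q₁.one_notMem, 0, by simp⟩
    | tmul t x =>
      obtain ⟨⟨r, ⟨d, hd⟩⟩, hrd⟩ := IsLocalization.surj (nonZeroDivisors (A₁ ⧸ q₁)) t
      obtain ⟨r, rfl⟩ := Ideal.Quotient.mk_surjective r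
      obtain ⟨d, rfl⟩ := Ideal.Quotient.mk_surjective d
      refine ⟨d, fun h => nonZeroDivisors.ne_zero hd (Ideal.Quotient.eq_zero_iff_mem.2 h), r • x, ?_⟩
      rw [← TensorProduct.smul_tmul, ← Algebra.algebraMap_eq_smul_one, TensorProduct.smul_tmul', Algebra.smul_def,
        mul_comm, IsScalarTower.algebraMap_apply A₁ (A₁ ⧸ q₁) κ₁, IsScalarTower.algebraMap_apply A₁ (A₁ ⧸ q₁) κ₁]
      congr 1
    | add z z' h h' =>
      obtain ⟨c, hc, x, hx⟩ := h
      obtain ⟨c', hc', x', hx'⟩ := h'
      refine ⟨c * c', fun hm => (Ideal.IsPrime.mem_or_mem inferInstance hm).elim hc hc', c' • x + c • x', ?_⟩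
      rw [tmul_add, tmul_smul, tmul_smul, ← hx, ← hx', smul_smul, smul_smul, smul_add, mul_comm c' c]
  choose cb hcb f hf using fun i => hscale (bs i)
  have hcu : ∀ i, IsUnit (algebraMap A₁ κ₁ (cb i)) := fun i =>
    Ne.isUnit fun h => hcb i (Ideal.algebraMap_residueField_eq_zero.1 h)
  let bs' : Module.Basis ι κ₁ (κ₁ ⊗[A₁] U) := bs.unitsSMul fun i => (hcu i).unit
  have hbs' : ∀ i, bs' i = (1 : κ₁) ⊗ₜ f i := fun i => by
    rw [Module.Basis.unitsSMul_apply, Units.smul_def, IsUnit.unit_spec, algebraMap_smul, hf]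
  have hindep : LinearIndependent κ fun i => (1 : κ) ⊗ₜ[A] ι₁ (f i) := by
    have h1 : LinearIndependent κ fun i => (1 : κ) ⊗ₜ[A₁] f i := by
      let e := AlgebraTensorModule.cancelBaseChange A₁ κ₁ κ κ U
      have h2 := ((Algebra.TensorProduct.basis κ bs').map e).linearIndependent
      convert h2 using 1
      ext i
      rw [Module.Basis.map_apply, Algebra.TensorProduct.basis_apply, hbs']
      simp [e]
    have h3 := h1.map' ικ (LinearMap.ker_eq_bot.2 hinj)
    simpa [Function.comp_def, hικ] using h3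
  let Z' : AddSubgroup (Q ⊗[A] N) :=
    { carrier := {y | ∃ c : ι →₀ Q, c.sum (fun i x => x ⊗ₜ[A] ι₁ (f i)) = y}
      zero_mem' := ⟨0, Finsupp.sum_zero_index⟩
      add_mem' := by
        rintro _ _ ⟨c, rfl⟩ ⟨d, rfl⟩
        exact ⟨c + d, Finsupp.sum_add_index' (fun i => zero_tmul _ _) fun i x y => add_tmul x y _⟩
      neg_mem' := by
        rintro _ ⟨c, rfl⟩
        refine ⟨-c, ?_⟩
        rw [Finsupp.sum_neg_index (h := fun i x => x ⊗ₜ[A] ι₁ (f i)) (fun i => zero_tmul _ _), Finsupp.sum, Finsupp.sum, ← Finset.sum_neg_distrib]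
        exact Finset.sum_congr rfl fun i _ => neg_tmul _ _ }
  let J := q₁.map (algebraMap A₁ A)
  have hgen : ∀ l, l ≤ k → ∀ x ∈ J ^ (k - l) • (⊤ : Submodule A Q), ∀ y : U, x ⊗ₜ[A] ι₁ y ∈ Z' := by
    intro l
    induction l with
    | zero =>
      intro _ x hx y
      rw [Nat.sub_zero, hk, Submodule.mem_bot] at hx
      rw [hx, zero_tmul]
      exact Z'.zero_mem
    | succ l ih =>
      intro hl x hx y
      have hy : (1 : κ₁) ⊗ₜ[A₁] y ∈ Submodule.span κ₁ (Set.range bs') := bs'.span_eq ▸ Submodule.mem_top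
      obtain ⟨d, hd⟩ := Finsupp.mem_span_range_iff_exists_finsupp.1 hy
      have hsc : ∀ S : Finset ι, ∃ c ∉ q₁, ∃ g : ι → A₁, ∀ i ∈ S, c • d i = algebraMap A₁ κ₁ (g i) := by
        intro S
        induction S using Finset.induction with
        | empty => exact ⟨1, q₁.one_notMem, 0, by simp⟩
        | insert i S hi ih =>
          obtain ⟨c, hc, g, hg⟩ := ih
          obtain ⟨⟨r, ⟨e, he⟩⟩, hre⟩ := IsLocalization.surj (nonZeroDivisors (A₁ ⧸ q₁)) (d i)
          obtain ⟨r, rfl⟩ := Ideal.Quotient.mk_surjective r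
          obtain ⟨e, rfl⟩ := Ideal.Quotient.mk_surjective e
          have he' : e ∉ q₁ := fun h => nonZeroDivisors.ne_zero he (Ideal.Quotient.eq_zero_iff_mem.2 h)
          refine ⟨c * e, fun hm => (Ideal.IsPrime.mem_or_mem inferInstance hm).elim hc he',
            fun l => if l = i then c * r else e * g l, fun l hl => ?_⟩
          beta_reduce
          by_cases h : l = i
          · subst h
            rw [if_pos rfl, mul_smul, map_mul, Algebra.smul_def, Algebra.smul_def, mul_comm _ (d l),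
              IsScalarTower.algebraMap_apply A₁ (A₁ ⧸ q₁) κ₁ e, IsScalarTower.algebraMap_apply A₁ (A₁ ⧸ q₁) κ₁ r]
            exact congrArg (algebraMap A₁ κ₁ c * ·) hre
          · rw [if_neg h, mul_comm, mul_smul, hg l ((Finset.mem_insert.1 hl).resolve_left h), map_mul, Algebra.smul_def]
      obtain ⟨c, hc, g, hg⟩ := hsc d.support
      let y' := c • y - ∑ i ∈ d.support, g i • f i
      have hy' : (1 : κ₁) ⊗ₜ[A₁] y' = 0 := by
        rw [tmul_sub, tmul_smul, ← hd, Finsupp.sum, Finset.smul_sum, tmul_sum, ← Finset.sum_sub_distrib]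
        refine Finset.sum_eq_zero fun i hi => ?_
        rw [← smul_assoc, hg i hi, algebraMap_smul, hbs', tmul_smul, sub_self]
      have hker : ∀ y' : U, (1 : κ₁) ⊗ₜ[A₁] y' = 0 → ∃ e ∉ q₁, e • y' ∈ q₁ • (⊤ : Submodule A₁ U) := by
        intro y' hy'
        haveI : IsLocalizedModule q₁.primeCompl (TensorProduct.mk A₁ (Localization.AtPrime q₁) U 1) :=
          (isLocalizedModule_iff_isBaseChange q₁.primeCompl (Localization.AtPrime q₁) _).2
            (TensorProduct.isBaseChange A₁ U _)
        let Aq := Localization.AtPrime q₁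
        have h1 : TensorProduct.mk A₁ Aq U 1 y' ∈ q₁ • (⊤ : Submodule A₁ (Aq ⊗[A₁] U)) := by
          rw [mem_smul_top_iff' (B := Aq), IsLocalization.AtPrime.map_eq_maximalIdeal q₁ Aq,
            ← FlatteningIdeal.mk_eq_zero_iff]
          let e := AlgebraTensorModule.cancelBaseChange A₁ Aq (Aq ⧸ maximalIdeal Aq) (Aq ⧸ maximalIdeal Aq) U
          refine e.injective ?_
          rw [map_zero]
          simp only [e, TensorProduct.mk_apply, AlgebraTensorModule.cancelBaseChange_tmul, one_smul]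
          exact hy'
        obtain ⟨e, he, hey⟩ := exists_smul_mem_of_localized q₁.primeCompl (TensorProduct.mk A₁ Aq U 1) q₁ h1
        exact ⟨e, he, hey⟩
      obtain ⟨e, he, hey⟩ := hker y' hy'
      have hce : algebraMap A₁ A (c * e) ∉ q := fun h =>
        (Ideal.IsPrime.mem_or_mem inferInstance (show c * e ∈ q₁ from h)).elim hc he
      obtain ⟨x', hx'⟩ := (hQ _ hce).2 x
      have hxmem : x' ∈ J ^ (k - (l + 1)) • (⊤ : Submodule A Q) := by
        obtain ⟨v, hv⟩ : ∃ v : Q →ₗ[A] Q, ∀ z, v (algebraMap A₁ A (c * e) • z) = z :=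
          ⟨(LinearEquiv.ofBijective (algebraMap A (Module.End A Q) (algebraMap A₁ A (c * e))) (hQ _ hce)).symm.toLinearMap,
            fun z => (LinearEquiv.ofBijective (algebraMap A (Module.End A Q) (algebraMap A₁ A (c * e))) (hQ _ hce)).symm_apply_apply z⟩
        rw [← hv x']
        simp only at hx'
        rw [hx']
        exact map_smul_top_mem v _ hx
      have hJy : ∀ z ∈ q₁ • (⊤ : Submodule A₁ U), x' ⊗ₜ[A] ι₁ z ∈ Z' := by
        intro z hz
        refine Submodule.smul_induction_on hz (fun b hb w _ => ?_) fun p p' hp hp' => ?_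
        · rw [LinearMap.map_smul_of_tower, ← algebraMap_smul A b (ι₁ w), ← smul_tmul]
          refine ih (Nat.le_of_succ_le hl) _ ?_ w
          rw [show k - l = k - (l + 1) + 1 by omega, pow_succ', Submodule.mul_smul]
          exact Submodule.smul_mem_smul (Ideal.mem_map_of_mem _ hb) hxmem
        · rw [map_add, tmul_add]
          exact Z'.add_mem hp hp'
      have h1 := hJy _ hey
      have h2 : e • y' = (c * e) • y - ∑ i ∈ d.support, (e * g i) • f i := by
        simp only [y', smul_sub, Finset.smul_sum, smul_smul, mul_comm c e]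
      rw [h2, map_sub, map_sum, tmul_sub, tmul_sum, LinearMap.map_smul_of_tower, ← algebraMap_smul A (c * e) (ι₁ y),
        ← smul_tmul, show algebraMap A₁ A (c * e) • x' = x from hx'] at h1
      have h3 : ∑ i ∈ d.support, x' ⊗ₜ[A] ι₁ ((e * g i) • f i) ∈ Z' := by
        refine Z'.sum_mem fun i _ => ⟨Finsupp.single i (algebraMap A₁ A (e * g i) • x'), ?_⟩
        rw [Finsupp.sum_single_index (by simp), LinearMap.map_smul_of_tower, smul_tmul, algebraMap_smul]
      simpa using Z'.add_mem h1 h3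
  have hrange : ∀ t : Q ⊗[A] E, (loc.restrictScalars A).lTensor Q t ∈ Z' := by
    intro t
    induction t using TensorProduct.induction_on with
    | zero => rw [map_zero]; exact Z'.zero_mem
    | add t t' h h' => rw [map_add]; exact Z'.add_mem h h'
    | tmul x e =>
      rw [LinearMap.lTensor_tmul, LinearMap.coe_restrictScalars]
      induction e using hjA.inductionOn with
      | zero => rw [map_zero, tmul_zero]; exact Z'.zero_mem
      | tmul e₁ =>
        rw [LinearMap.coe_restrictScalars, ← hι₁]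
        exact hgen k le_rfl x (by simp) _
      | smul b e h =>
        obtain ⟨c, hc⟩ := h
        refine ⟨c.mapRange (fun v => b • v) (smul_zero b), ?_⟩
        rw [Finsupp.sum_mapRange_index (h := fun i x => x ⊗ₜ[A] ι₁ (f i)) (fun i => zero_tmul _ _), LinearMap.map_smul_of_tower, tmul_smul, ← hc,
          Finsupp.smul_sum]
        exact Finsupp.sum_congr fun i _ => by rw [smul_tmul']
      | add e e' h h' => rw [map_add, tmul_add]; exact Z'.add_mem h h'
  have hspan : ∀ z : Q ⊗[A] N, ∃ w ∈ W, ∃ t : Q ⊗[A] E,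
      (loc.restrictScalars A).lTensor Q t = ((algebraMap P (Module.End P N) w).restrictScalars A).lTensor Q z := by
    intro z
    induction z using TensorProduct.induction_on with
    | zero => exact ⟨1, W.one_mem, 0, by simp⟩
    | tmul x y =>
      obtain ⟨⟨e, w⟩, hw⟩ := IsLocalizedModule.surj W loc y
      exact ⟨w, w.2, x ⊗ₜ e, congrArg (x ⊗ₜ[A] ·) hw.symm⟩
    | add z z' h h' =>
      obtain ⟨w, hw, t, ht⟩ := h
      obtain ⟨w', hw', t', ht'⟩ := h'
      let me : P → (E →ₗ[A] E) := fun v => (algebraMap P (Module.End P E) v).restrictScalars A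
      let mn : P → (N →ₗ[A] N) := fun v => (algebraMap P (Module.End P N) v).restrictScalars A
      have hc : ∀ v, (loc.restrictScalars A) ∘ₗ me v = mn v ∘ₗ loc.restrictScalars A := fun v => by
        ext x
        simp [me, mn]
      have hm : ∀ v v', mn (v * v') = mn v ∘ₗ mn v' := fun v v' => by
        ext x
        simp [mn, mul_smul]
      refine ⟨w * w', W.mul_mem hw hw', (me w').lTensor Q t + (me w).lTensor Q t', ?_⟩
      show (loc.restrictScalars A).lTensor Q _ = (mn (w * w')).lTensor Q (z + z')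
      rw [map_add, map_add, ← LinearMap.lTensor_comp_apply, ← LinearMap.lTensor_comp_apply, hc, hc,
        LinearMap.lTensor_comp_apply, LinearMap.lTensor_comp_apply, ht, ht', ← LinearMap.lTensor_comp_apply,
        ← LinearMap.lTensor_comp_apply, ← hm, ← hm, mul_comm w' w]
  rw [injective_iff_map_eq_zero]
  intro z hz
  obtain ⟨w, hw, t, ht⟩ := hspan z
  obtain ⟨c, hc⟩ := hrange t
  obtain ⟨winv, hwinv⟩ : ∃ v : N ≃ₗ[A] N, ∀ x, v x = (algebraMap P (Module.End P N) w) x := by
    have h := IsLocalizedModule.map_units loc (⟨w, hw⟩ : W)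
    rw [Module.End.isUnit_iff] at h
    exact ⟨LinearEquiv.ofBijective ((algebraMap P (Module.End P N) w).restrictScalars A) h, fun _ => rfl⟩
  let η : ι → N := fun i => winv.symm (ι₁ (f i))
  have hz' : z = c.sum fun i x => x ⊗ₜ[A] η i := by
    have h1 : winv.toLinearMap.lTensor Q z = c.sum fun i x => x ⊗ₜ[A] ι₁ (f i) := by
      rw [hc, ht]
      congr 2
      exact LinearMap.ext hwinv
    have h2 := congrArg (winv.symm.toLinearMap.lTensor Q) h1
    rw [← LinearMap.lTensor_comp_apply, show winv.symm.toLinearMap ∘ₗ winv.toLinearMap = LinearMap.id from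
      LinearMap.ext winv.symm_apply_apply, LinearMap.lTensor_id, LinearMap.id_apply] at h2
    rw [h2, Finsupp.sum, Finsupp.sum, map_sum]
    rfl
  have hη : LinearIndependent κ fun i => (1 : κ) ⊗ₜ[A] u (η i) := by
    have h1 : LinearIndependent κ fun i => (1 : κ) ⊗ₜ[A] η i :=
      hindep.map' (winv.symm.toLinearMap.baseChange κ) (LinearMap.ker_eq_bot.2 (LinearEquiv.baseChange A κ _ _ winv.symm).injective)
    exact h1.map' (u.baseChange κ) (LinearMap.ker_eq_bot.2 hgood)
  let e := c.support.equivFin.symm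
  have hzero : ∀ l, c (e l).1 = 0 := eq_zero_of_indep q hQ (fun l => u (η (e l).1))
    (hη.comp (fun l => (e l).1) (Subtype.val_injective.comp e.injective)) (fun l => c (e l).1) (by
      rw [e.sum_comp (fun i : c.support => c i.1 ⊗ₜ[A] u (η i.1)),
        Finset.sum_coe_sort c.support (fun i => c i ⊗ₜ[A] u (η i))]
      rw [hz', Finsupp.sum, map_sum] at hz
      exact hz)
  rw [hz', Finsupp.sum]
  refine Finset.sum_eq_zero fun i hi => ?_
  rw [show c i = 0 by simpa using hzero (e.symm ⟨i, hi⟩), zero_tmul]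

end Model

/-- Injectivity over nilpotent thickenings of a good point, for a model over the stage. -/
theorem exists_injective_of_stage {A₁ P₁ P : Type u} [CommRing A₁] [IsNoetherianRing A₁] [CommRing P₁] [CommRing P]
    [Algebra A P] [Algebra A₁ A] [Algebra A₁ P₁] [Algebra A₁ P] [Algebra P₁ P] [IsScalarTower A₁ A P]
    [IsScalarTower A₁ P₁ P] [Algebra.IsPushout A₁ A P₁ P]
    {E₁ E N M : Type u} [AddCommGroup E₁] [Module A₁ E₁] [Module P₁ E₁] [IsScalarTower A₁ P₁ E₁]
    [AddCommGroup E] [Module A E] [Module P E] [IsScalarTower A P E] [Module P₁ E] [IsScalarTower P₁ P E]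
    [AddCommGroup N] [Module A N] [Module P N] [IsScalarTower A P N]
    (j : E₁ →ₗ[P₁] E) (hj : IsBaseChange P j) (W : Submonoid P) (loc : E →ₗ[P] N) [IsLocalizedModule W loc]
    [AddCommGroup M] [Module A M] [Module.Flat A M] (u : N →ₗ[A] M) (q : Ideal A) [q.IsPrime]
    (hgood : Function.Injective (u.lTensor q.ResidueField)) (s₁ : P₁) (hsW : algebraMap P₁ P s₁ ∈ W)
    (hs : ∀ z : q.ResidueField ⊗[A] E, (loc.restrictScalars A).lTensor q.ResidueField z = 0 →
      ((algebraMap P (Module.End P E) (algebraMap P₁ P s₁)).restrictScalars A).lTensor q.ResidueField z = 0) :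
    ∃ J : Ideal A, J ≤ q ∧ J.FG ∧ ∀ (Q : Type u) [AddCommGroup Q] [Module A Q],
      (∀ a ∉ q, Function.Bijective fun x : Q => a • x) → ∀ k : ℕ, J ^ k • (⊤ : Submodule A Q) = ⊥ →
      Function.Injective (u.lTensor Q) := by
  letI : Module A₁ E := Module.compHom E (algebraMap A₁ A)
  haveI : IsScalarTower A₁ A E := IsScalarTower.of_algebraMap_smul fun _ _ => rfl
  haveI : IsScalarTower A₁ P₁ E := IsScalarTower.of_algebraMap_smul fun x y => by
    show algebraMap A₁ P₁ x • y = algebraMap A₁ A x • y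
    rw [← algebraMap_smul P (algebraMap A₁ P₁ x) y, ← IsScalarTower.algebraMap_apply A₁ P₁ P,
      IsScalarTower.algebraMap_apply A₁ A P, algebraMap_smul]
  obtain ⟨U, _, _, _, _, lU, hlU⟩ := exists_localizedModule (Submonoid.powers s₁) E₁
  haveI := hlU
  letI : Module A₁ U := Module.compHom U (algebraMap A₁ P₁)
  haveI : IsScalarTower A₁ P₁ U := IsScalarTower.of_algebraMap_smul fun _ _ => rfl
  letI : Module P₁ N := Module.compHom N (algebraMap P₁ P)
  haveI : IsScalarTower P₁ P N := IsScalarTower.of_algebraMap_smul fun _ _ => rfl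
  letI : Module A₁ N := Module.compHom N (algebraMap A₁ A)
  haveI : IsScalarTower A₁ A N := IsScalarTower.of_algebraMap_smul fun _ _ => rfl
  haveI : IsScalarTower A₁ P₁ N := IsScalarTower.of_algebraMap_smul fun x y => by
    show algebraMap P₁ P (algebraMap A₁ P₁ x) • y = algebraMap A₁ A x • y
    rw [← IsScalarTower.algebraMap_apply A₁ P₁ P, IsScalarTower.algebraMap_apply A₁ A P, algebraMap_smul]
  have hun : ∀ w : Submonoid.powers s₁, IsUnit (algebraMap P₁ (Module.End P₁ N) w) := by
    rintro ⟨_, m, rfl⟩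
    have hmem : algebraMap P₁ P (s₁ ^ m) ∈ W := by
      rw [map_pow]
      exact pow_mem hsW m
    have h := IsLocalizedModule.map_units loc (⟨_, hmem⟩ : W)
    rw [Module.End.isUnit_iff] at h ⊢
    exact h
  let ι₁ : U →ₗ[P₁] N := IsLocalizedModule.lift (Submonoid.powers s₁) lU (loc.restrictScalars P₁ ∘ₗ j) hun
  have hι₁ : ∀ e₁, ι₁ (lU e₁) = loc (j e₁) := IsLocalizedModule.lift_apply (Submonoid.powers s₁) lU _ hun
  obtain ⟨Tq, hTq⟩ := IsNoetherian.noetherian (q.comap (algebraMap A₁ A))
  refine ⟨(q.comap (algebraMap A₁ A)).map (algebraMap A₁ A), Ideal.map_comap_le, Ideal.FG.map ⟨Tq, hTq⟩ _,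
    fun Q _ _ hQ k hk => ?_⟩
  exact injective_lTensor_of_model (P₁ := P₁) j loc lU ι₁ q W hj hι₁
    (fun ικ hικ => injective_fibre j loc lU ι₁ hj rfl hι₁ q.ResidueField hs ικ hικ) u hgood Q hQ k hk

attribute [local instance] MvPolynomial.algebraMvPolynomial

variable {n a : ℕ} (W : Submonoid (MvPolynomial (Fin n) A))

/-- Injectivity over nilpotent thickenings of a good point. -/
theorem exists_injective_of_good {K : Submodule (MvPolynomial (Fin n) A) (Fin a → MvPolynomial (Fin n) A)} (hK : K.FG)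
    {N M : Type u} [AddCommGroup N] [Module A N] [Module (MvPolynomial (Fin n) A) N]
    [IsScalarTower A (MvPolynomial (Fin n) A) N]
    (loc : ((Fin a → MvPolynomial (Fin n) A) ⧸ K) →ₗ[MvPolynomial (Fin n) A] N) [IsLocalizedModule W loc]
    [AddCommGroup M] [Module A M] [Module.Flat A M] (u : N →ₗ[A] M) (q : Ideal A) [q.IsPrime]
    (hgood : Function.Injective (u.lTensor q.ResidueField)) :
    ∃ J : Ideal A, J ≤ q ∧ J.FG ∧ ∀ (Q : Type u) [AddCommGroup Q] [Module A Q],
      (∀ a ∉ q, Function.Bijective fun x : Q => a • x) → ∀ k : ℕ, J ^ k • (⊤ : Submodule A Q) = ⊥ →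
      Function.Injective (u.lTensor Q) := by
  classical
  let P := MvPolynomial (Fin n) A
  let E := (Fin a → P) ⧸ K
  let κ := q.ResidueField
  let Pk := MvPolynomial (Fin n) κ
  haveI : IsScalarTower A P Pk := IsScalarTower.of_algebraMap_eq fun x => by
    show MvPolynomial.C (algebraMap A κ x) = MvPolynomial.map (algebraMap A κ) (MvPolynomial.C x)
    rw [MvPolynomial.map_C]
  obtain ⟨s, hsW, hs⟩ := exists_point_killer (A := A) (Pk := Pk) (k := κ) W loc
  obtain ⟨G, hG⟩ := hK
  let F : Finset P := insert s (G.biUnion fun g => Finset.univ.image g)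
  let C : Finset A := F.biUnion fun p => p.coeffs
  let φ : MvPolynomial ↥C ℤ →+* A := MvPolynomial.eval₂Hom (Int.castRingHom A) fun c => c.1
  letI : Algebra (MvPolynomial ↥C ℤ) A := φ.toAlgebra
  let A₁ := MvPolynomial ↥C ℤ
  let P₁ := MvPolynomial (Fin n) A₁
  have hF : ∀ p ∈ F, ∃ p₁ : P₁, MvPolynomial.map (algebraMap A₁ A) p₁ = p := fun p hp => by
    show p ∈ Set.range _
    rw [MvPolynomial.mem_range_map_iff_coeffs_subset]
    intro c hc
    exact ⟨MvPolynomial.X ⟨c, Finset.mem_biUnion.2 ⟨p, hp, hc⟩⟩, MvPolynomial.eval₂Hom_X' _ _ _⟩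
  obtain ⟨s₁, hs₁⟩ := hF s (Finset.mem_insert_self _ _)
  choose r₁ hr₁ using fun (g : G) (l : Fin a) => hF (g.1 l) (Finset.mem_insert_of_mem
    (Finset.mem_biUnion.2 ⟨g.1, g.2, Finset.mem_image_of_mem _ (Finset.mem_univ l)⟩))
  have halg : ∀ p₁ : P₁, algebraMap P₁ P p₁ = MvPolynomial.map (algebraMap A₁ A) p₁ := fun _ => rfl
  obtain ⟨j, hj, -⟩ := exists_quotient_baseChange (P₀ := P₁) (P := P) r₁ K (by
    rw [← hG]
    congr 1
    ext z
    simp only [Set.mem_range, halg, hr₁]
    exact ⟨fun hz => ⟨⟨z, hz⟩, rfl⟩, by rintro ⟨g, rfl⟩; exact g.2⟩)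
  exact exists_injective_of_stage (A := A) (A₁ := A₁) j hj W loc u q hgood s₁ (by rw [halg, hs₁]; exact hsW)
    (by rw [halg, hs₁]; exact hs)

end Groth.Agent.UnivInjMod
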