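import Groth.Agent.UnivInjMod.Separation
import Groth.Agent.UnivInjMod.LinearFlat

/-!
Universal injectivity from injectivity at all points.
-/

set_option autoImplicit false
set_option linter.style.haveILetI false
set_option linter.unusedSectionVars false
set_option backward.isDefEq.respectTransparency false

universe u

open TensorProduct IsLocalRing

namespace Groth.Agent.UnivInjMod

variable {A : Type u} [CommRing A] {N M : Type u} [AddCommGroup N] [Module A N] [AddCommGroup M] [Module A M]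

/-- Thickenings of a point where the map is injective do not see its kernel. -/
def Thick (u : N →ₗ[A] M) : Prop :=
  ∀ (q : Ideal A) [q.IsPrime], Function.Injective (u.lTensor q.ResidueField) →
    ∃ J : Ideal A, J ≤ q ∧ J.FG ∧ ∀ (Q : Type u) [AddCommGroup Q] [Module A Q],
      (∀ a ∉ q, Function.Bijective fun x : Q => a • x) → ∀ k : ℕ, J ^ k • (⊤ : Submodule A Q) = ⊥ →
      Function.Injective (u.lTensor Q)

/-- An element vanishing in the fibre at a prime is in the prime times the module, up to a multiplier. -/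
theorem exists_smul_mem_of_fibre {X : Type u} [AddCommGroup X] [Module A X] (p : Ideal A) [p.IsPrime] {x : X}
    (h : (1 : p.ResidueField) ⊗ₜ[A] x = 0) : ∃ a ∉ p, a • x ∈ p • (⊤ : Submodule A X) := by
  let Ap := Localization.AtPrime p
  haveI : IsLocalizedModule p.primeCompl (TensorProduct.mk A Ap X 1) :=
    (isLocalizedModule_iff_isBaseChange p.primeCompl Ap _).2 (TensorProduct.isBaseChange A X _)
  have h1 : TensorProduct.mk A Ap X 1 x ∈ p • (⊤ : Submodule A (Ap ⊗[A] X)) := by
    rw [mem_smul_top_iff' (B := Ap), IsLocalization.AtPrime.map_eq_maximalIdeal p Ap,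
      ← FlatteningIdeal.mk_eq_zero_iff]
    let e := AlgebraTensorModule.cancelBaseChange A Ap (Ap ⧸ maximalIdeal Ap) (Ap ⧸ maximalIdeal Ap) X
    refine e.injective ?_
    rw [map_zero]
    simp only [e, TensorProduct.mk_apply, AlgebraTensorModule.cancelBaseChange_tmul, one_smul]
    exact h
  exact exists_smul_mem_of_localized p.primeCompl (TensorProduct.mk A Ap X 1) p h1

/-- Elements killed by finitely many scalars come from the submodule killed by them. -/
theorem exists_torsion_rep [Module.Flat A N] {Q : Type u} [AddCommGroup Q] [Module A Q] (G : Finset A) (y : Q ⊗[A] N)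
    (hy : ∀ g ∈ G, g • y = 0) :
    ∃ Q₂ : Submodule A Q, (∀ g ∈ G, ∀ x ∈ Q₂, g • x = 0) ∧ ∃ z : Q₂ ⊗[A] N, Q₂.subtype.rTensor N z = y := by
  classical
  induction G using Finset.induction with
  | empty =>
    refine ⟨⊤, by simp, (Submodule.topEquiv.symm.toLinearMap.rTensor N) y, ?_⟩
    rw [← LinearMap.rTensor_comp_apply]
    exact LinearMap.rTensor_id_apply _ _ _
  | insert g G hg ih =>
    obtain ⟨Q₂, hQ₂, z, hz⟩ := ih fun g' hg' => hy g' (Finset.mem_insert_of_mem hg')
    let μ : Q₂ →ₗ[A] Q₂ := g • LinearMap.id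
    have hz0 : μ.rTensor N z = 0 := by
      refine Module.Flat.rTensor_preserves_injective_linearMap Q₂.subtype Q₂.injective_subtype ?_
      rw [map_zero, LinearMap.rTensor_smul, LinearMap.smul_apply, LinearMap.rTensor_id_apply, map_smul, hz,
        hy g (Finset.mem_insert_self g G)]
    obtain ⟨w, rfl⟩ := (Module.Flat.rTensor_exact N (LinearMap.exact_subtype_ker_map μ) z).1 hz0
    let T := (LinearMap.ker μ).map Q₂.subtype
    refine ⟨T, ?_, ((Q₂.subtype.submoduleMap (LinearMap.ker μ)).rTensor N) w, ?_⟩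
    · rintro g' hg' _ ⟨x, hx, rfl⟩
      rcases Finset.mem_insert.1 hg' with rfl | hg'
      · exact congrArg Subtype.val (LinearMap.mem_ker.1 hx)
      · exact hQ₂ g' hg' _ x.2
    · rw [← hz, ← LinearMap.rTensor_comp_apply, ← LinearMap.rTensor_comp_apply]
      rfl

/-- Injectivity against modules killed by an ideal, from the points over it. -/
theorem injective_lTensor_of_points [Module.Flat A N] [Module.Flat A M] (u : N →ₗ[A] M) (hu : Thick u) (I : Ideal A)
    (hI : ∀ (q : Ideal A) [q.IsPrime], I ≤ q → Function.Injective (u.lTensor q.ResidueField))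
    (Q : Type u) [AddCommGroup Q] [Module A Q] (hQ : I • (⊤ : Submodule A Q) = ⊥) :
    Function.Injective (u.lTensor Q) := by
  classical
  rw [injective_iff_map_eq_zero]
  intro y hy
  by_contra hy0
  let ann : Ideal A := LinearMap.ker (LinearMap.toSpanSingleton A (Q ⊗[A] N) y)
  have hann : ann ≠ ⊤ := fun h => hy0 (by
    have h1 : (1 : A) ∈ ann := h ▸ Submodule.mem_top
    rwa [LinearMap.mem_ker, LinearMap.toSpanSingleton_apply_one] at h1)
  have hIann : I ≤ ann := fun c hc => by
    show c • y = 0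
    clear hy hy0 hann
    induction y using TensorProduct.induction_on with
    | zero => exact smul_zero _
    | tmul x n =>
      rw [TensorProduct.smul_tmul', show c • x = 0 from (Submodule.mem_bot A).1 (hQ ▸ Submodule.smul_mem_smul hc Submodule.mem_top),
        zero_tmul]
    | add a b ha hb => rw [smul_add, ha, hb, add_zero]
  obtain ⟨m, hm, hle⟩ := Ideal.exists_le_maximal ann hann
  haveI := hm.isPrime
  obtain ⟨q, hq, -⟩ := Ideal.exists_minimalPrimes_le hle
  haveI : q.IsPrime := hq.1.1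
  obtain ⟨J, hJq, hJfg, hJ⟩ := hu q (hI q (hIann.trans hq.1.2))
  obtain ⟨Qq, _, _, _, _, f, hf⟩ := exists_localizedModule q.primeCompl Q
  haveI := hf
  haveI hfN : IsLocalizedModule q.primeCompl (f.rTensor N) := by
    have heq : f.rTensor N = ((TensorProduct.comm A N Qq).toLinearMap ∘ₗ f.lTensor N) ∘ₗ
        (TensorProduct.comm A Q N).toLinearMap := by
      ext x n
      rfl
    haveI : IsLocalizedModule q.primeCompl (f.lTensor N) := by
      have : IsLocalizedModule q.primeCompl ((TensorProduct.comm A Qq N).toLinearMap ∘ₗ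
          (AlgebraTensorModule.rTensor A N f ∘ₗ (TensorProduct.comm A N Q).toLinearMap)) := by
        rw [← LinearMap.comp_assoc]
        exact IsLocalizedModule.of_linearEquiv_right q.primeCompl _ _
      convert this using 1
      ext n x
      rfl
    rw [heq]
    exact IsLocalizedModule.of_linearEquiv_right q.primeCompl _ _
  let y' := f.rTensor N y
  have hy' : y' ≠ 0 := fun h => by
    obtain ⟨⟨t, ht⟩, hty⟩ := (IsLocalizedModule.eq_zero_iff q.primeCompl (f.rTensor N)).1 h
    exact ht (hq.1.2 (LinearMap.mem_ker.2 hty))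
  have hunit : ∀ t ∉ q, ∀ z : Qq ⊗[A] N, t • z = 0 → z = 0 := fun t ht z hz => by
    have h := IsLocalizedModule.map_units (f.rTensor N) (⟨t, ht⟩ : q.primeCompl)
    rw [Module.End.isUnit_iff] at h
    exact h.1 (hz.trans (map_zero (algebraMap A (Module.End A (Qq ⊗[A] N)) t)).symm)
  let ann' : Ideal A := LinearMap.ker (LinearMap.toSpanSingleton A (Qq ⊗[A] N) y')
  have hrad : J ≤ ann'.radical := by
    intro j hj
    by_contra hjr
    let S : Submonoid A := q.primeCompl ⊔ Submonoid.powers j
    have hdisj : Disjoint (ann : Set A) S := by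
      rw [Set.disjoint_left]
      intro c hc hcS
      obtain ⟨t, ht, _, ⟨e, rfl⟩, rfl⟩ := Submonoid.mem_sup.1 hcS
      refine hjr ⟨e, LinearMap.mem_ker.2 (hunit t ht _ ?_)⟩
      rw [LinearMap.toSpanSingleton_apply, smul_smul, show y' = f.rTensor N y from rfl, ← map_smul,
        show (t * j ^ e) • y = 0 from hc, map_zero]
    obtain ⟨p, hp, hannp, hpS⟩ := Ideal.exists_le_prime_disjoint ann S hdisj
    have hpq : p ≤ q := fun c hc => by_contra fun hcq =>
      Set.disjoint_left.1 hpS hc ((le_sup_left : q.primeCompl ≤ S) hcq)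
    exact Set.disjoint_left.1 hpS (hq.2 ⟨hp, hannp⟩ hpq (hJq hj))
      ((le_sup_right : Submonoid.powers j ≤ S) (Submonoid.mem_powers j))
  obtain ⟨k, hk⟩ := Ideal.exists_pow_le_of_le_radical_of_fg hrad hJfg
  obtain ⟨G, hG⟩ := hJfg.pow (n := k)
  obtain ⟨Q₂, hQ₂, z, hz⟩ := exists_torsion_rep G y' fun g hg =>
    LinearMap.mem_ker.1 (hk (hG ▸ Submodule.subset_span hg))
  let Q₃ : Submodule A Qq :=
    { carrier := {x | ∀ g ∈ J ^ k, g • x = 0}
      zero_mem' := fun g _ => smul_zero g
      add_mem' := fun {a b} ha hb g hg => by rw [smul_add, ha g hg, hb g hg, add_zero]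
      smul_mem' := fun c x hx g hg => by rw [smul_comm, hx g hg, smul_zero] }
  have h23 : Q₂ ≤ Q₃ := fun x hx g hg => by
    rw [← hG] at hg
    induction hg using Submodule.span_induction with
    | mem g hg => exact hQ₂ g hg x hx
    | zero => exact zero_smul A x
    | add a b _ _ ha hb => rw [add_smul, ha, hb, add_zero]
    | smul c a _ ha => rw [smul_assoc, ha, smul_zero]
  let z₃ := (Submodule.inclusion h23).rTensor N z
  have hz₃ : Q₃.subtype.rTensor N z₃ = y' := by
    rw [← hz, ← LinearMap.rTensor_comp_apply]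
    rfl
  have hbij : ∀ a ∉ q, Function.Bijective fun x : Q₃ => a • x := fun a ha => by
    have h := IsLocalizedModule.map_units f (⟨a, ha⟩ : q.primeCompl)
    rw [Module.End.isUnit_iff] at h
    refine ⟨fun x x' hxx => Subtype.ext (h.1 (congrArg Subtype.val hxx)), fun x => ?_⟩
    obtain ⟨x₀, hx₀⟩ := h.2 x.1
    have hx₀' : a • x₀ = x.1 := hx₀
    refine ⟨⟨x₀, fun g hg => h.1 ?_⟩, Subtype.ext hx₀'⟩
    show a • (g • x₀) = a • (0 : Qq)
    rw [smul_comm, hx₀', x.2 g hg, smul_zero]
  have hk3 : J ^ k • (⊤ : Submodule A Q₃) = ⊥ := by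
    rw [eq_bot_iff, Submodule.smul_le]
    exact fun g hg x _ => (Submodule.mem_bot A).2 (Subtype.ext (x.2 g hg))
  have h0 : u.lTensor Q₃ z₃ = 0 := by
    refine Module.Flat.rTensor_preserves_injective_linearMap Q₃.subtype Q₃.injective_subtype ?_
    rw [map_zero, ← LinearMap.comp_apply, LinearMap.rTensor_comp_lTensor, ← LinearMap.lTensor_comp_rTensor,
      LinearMap.comp_apply, hz₃, ← LinearMap.comp_apply, LinearMap.lTensor_comp_rTensor,
      ← LinearMap.rTensor_comp_lTensor, LinearMap.comp_apply, hy, map_zero]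
  refine hy' ?_
  rw [← hz₃, hJ Q₃ hbij k hk3 (h0.trans (map_zero _).symm), map_zero]

variable [IsLocalRing A] (B : Type u) [CommRing B] [IsLocalRing B] [Algebra A B] [IsLocalHom (algebraMap A B)]
  [Algebra.EssFiniteType A B] [Module B N] [IsScalarTower A B N] [Module.Finite B N]

include B

/-- Injectivity at a nonclosed point from injectivity at its proper specialisations. -/
theorem injective_residueField_of_gt [Module.Flat A N] [Module.Flat A M] (u : N →ₗ[A] M) (hu : Thick u)
    (p : Ideal A) [p.IsPrime] (hp : p ≠ maximalIdeal A)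
    (hgt : ∀ (q : Ideal A) [q.IsPrime], p < q → Function.Injective (u.lTensor q.ResidueField)) :
    Function.Injective (u.lTensor p.ResidueField) := by
  classical
  rw [injective_iff_map_eq_zero]
  intro z hz
  by_contra hz0
  have hscale : ∀ z : p.ResidueField ⊗[A] N, ∃ c ∉ p, ∃ x : N, c • z = 1 ⊗ₜ x := by
    intro z
    induction z using TensorProduct.induction_on with
    | zero => exact ⟨1, p.one_notMem, 0, by simp⟩
    | tmul t x =>
      obtain ⟨⟨r, ⟨d, hd⟩⟩, hrd⟩ := IsLocalization.surj (nonZeroDivisors (A ⧸ p)) t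
      obtain ⟨r, rfl⟩ := Ideal.Quotient.mk_surjective r
      obtain ⟨d, rfl⟩ := Ideal.Quotient.mk_surjective d
      refine ⟨d, fun h => nonZeroDivisors.ne_zero hd (Ideal.Quotient.eq_zero_iff_mem.2 h), r • x, ?_⟩
      rw [← TensorProduct.smul_tmul, ← Algebra.algebraMap_eq_smul_one, TensorProduct.smul_tmul', Algebra.smul_def,
        mul_comm, IsScalarTower.algebraMap_apply A (A ⧸ p) p.ResidueField,
        IsScalarTower.algebraMap_apply A (A ⧸ p) p.ResidueField]
      congr 1
    | add z z' h h' =>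
      obtain ⟨c, hc, x, hx⟩ := h
      obtain ⟨c', hc', x', hx'⟩ := h'
      refine ⟨c * c', fun hm => (Ideal.IsPrime.mem_or_mem inferInstance hm).elim hc hc', c' • x + c • x', ?_⟩
      rw [tmul_add, tmul_smul, tmul_smul, ← hx, ← hx', smul_smul, smul_smul, smul_add, mul_comm c' c]
  obtain ⟨c, hc, x₀, hx₀⟩ := hscale z
  have hcancel : ∀ c ∉ p, ∀ w : p.ResidueField ⊗[A] N, c • w = 0 → w = 0 := fun c hc w hw => by
    rw [← algebraMap_smul p.ResidueField c w] at hw
    exact (smul_eq_zero.1 hw).resolve_left fun h => hc (Ideal.algebraMap_residueField_eq_zero.1 h)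
  have hux : (1 : p.ResidueField) ⊗ₜ[A] u x₀ = 0 := by
    rw [← LinearMap.lTensor_tmul, ← hx₀, map_smul, hz, smul_zero]
  obtain ⟨a, ha, hau⟩ := exists_smul_mem_of_fibre p hux
  have hx : (1 : p.ResidueField) ⊗ₜ[A] (a • x₀) ≠ 0 := fun h => hz0 (hcancel c hc z (hcancel a ha _ (by
    rw [hx₀, ← tmul_smul, h])))
  obtain ⟨d, hdm, hdp⟩ := SetLike.exists_of_lt ((le_maximalIdeal (Ideal.IsPrime.ne_top inferInstance)).lt_of_ne hp)
  -- the quotient by the prime
  let D := A ⧸ p
  let pB := p.map (algebraMap A B)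
  haveI : IsLocalRing D := .of_surjective' _ Ideal.Quotient.mk_surjective
  have hpB : pB ≤ maximalIdeal B := Ideal.map_le_iff_le_comap.2 (by
    rw [maximalIdeal_comap (algebraMap A B)]
    exact le_maximalIdeal (Ideal.IsPrime.ne_top inferInstance))
  haveI : Nontrivial (B ⧸ pB) :=
    Ideal.Quotient.nontrivial_iff.mpr fun h => (maximalIdeal.isMaximal B).ne_top (top_le_iff.1 (h ▸ hpB))
  haveI : IsLocalRing (B ⧸ pB) := .of_surjective' _ Ideal.Quotient.mk_surjective
  haveI : IsLocalHom (algebraMap A (B ⧸ pB)) := by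
    haveI : IsLocalHom (Ideal.Quotient.mk pB) := .of_surjective _ Ideal.Quotient.mk_surjective
    exact RingHom.isLocalHom_comp (Ideal.Quotient.mk pB) (algebraMap A B)
  letI : Algebra D (B ⧸ pB) := (Ideal.quotientMap pB (algebraMap A B) Ideal.le_comap_map).toAlgebra
  haveI : IsScalarTower A D (B ⧸ pB) := IsScalarTower.of_algebraMap_eq fun _ => rfl
  haveI : IsLocalHom (algebraMap D (B ⧸ pB)) := ⟨fun x hx => by
    obtain ⟨x, rfl⟩ := Ideal.Quotient.mk_surjective x
    exact (IsUnit.of_map (algebraMap A (B ⧸ pB)) x hx).map (Ideal.Quotient.mk p)⟩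
  haveI : Algebra.EssFiniteType A (B ⧸ pB) := Algebra.EssFiniteType.comp A B (B ⧸ pB)
  haveI : Algebra.EssFiniteType D (B ⧸ pB) := Algebra.EssFiniteType.of_comp A D (B ⧸ pB)
  let Np := pB • (⊤ : Submodule B N)
  letI : Module D (N ⧸ Np) := Module.compHom _ (algebraMap D (B ⧸ pB))
  haveI : IsScalarTower D (B ⧸ pB) (N ⧸ Np) := IsScalarTower.of_algebraMap_smul fun _ _ => rfl
  haveI : IsScalarTower A D (N ⧸ Np) := IsScalarTower.of_algebraMap_smul fun c t => by
    show algebraMap D (B ⧸ pB) (algebraMap A D c) • t = _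
    rw [← IsScalarTower.algebraMap_apply, IsScalarTower.algebraMap_apply A B (B ⧸ pB), algebraMap_smul, algebraMap_smul]
  haveI : Module.Finite (B ⧸ pB) (N ⧸ Np) := Module.Finite.of_restrictScalars_finite B (B ⧸ pB) _
  have hmem : ∀ w : N, (Submodule.Quotient.mk w : N ⧸ Np) = 0 ↔ w ∈ p • (⊤ : Submodule A N) := fun w =>
    (Submodule.Quotient.mk_eq_zero Np).trans (mem_smul_top_iff' (B := B) _ _).symm
  have htors : ∀ e : D, e ≠ 0 → e • (Submodule.Quotient.mk (a • x₀) : N ⧸ Np) ≠ 0 := by
    intro e he h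
    obtain ⟨e, rfl⟩ := Ideal.Quotient.mk_surjective e
    rw [← Ideal.Quotient.algebraMap_eq, algebraMap_smul, ← Submodule.Quotient.mk_smul, hmem] at h
    refine hx (hcancel e (fun he' => he (Ideal.Quotient.eq_zero_iff_mem.2 he')) _ ?_)
    rw [← tmul_smul]
    refine Submodule.smul_induction_on h (fun r hr w _ => ?_) fun v w hv hw => by rw [tmul_add, hv, hw, add_zero]
    rw [← smul_tmul, ← Algebra.algebraMap_eq_smul_one, Ideal.algebraMap_residueField_eq_zero.2 hr, zero_tmul]
  haveI : IsLocalHom (Ideal.Quotient.mk p) := .of_surjective _ Ideal.Quotient.mk_surjective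
  obtain ⟨e, he, hez⟩ := exists_ne_smul (D := D) (B := B ⧸ pB) (N := N ⧸ Np) (d₀ := Ideal.Quotient.mk p d)
    (show Ideal.Quotient.mk p d ∈ maximalIdeal D from fun h => hdm (IsUnit.of_map (Ideal.Quotient.mk p) d h))
    (fun h => hdp (Ideal.Quotient.eq_zero_iff_mem.1 h)) _ htors
  obtain ⟨e, rfl⟩ := Ideal.Quotient.mk_surjective e
  let I := p ⊔ Ideal.span {e}
  have hI : (1 : A ⧸ I) ⊗ₜ[A] (a • x₀) ≠ 0 := by
    intro h
    rw [FlatteningIdeal.mk_eq_zero_iff, Submodule.sup_smul] at h
    obtain ⟨v, hv, w, hw, hvw⟩ := Submodule.mem_sup.1 h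
    rw [Submodule.ideal_span_singleton_smul, Submodule.mem_smul_pointwise_iff_exists] at hw
    obtain ⟨w', -, rfl⟩ := hw
    refine hez (Submodule.Quotient.mk w') ?_
    rw [← Ideal.Quotient.algebraMap_eq, algebraMap_smul, ← Submodule.Quotient.mk_smul, ← hvw,
      Submodule.Quotient.mk_add, (hmem v).2 hv, zero_add]
  have hp' : p < I := by
    refine lt_of_le_not_ge le_sup_left fun h => he (Ideal.Quotient.eq_zero_iff_mem.2 (h ?_))
    exact Ideal.mem_sup_right (Ideal.mem_span_singleton_self e)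
  refine hI (injective_lTensor_of_points u hu I (fun q _ hq => hgt q (hp'.trans_le hq)) (A ⧸ I) ?_ ?_)
  · rw [eq_bot_iff, Submodule.smul_le]
    intro r hr t _
    obtain ⟨t, rfl⟩ := Ideal.Quotient.mk_surjective t
    rw [Submodule.mem_bot, Algebra.smul_def, Ideal.Quotient.algebraMap_eq, ← map_mul, Ideal.Quotient.eq_zero_iff_mem]
    exact I.mul_mem_right _ hr
  · rw [map_zero, LinearMap.lTensor_tmul, FlatteningIdeal.mk_eq_zero_iff, map_smul]
    exact Submodule.smul_mono_left le_sup_left hau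

/-- A map to a flat module injective at the closed point is injective at every point. -/
theorem injective_residueField [Module.Flat A N] [Module.Flat A M] (u : N →ₗ[A] M) (hu : Thick u)
    (hm : Function.Injective (u.lTensor (maximalIdeal A).ResidueField)) (p : Ideal A) [p.IsPrime] :
    Function.Injective (u.lTensor p.ResidueField) := by
  classical
  by_contra hp
  let Bad : Set (Ideal A) := {q | ∃ _ : q.IsPrime, ¬ Function.Injective (u.lTensor q.ResidueField)}
  obtain ⟨P, -, hP⟩ := zorn_le_nonempty₀ Bad (fun C hC hchain c hc => by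
    refine ⟨sSup C, ?_, fun s hs => le_sSup hs⟩
    have hdir : DirectedOn (· ≤ ·) C := hchain.directedOn
    have hprime : (sSup C).IsPrime := by
      refine ⟨fun htop => ?_, fun {x y} hxy => ?_⟩
      · obtain ⟨s, hs, h1⟩ := (Submodule.mem_sSup_of_directed ⟨c, hc⟩ hdir).1 (htop ▸ Submodule.mem_top : (1 : A) ∈ _)
        obtain ⟨hsp, -⟩ := hC hs
        exact hsp.ne_top ((Ideal.eq_top_iff_one s).2 h1)
      · obtain ⟨s, hs, h1⟩ := (Submodule.mem_sSup_of_directed ⟨c, hc⟩ hdir).1 hxy
        obtain ⟨hsp, -⟩ := hC hs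
        exact (hsp.mem_or_mem h1).imp (fun h => le_sSup hs h) (fun h => le_sSup hs h)
    refine ⟨hprime, fun hgood => ?_⟩
    haveI := hprime
    obtain ⟨J, hJq, ⟨G, hG⟩, hJ⟩ := hu (sSup C) hgood
    obtain ⟨s, hs, hGs⟩ : ∃ s ∈ C, ∀ g ∈ J, g ∈ s := by
      have hGC : ∀ g ∈ G, g ∈ sSup C := fun g hg => hJq (hG ▸ Submodule.subset_span hg)
      obtain ⟨s, hs, hGs⟩ : ∃ s ∈ C, ∀ g ∈ G, g ∈ s := by
        clear hG
        induction G using Finset.induction with
        | empty => exact ⟨c, hc, by simp⟩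
        | insert g G hg ih =>
          obtain ⟨s₁, hs₁, h₁⟩ := ih fun g' hg' => hGC g' (Finset.mem_insert_of_mem hg')
          obtain ⟨s₂, hs₂, h₂⟩ := (Submodule.mem_sSup_of_directed ⟨c, hc⟩ hdir).1 (hGC g (Finset.mem_insert_self g G))
          obtain ⟨s₃, hs₃, h₁₃, h₂₃⟩ := hdir s₁ hs₁ s₂ hs₂
          refine ⟨s₃, hs₃, fun g' hg' => ?_⟩
          rcases Finset.mem_insert.1 hg' with rfl | hg'
          · exact h₂₃ h₂
          · exact h₁₃ (h₁ g' hg')
      exact ⟨s, hs, fun g hg => Ideal.span_le.2 hGs (hG.symm ▸ hg : g ∈ Ideal.span (G : Set A))⟩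
    obtain ⟨hsp, hsbad⟩ := hC hs
    haveI := hsp
    refine hsbad (hJ s.ResidueField (fun a ha => ?_) 1 ?_)
    · have hne : algebraMap A s.ResidueField a ≠ 0 := fun h =>
        ha (le_sSup hs (Ideal.algebraMap_residueField_eq_zero.1 h))
      refine ⟨fun x y hxy => ?_, fun x => ⟨(algebraMap A s.ResidueField a)⁻¹ * x, ?_⟩⟩
      · simp only [Algebra.smul_def] at hxy
        exact mul_left_cancel₀ hne hxy
      · show a • _ = x
        rw [Algebra.smul_def, mul_inv_cancel_left₀ hne]
    · rw [pow_one, eq_bot_iff, Submodule.smul_le]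
      intro g hg x _
      rw [Submodule.mem_bot, Algebra.smul_def, Ideal.algebraMap_residueField_eq_zero.2 (hGs g hg), zero_mul])
    p ⟨inferInstance, hp⟩
  obtain ⟨hPp, hPbad⟩ := hP.1
  haveI := hPp
  by_cases hPm : P = maximalIdeal A
  · subst hPm
    exact hPbad hm
  refine hPbad (injective_residueField_of_gt B u hu P hPm fun q hq hPq => ?_)
  by_contra hqbad
  exact hPq.not_ge (hP.2 ⟨hq, hqbad⟩ hPq.le)

end Groth.Agent.UnivInjMod
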