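import Groth.Agent.UnivInjMod.Main
import Groth.Agent.UnivInjMod.Free
import Groth.Agent.UnivInjMod.Induction

/-!
A map linear over the base to a flat module which is injective modulo the maximal ideal.
-/

set_option autoImplicit false
set_option linter.style.haveILetI false
set_option linter.unusedSectionVars false
set_option backward.isDefEq.respectTransparency false

universe u

open TensorProduct IsLocalRing

namespace Groth.Agent.UnivInjMod

attribute [local instance] MvPolynomial.algebraMvPolynomial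

/-- Flatness of a localised quotient of a free module mapping linearly to a flat module. -/
theorem flatAt_of_quotient_linear {A : Type u} [CommRing A] [IsLocalRing A] {n a : ℕ}
    (q : Ideal (MvPolynomial (Fin n) A)) [q.IsPrime] (hq : q.comap MvPolynomial.C = maximalIdeal A)
    (K : Submodule (MvPolynomial (Fin n) A) (Fin a → MvPolynomial (Fin n) A)) (hK : K.FG)
    {N M : Type u} [AddCommGroup N] [Module A N] [Module (MvPolynomial (Fin n) A) N]
    [IsScalarTower A (MvPolynomial (Fin n) A) N]
    (loc : ((Fin a → MvPolynomial (Fin n) A) ⧸ K) →ₗ[MvPolynomial (Fin n) A] N)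
    [IsLocalizedModule q.primeCompl loc] [AddCommGroup M] [Module A M] [Module.Flat A M] (u : N →ₗ[A] M)
    (hu : ∀ y, u y ∈ maximalIdeal A • (⊤ : Submodule A M) → y ∈ maximalIdeal A • (⊤ : Submodule A N)) :
    FlatCA.FlatAt A q ((Fin a → MvPolynomial (Fin n) A) ⧸ K) := by
  classical
  let P := MvPolynomial (Fin n) A
  let mP : Ideal P := (maximalIdeal A).map MvPolynomial.C
  have hmq : mP ≤ q := Ideal.map_le_iff_le_comap.2 hq.ge
  let qm : P →+* MvPolynomial (Fin n) (ResidueField A) := MvPolynomial.map (residue A)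
  have hkerqm : RingHom.ker qm = mP := by
    rw [MvPolynomial.ker_map, ker_residue]
  haveI : IsNoetherianRing (P ⧸ mP) :=
    isNoetherianRing_of_ringEquiv (MvPolynomial (Fin n) (ResidueField A))
      ((RingHom.quotientKerEquivOfSurjective (f := qm) (MvPolynomial.map_surjective _ residue_surjective)).symm.trans
        (Ideal.quotEquivOfEq hkerqm))
  obtain ⟨s, hsq, hs⟩ := exists_uniform (E := (Fin a → P) ⧸ K) mP q
  obtain ⟨G, hG⟩ := hK
  let F : Finset P := insert s (G.biUnion fun g => Finset.univ.image g)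
  obtain ⟨A₀, _, _, _, _, hloc, hF⟩ := exists_descent F
  haveI := hloc
  obtain ⟨R, A', _, _, _, _, _, _, _, _, _, _, ht1, ht2, hl1, hl2, hfl, hR, Φ', hΦA, hker⟩ :=
    exists_complete_cover (A := A) (A₀ := A₀)
  haveI := ht1; haveI := ht2; haveI := hl1; haveI := hl2; haveI := hfl
  let P₀ := MvPolynomial (Fin n) A₀
  let S := MvPolynomial (Fin n) R
  let T := MvPolynomial (Fin n) A'
  -- descend
  obtain ⟨s₀, hs₀⟩ := hF s (Finset.mem_insert_self _ _)
  choose r₀ hr₀ using fun (g : G) (l : Fin a) => hF (g.1 l) (Finset.mem_insert_of_mem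
    (Finset.mem_biUnion.2 ⟨g.1, g.2, Finset.mem_image_of_mem _ (Finset.mem_univ l)⟩))
  have halg : ∀ p₀ : P₀, algebraMap P₀ P p₀ = MvPolynomial.map (algebraMap A₀ A) p₀ := fun _ => rfl
  obtain ⟨j, hj, -⟩ := exists_quotient_baseChange (P₀ := P₀) (P := P) r₀ K (by
    rw [← hG]
    congr 1
    ext z
    simp only [Set.mem_range, halg, hr₀]
    exact ⟨fun hz => ⟨⟨z, hz⟩, rfl⟩, by rintro ⟨g, rfl⟩; exact g.2⟩)
  haveI : Algebra.IsPushout A₀ A P₀ P := inferInstance
  haveI hTP : IsScalarTower P₀ P T := IsScalarTower.of_algebraMap_eq fun p => by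
    show MvPolynomial.map (algebraMap A₀ A') p = MvPolynomial.map (algebraMap A A') (MvPolynomial.map (algebraMap A₀ A) p)
    rw [MvPolynomial.map_map, ← IsScalarTower.algebraMap_eq]
  haveI hTS : IsScalarTower P₀ S T := IsScalarTower.of_algebraMap_eq fun p => by
    show MvPolynomial.map (algebraMap A₀ A') p = MvPolynomial.map (algebraMap R A') (MvPolynomial.map (algebraMap A₀ R) p)
    rw [MvPolynomial.map_map, ← IsScalarTower.algebraMap_eq]
  have hS : ∀ z : S, ∃ z₀ : P₀, z - algebraMap P₀ S z₀ ∈ (maximalIdeal R).map (algebraMap R S) := by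
    intro z
    have hsur : Function.Surjective ((residue R).comp (algebraMap A₀ R)) := fun c => by
      obtain ⟨y, rfl⟩ := residue_surjective c
      obtain ⟨x, hx⟩ := hR y
      refine ⟨x, ?_⟩
      rw [← residue_eq_zero_iff, map_sub, sub_eq_zero] at hx
      exact hx.symm
    obtain ⟨z₀, hz₀⟩ := MvPolynomial.map_surjective _ hsur (MvPolynomial.map (residue R) z)
    refine ⟨z₀, ?_⟩
    rw [MvPolynomial.algebraMap_eq, ← ker_residue (R := R), ← MvPolynomial.ker_map, RingHom.mem_ker, map_sub,
      MvPolynomial.algebraMap_def, MvPolynomial.map_map, hz₀, sub_self]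
  have hA' : ∀ y : A', ∃ c : A, y - algebraMap A A' c ∈ maximalIdeal A' := fun y => by
    obtain ⟨c, hc⟩ := residue_surjective (Φ' y)
    exact ⟨c, by rw [← hker, RingHom.mem_ker, map_sub, hΦA, hc, sub_self]⟩
  let k₁ : ResidueField A →+* P ⧸ mP := Ideal.Quotient.lift (maximalIdeal A)
    ((Ideal.Quotient.mk mP).comp MvPolynomial.C) fun c hc =>
    Ideal.Quotient.eq_zero_iff_mem.2 (Ideal.mem_map_of_mem _ hc)
  let θ : T →+* P ⧸ mP := MvPolynomial.eval₂Hom (k₁.comp Φ') fun i => Ideal.Quotient.mk mP (MvPolynomial.X i)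
  have hθ : ∀ p, θ (algebraMap P T p) = Ideal.Quotient.mk _ p := by
    intro p
    refine RingHom.congr_fun (f := θ.comp (algebraMap P T)) (g := Ideal.Quotient.mk mP)
      (MvPolynomial.ringHom_ext (fun c => ?_) fun i => ?_) p
    · show θ (MvPolynomial.map _ (MvPolynomial.C c)) = _
      rw [MvPolynomial.map_C, MvPolynomial.eval₂Hom_C, RingHom.comp_apply, hΦA]
      rfl
    · show θ (MvPolynomial.map _ (MvPolynomial.X i)) = _
      rw [MvPolynomial.map_X, MvPolynomial.eval₂Hom_X']
  have hθm : ∀ y ∈ maximalIdeal A', θ (algebraMap A' T y) = 0 := fun y hy => by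
    rw [MvPolynomial.algebraMap_eq, MvPolynomial.eval₂Hom_C, RingHom.comp_apply]
    rw [← hker, RingHom.mem_ker] at hy
    rw [hy, map_zero]
  have hsm : ∀ e', e' ∈ mP • (⊤ : Submodule P ((Fin a → P) ⧸ K)) ↔
      e' ∈ maximalIdeal A • (⊤ : Submodule A ((Fin a → P) ⧸ K)) := fun e' => (mem_smul_top_iff (B := P) _ _).symm
  exact flatAt_of_model_linear (A₀ := A₀) (R := R) (A' := A') (S := S) (T := T) hS hA' q mP rfl hmq
    θ hθ hθm j hj loc u hu s₀ (by rwa [MvPolynomial.algebraMap_def, hs₀])
    (fun e' ⟨t, ht, hte⟩ => by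
      rw [MvPolynomial.algebraMap_def, hs₀, ← hsm]
      exact hs e' ⟨t, ht, (hsm _).2 hte⟩)

/-- Flatness and universal injectivity for a localised quotient of a free module. -/
theorem flat_injective_lTensor_of_quotient {A : Type u} [CommRing A] [IsLocalRing A] {n a : ℕ}
    (q : Ideal (MvPolynomial (Fin n) A)) [q.IsPrime] (hq : q.comap MvPolynomial.C = maximalIdeal A)
    (K : Submodule (MvPolynomial (Fin n) A) (Fin a → MvPolynomial (Fin n) A)) (hK : K.FG)
    {N M : Type u} [AddCommGroup N] [Module A N] [Module (MvPolynomial (Fin n) A) N]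
    [IsScalarTower A (MvPolynomial (Fin n) A) N] [Module (Localization.AtPrime q) N]
    [IsScalarTower (MvPolynomial (Fin n) A) (Localization.AtPrime q) N]
    (loc : ((Fin a → MvPolynomial (Fin n) A) ⧸ K) →ₗ[MvPolynomial (Fin n) A] N)
    [IsLocalizedModule q.primeCompl loc] [AddCommGroup M] [Module A M] [Module.Flat A M] (u : N →ₗ[A] M)
    (hu : ∀ y, u y ∈ maximalIdeal A • (⊤ : Submodule A M) → y ∈ maximalIdeal A • (⊤ : Submodule A N)) :
    Module.Flat A N ∧ ∀ (Q : Type u) [AddCommGroup Q] [Module A Q], Function.Injective (u.lTensor Q) := by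
  classical
  let P := MvPolynomial (Fin n) A
  let Pq := Localization.AtPrime q
  haveI : Module.Flat A N := by
    haveI : Module.Flat A (LocalizedModule q.primeCompl ((Fin a → P) ⧸ K)) :=
      flatAt_of_quotient_linear q hq K hK loc u hu
    exact Module.Flat.of_linearEquiv ((IsLocalizedModule.iso q.primeCompl loc).restrictScalars A).symm
  haveI : IsScalarTower A Pq N := IsScalarTower.of_algebraMap_smul fun c y => by
    rw [IsScalarTower.algebraMap_apply A P Pq, algebraMap_smul, algebraMap_smul]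
  haveI : IsLocalHom (algebraMap A Pq) := ⟨fun c hc => by
    rw [IsScalarTower.algebraMap_apply A P Pq, IsLocalization.AtPrime.isUnit_to_map_iff Pq q] at hc
    refine IsLocalRing.notMem_maximalIdeal.1 fun h => hc ?_
    rw [← hq] at h
    exact h⟩
  haveI : Algebra.EssFiniteType P Pq := Algebra.EssFiniteType.of_isLocalization Pq q.primeCompl
  haveI : Algebra.EssFiniteType A Pq := Algebra.EssFiniteType.comp A P Pq
  haveI : Module.Finite Pq N := Module.Finite.of_isLocalizedModule q.primeCompl loc
  have hthick : Thick u := fun p _ hp => exists_injective_of_good q.primeCompl hK loc u p hp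
  have hm' : Function.Injective (u.lTensor (A ⧸ maximalIdeal A)) := by
    rw [injective_iff_map_eq_zero]
    intro z hz
    obtain ⟨y, rfl⟩ := TensorProduct.mk_surjective A N (A ⧸ maximalIdeal A) Ideal.Quotient.mk_surjective z
    rw [TensorProduct.mk_apply] at hz ⊢
    rw [LinearMap.lTensor_tmul, FlatteningIdeal.mk_eq_zero_iff] at hz
    exact (FlatteningIdeal.mk_eq_zero_iff _ _).2 (hu y hz)
  let e : (A ⧸ maximalIdeal A) ≃ₗ[A] (maximalIdeal A).ResidueField :=
    (AlgEquiv.ofBijective (IsScalarTower.toAlgHom A (A ⧸ maximalIdeal A) _)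
      (Ideal.bijective_algebraMap_quotient_residueField _)).toLinearEquiv
  have hm : Function.Injective (u.lTensor (maximalIdeal A).ResidueField) := by
    have hsq : u.lTensor (maximalIdeal A).ResidueField ∘ₗ (e.rTensor N).toLinearMap =
        (e.rTensor M).toLinearMap ∘ₗ u.lTensor (A ⧸ maximalIdeal A) := by
      ext x y
      rfl
    intro x x' hxx
    obtain ⟨x, rfl⟩ := (e.rTensor N).surjective x
    obtain ⟨x', rfl⟩ := (e.rTensor N).surjective x'
    refine congrArg _ (hm' ((e.rTensor M).injective ?_))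
    exact (LinearMap.congr_fun hsq x).symm.trans (hxx.trans (LinearMap.congr_fun hsq x'))
  refine ⟨inferInstance, fun Q _ _ => ?_⟩
  exact injective_lTensor_of_points u hthick ⊥ (fun p _ _ => injective_residueField Pq u hthick hm p) Q
    (Submodule.bot_smul _)

/-- The criterion for a map linear over the base. -/
theorem linear_criterion {A B N M : Type u} [CommRing A] [IsLocalRing A] [CommRing B] [IsLocalRing B] [Algebra A B]
    [IsLocalHom (algebraMap A B)] [Algebra.EssFiniteType A B] [AddCommGroup N] [Module B N] [Module A N]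
    [IsScalarTower A B N] [Module.Finite B N] [AddCommGroup M] [Module A M] [Module.Flat A M] (u : N →ₗ[A] M)
    (hu : ∀ y, u y ∈ maximalIdeal A • (⊤ : Submodule A M) → y ∈ maximalIdeal A • (⊤ : Submodule A N)) :
    (∀ (Q : Type u) [AddCommGroup Q] [Module A Q], Function.Injective (u.lTensor Q)) ∧
      Module.FinitePresentation B N ∧ Module.Flat A N := by
  classical
  obtain ⟨n, π, hπ⟩ := exists_presentation A B
  let P := MvPolynomial (Fin n) A
  letI : Algebra P B := π.toRingHom.toAlgebra
  haveI : IsScalarTower A P B := IsScalarTower.of_algebraMap_eq fun x => (π.commutes x).symm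
  letI : Module P N := Module.compHom N (algebraMap P B)
  haveI : IsScalarTower P B N := IsScalarTower.of_algebraMap_smul fun _ _ => rfl
  haveI : IsScalarTower A P N := IsScalarTower.of_algebraMap_smul fun c y => by
    rw [← algebraMap_smul B (algebraMap A P c) y, ← IsScalarTower.algebraMap_apply A P B, algebraMap_smul]
  let q : Ideal P := (maximalIdeal B).comap (algebraMap P B)
  haveI : q.IsPrime := inferInstance
  have hq : q.comap MvPolynomial.C = maximalIdeal A := by
    rw [Ideal.comap_comap]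
    have : (algebraMap P B).comp MvPolynomial.C = algebraMap A B := RingHom.ext fun x => π.commutes x
    rw [this]
    exact maximalIdeal_comap (algebraMap A B)
  have hunit : ∀ w : P, w ∉ q → IsUnit (algebraMap P B w) := fun w hw => IsLocalRing.notMem_maximalIdeal.1 hw
  have hfrac : ∀ b : B, ∃ x w : P, w ∉ q ∧ algebraMap P B w * b = algebraMap P B x := fun b => by
    obtain ⟨x, w, hw, h⟩ := hπ b
    exact ⟨x, w, fun h' => (IsLocalRing.notMem_maximalIdeal.2 hw) h', h⟩
  obtain ⟨a, y, hy⟩ := Module.Finite.exists_fin (R := B) (M := N)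
  let φ : (Fin a → P) →ₗ[P] N := Fintype.linearCombination P y
  have hdense : ∀ z : N, ∃ w ∉ q, ∃ x, φ x = w • z := by
    intro z
    have hz : z ∈ Submodule.span B (Set.range y) := hy ▸ Submodule.mem_top
    induction hz using Submodule.span_induction with
    | mem z hz =>
      obtain ⟨i, rfl⟩ := hz
      exact ⟨1, q.one_notMem, Pi.single i 1, by simp [φ]⟩
    | zero => exact ⟨1, q.one_notMem, 0, by simp⟩
    | add z z' _ _ h h' =>
      obtain ⟨w, hw, x, hx⟩ := h
      obtain ⟨w', hw', x', hx'⟩ := h'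
      refine ⟨w * w', fun h => ?_, w' • x + w • x', ?_⟩
      · rcases Ideal.IsPrime.mem_or_mem inferInstance h with h | h
        exacts [hw h, hw' h]
      · rw [map_add, map_smul, map_smul, hx, hx', smul_smul, smul_smul, smul_add, mul_comm w' w]
    | smul b z _ h =>
      obtain ⟨w, hw, x, hx⟩ := h
      obtain ⟨c, d, hd, hcd⟩ := hfrac b
      refine ⟨d * w, fun h => ?_, c • x, ?_⟩
      · rcases Ideal.IsPrime.mem_or_mem inferInstance h with h | h
        exacts [hd h, hw h]
      · rw [map_smul, hx, ← algebraMap_smul B c (w • z), ← algebraMap_smul B w z, ← algebraMap_smul B (d * w) (b • z),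
          smul_smul, smul_smul, map_mul, ← hcd]
        congr 1
        ring
  let mP : Ideal P := (maximalIdeal A).map (algebraMap A P)
  haveI : IsNoetherianRing (P ⧸ mP) :=
    isNoetherianRing_of_ringEquiv (MvPolynomial (Fin n) (ResidueField A))
      ((RingHom.quotientKerEquivOfSurjective (f := MvPolynomial.map (σ := Fin n) (residue A))
        (MvPolynomial.map_surjective _ residue_surjective)).symm.trans
        (Ideal.quotEquivOfEq (by rw [MvPolynomial.ker_map, ker_residue]; rfl)))
  have hsm : ∀ {X : Type u} [AddCommGroup X] [Module P X] [Module A X] [IsScalarTower A P X] (z : X),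
      z ∈ maximalIdeal A • (⊤ : Submodule A X) ↔ z ∈ mP • (⊤ : Submodule P X) :=
    fun z => mem_smul_top_iff (B := P) _ _
  let Ktil : Submodule P (Fin a → P) := (mP • (⊤ : Submodule P N)).comap φ
  obtain ⟨Gs, hGs⟩ : (Ktil.map (mP • (⊤ : Submodule P (Fin a → P))).mkQ).FG := by
    let X := (Fin a → P) ⧸ (mP • (⊤ : Submodule P (Fin a → P)))
    haveI : Module.Finite (P ⧸ mP) X := Module.Finite.of_restrictScalars_finite P (P ⧸ mP) X
    haveI : IsNoetherian (P ⧸ mP) X := isNoetherian_of_isNoetherianRing_of_finite (P ⧸ mP) X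
    let Y : Submodule (P ⧸ mP) X :=
      { toAddSubmonoid := (Ktil.map (mP • (⊤ : Submodule P (Fin a → P))).mkQ).toAddSubmonoid
        smul_mem' := fun c x hx => by
          obtain ⟨c, rfl⟩ := Ideal.Quotient.mk_surjective c
          exact Submodule.smul_mem _ c hx }
    exact Submodule.FG.restrictScalars_of_surjective (R := P) (IsNoetherian.noetherian Y) Ideal.Quotient.mk_surjective
  have hGm : ∀ g : Gs, ∃ x ∈ Ktil, (mP • (⊤ : Submodule P (Fin a → P))).mkQ x = g.1 := fun g =>
    Submodule.mem_map.1 (hGs ▸ Submodule.subset_span g.2)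
  choose xg hxg hxg' using hGm
  have hrel : ∀ g : Gs, ∃ (w : P) (z : Fin a → P), w ∉ q ∧ z ∈ mP • (⊤ : Submodule P (Fin a → P)) ∧
      φ (w • xg g - z) = 0 := by
    intro g
    have h : φ (xg g) ∈ mP • (⊤ : Submodule P N) := hxg g
    suffices ∀ z' ∈ mP • (⊤ : Submodule P N), ∃ w ∉ q, ∃ z ∈ mP • (⊤ : Submodule P (Fin a → P)), φ z = w • z' by
      obtain ⟨w, hw, z, hz, hzw⟩ := this _ h
      exact ⟨w, z, hw, hz, by rw [map_sub, map_smul, hzw, sub_self]⟩
    intro z' hz'
    refine Submodule.smul_induction_on hz' (fun c hc v _ => ?_) fun v v' h h' => ?_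
    · obtain ⟨w, hw, x, hx⟩ := hdense v
      exact ⟨w, hw, c • x, Submodule.smul_mem_smul hc Submodule.mem_top, by rw [map_smul, hx, smul_comm]⟩
    · obtain ⟨w, hw, x, hxm, hx⟩ := h
      obtain ⟨w', hw', x', hxm', hx'⟩ := h'
      refine ⟨w * w', fun h => ?_, w' • x + w • x', add_mem (Submodule.smul_mem _ _ hxm) (Submodule.smul_mem _ _ hxm'), ?_⟩
      · rcases Ideal.IsPrime.mem_or_mem inferInstance h with h | h
        exacts [hw h, hw' h]
      · rw [map_add, map_smul, map_smul, hx, hx', smul_smul, smul_smul, smul_add, mul_comm w' w]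
  choose w z hwq hzm hφ using hrel
  let K := Submodule.span P (Set.range fun g => w g • xg g - z g)
  have hK : K.FG := Submodule.fg_span (Set.finite_range _)
  have hKφ : K ≤ LinearMap.ker φ := Submodule.span_le.2 (Set.range_subset_iff.2 hφ)
  let φb : ((Fin a → P) ⧸ K) →ₗ[P] N := K.liftQ φ hKφ
  have hv : ∀ e, φb e ∈ maximalIdeal A • (⊤ : Submodule A N) →
      ∃ s ∉ q, s • e ∈ maximalIdeal A • (⊤ : Submodule A ((Fin a → P) ⧸ K)) := by
    intro e he
    obtain ⟨x, rfl⟩ := Submodule.Quotient.mk_surjective K e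
    have hxK : x ∈ Ktil := (hsm (φ x)).1 he
    suffices hmain : ∀ x' : (Fin a → P) ⧸ (mP • (⊤ : Submodule P (Fin a → P))),
        x' ∈ Ktil.map (mP • (⊤ : Submodule P (Fin a → P))).mkQ →
        ∀ x, (mP • (⊤ : Submodule P (Fin a → P))).mkQ x = x' →
          ∃ s ∉ q, s • x ∈ K ⊔ mP • (⊤ : Submodule P (Fin a → P)) by
      obtain ⟨s, hs, hsx⟩ := hmain _ (Submodule.mem_map_of_mem hxK) x rfl
      refine ⟨s, hs, (hsm _).2 ?_⟩
      have h2 := Submodule.mem_map_of_mem (f := K.mkQ) hsx
      rw [Submodule.map_sup, Submodule.mkQ_map_self, bot_sup_eq, Submodule.map_smul'', Submodule.map_top,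
        Submodule.range_mkQ, map_smul] at h2
      exact h2
    rw [← hGs]
    intro x' hx'
    induction hx' using Submodule.span_induction with
    | mem x' hx' =>
      intro x hx
      refine ⟨w ⟨x', hx'⟩, hwq _, ?_⟩
      have hd : x - xg ⟨x', hx'⟩ ∈ mP • (⊤ : Submodule P (Fin a → P)) := by
        rw [← Submodule.Quotient.eq]
        exact hx.trans (hxg' ⟨x', hx'⟩).symm
      have : w ⟨x', hx'⟩ • x = (w ⟨x', hx'⟩ • xg ⟨x', hx'⟩ - z ⟨x', hx'⟩) +
          (z ⟨x', hx'⟩ + w ⟨x', hx'⟩ • (x - xg ⟨x', hx'⟩)) := by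
        rw [smul_sub]
        abel
      rw [this]
      exact add_mem (Submodule.mem_sup_left (Submodule.subset_span ⟨⟨x', hx'⟩, rfl⟩))
        (Submodule.mem_sup_right (add_mem (hzm _) (Submodule.smul_mem _ _ hd)))
    | zero =>
      intro x hx
      exact ⟨1, q.one_notMem, by rw [one_smul]; exact Submodule.mem_sup_right ((Submodule.Quotient.mk_eq_zero _).1 hx)⟩
    | add x₁ x₂ _ _ h₁ h₂ =>
      intro x hx
      obtain ⟨p, hp⟩ := Submodule.mkQ_surjective (mP • (⊤ : Submodule P (Fin a → P))) x₁
      obtain ⟨s, hs, hsp⟩ := h₁ p hp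
      obtain ⟨s', hs', hsp'⟩ := h₂ (x - p) (by rw [map_sub, hx, hp, add_sub_cancel_left])
      refine ⟨s * s', fun h => ?_, ?_⟩
      · rcases Ideal.IsPrime.mem_or_mem inferInstance h with h | h
        exacts [hs h, hs' h]
      · have : (s * s') • x = s' • (s • p) + s • (s' • (x - p)) := by
          rw [smul_smul, smul_smul, mul_comm s' s, ← smul_add, add_sub_cancel]
        rw [this]
        exact add_mem (Submodule.smul_mem _ _ hsp) (Submodule.smul_mem _ _ hsp')
    | smul c x₁ _ h =>
      intro x hx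
      obtain ⟨p, hp⟩ := Submodule.mkQ_surjective (mP • (⊤ : Submodule P (Fin a → P))) x₁
      obtain ⟨s, hs, hsp⟩ := h p hp
      refine ⟨s, hs, ?_⟩
      have hd : x - c • p ∈ mP • (⊤ : Submodule P (Fin a → P)) := by
        rw [← Submodule.Quotient.eq]
        exact hx.trans (by rw [← hp]; rfl)
      have : s • x = c • (s • p) + s • (x - c • p) := by
        rw [smul_comm c s p, ← smul_add, add_sub_cancel]
      rw [this]
      exact add_mem (Submodule.smul_mem _ _ hsp) (Submodule.mem_sup_right (Submodule.smul_mem _ _ hd))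
  have hNu : ∀ s : P, s ∉ q → Function.Bijective fun p : N => s • p := fun s hs => by
    obtain ⟨c, hc⟩ := hunit s hs
    refine ⟨fun p p' h => ?_, fun p => ⟨(↑c⁻¹ : B) • p, ?_⟩⟩
    · simp only at h
      rw [← algebraMap_smul B s p, ← algebraMap_smul B s p', ← hc] at h
      have := congrArg ((↑c⁻¹ : B) • ·) h
      simpa [smul_smul] using this
    · simp only
      rw [← algebraMap_smul B s, ← hc, smul_smul, Units.mul_inv, one_smul]
  have hφsurj : ∀ p : N, ∃ s ∉ q, ∃ e, φb e = s • p := fun p => by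
    obtain ⟨s, hs, x, hx⟩ := hdense p
    exact ⟨s, hs, Submodule.Quotient.mk x, hx⟩
  obtain ⟨N', _, _, _, _, loc, hloc⟩ := exists_localizedModule q.primeCompl ((Fin a → P) ⧸ K)
  haveI := hloc
  letI : Module A N' := Module.compHom N' (algebraMap A P)
  haveI : IsScalarTower A P N' := IsScalarTower.of_algebraMap_smul fun _ _ => rfl
  have hun : ∀ w : q.primeCompl, IsUnit (algebraMap P (Module.End P N) w) := fun w => by
    rw [Module.End.isUnit_iff]
    exact hNu w.1 w.2
  let φ' : N' →ₗ[P] N := IsLocalizedModule.lift q.primeCompl loc φb hun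
  have hφ' : ∀ e, φ' (loc e) = φb e := IsLocalizedModule.lift_apply q.primeCompl loc φb hun
  have hN'u : ∀ w ∉ q, Function.Bijective fun y : N' => w • y := fun w hw => by
    have h := IsLocalizedModule.map_units loc (⟨w, hw⟩ : q.primeCompl)
    rw [Module.End.isUnit_iff] at h
    exact h
  let u' : N' →ₗ[A] M := u ∘ₗ φ'.restrictScalars A
  have hu' : ∀ y, u' y ∈ maximalIdeal A • (⊤ : Submodule A M) → y ∈ maximalIdeal A • (⊤ : Submodule A N') := by
    intro y hy
    obtain ⟨⟨e, ⟨t, ht⟩⟩, hte⟩ := IsLocalizedModule.surj q.primeCompl loc y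
    have hte' : t • y = loc e := hte
    have h1 : φb e ∈ maximalIdeal A • (⊤ : Submodule A N) := by
      rw [← hφ', ← hte', map_smul]
      exact (hsm _).2 (Submodule.smul_mem _ t ((hsm _).1 (hu _ hy)))
    obtain ⟨s, hs, hse⟩ := hv e h1
    have h2 : loc (s • e) ∈ maximalIdeal A • (⊤ : Submodule A N') :=
      map_smul_top_mem (loc.restrictScalars A) _ hse
    rw [map_smul, ← hte', smul_smul] at h2
    have hwq : s * t ∉ q := fun h => (Ideal.IsPrime.mem_or_mem inferInstance h).elim hs ht
    have hb : IsUnit (algebraMap P (Localization.AtPrime q) (s * t)) :=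
      IsLocalization.map_units (Localization.AtPrime q) (⟨s * t, hwq⟩ : q.primeCompl)
    rw [hsm] at h2 ⊢
    rw [mem_smul_top_iff' (B := Localization.AtPrime q)] at h2 ⊢
    rw [← algebraMap_smul (Localization.AtPrime q) (s * t) y] at h2
    exact (Submodule.smul_mem_iff_of_isUnit _ hb).1 h2
  obtain ⟨hflat', hinj'⟩ := flat_injective_lTensor_of_quotient q hq K hK loc u' hu'
  have hu'inj : Function.Injective u' := by
    intro y y' h
    have h1 : u'.lTensor A (1 ⊗ₜ y) = u'.lTensor A (1 ⊗ₜ y') := by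
      rw [LinearMap.lTensor_tmul, LinearMap.lTensor_tmul, h]
    have h2 := congrArg (TensorProduct.lid A N') (hinj' A h1)
    simpa using h2
  have hbij : Function.Bijective φ' := by
    refine ⟨fun y y' h => hu'inj (congrArg u h), fun z => ?_⟩
    obtain ⟨w, hw, x, hx⟩ := hdense z
    obtain ⟨y, hy⟩ := (hN'u w hw).2 (loc (Submodule.Quotient.mk x))
    refine ⟨y, (hNu w hw).1 ?_⟩
    show w • φ' y = w • z
    rw [← map_smul, show w • y = _ from hy, hφ', ← hx]
    rfl
  let e : N' ≃ₗ[A] N := LinearEquiv.ofBijective (φ'.restrictScalars A) hbij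
  haveI : Module.Flat A N := Module.Flat.of_linearEquiv e.symm
  refine ⟨fun Q _ _ => ?_, (flat_fp_injective (A := A) (LinearMap.id : N →ₗ[B] N) fun _ h => h).2.1, inferInstance⟩
  have hue : u = u' ∘ₗ e.symm.toLinearMap := LinearMap.ext fun z => congrArg u (e.apply_symm_apply z).symm
  rw [hue, LinearMap.lTensor_comp, LinearMap.coe_comp]
  exact (hinj' Q).comp (e.symm.lTensor Q).injective

end Groth.Agent.UnivInjMod
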