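import Groth.Agent.UnivInjMod.Model
import Groth.Agent.CAlgUI.Flat
import Mathlib.RingTheory.EssentialFiniteness

/-!
A module map to a flat module which is injective modulo the maximal ideal, for a local algebra
essentially of finite type.
-/

set_option autoImplicit false
set_option linter.style.haveILetI false
set_option linter.unusedSectionVars false
set_option backward.isDefEq.respectTransparency false

universe u

open TensorProduct IsLocalRing

namespace Groth.Agent.UnivInjMod

/-- A local algebra essentially of finite type is a localisation of a quotient of a polynomial ring. -/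
theorem exists_presentation (A B : Type u) [CommRing A] [CommRing B] [Algebra A B] [Algebra.EssFiniteType A B] :
    ∃ (n : ℕ) (π : MvPolynomial (Fin n) A →ₐ[A] B), ∀ b : B, ∃ x w, IsUnit (π w) ∧ π w * b = π x := by
  classical
  obtain ⟨σ, hσ⟩ := (Algebra.essFiniteType_iff A B).1 ‹_›
  let g : Fin σ.card → B := fun i => (σ.equivFin.symm i).1
  have hg : Set.range g = (σ : Set B) := by
    ext x
    exact ⟨by rintro ⟨i, rfl⟩; exact (σ.equivFin.symm i).2, fun hx => ⟨σ.equivFin ⟨x, hx⟩, by simp [g]⟩⟩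
  refine ⟨σ.card, MvPolynomial.aeval g, fun b => ?_⟩
  obtain ⟨t, ht, htu, htb⟩ := hσ b
  rw [← hg, Algebra.adjoin_range_eq_range_aeval, AlgHom.mem_range] at ht htb
  obtain ⟨w, rfl⟩ := ht
  obtain ⟨x, hx⟩ := htb
  exact ⟨x, w, htu, by rw [hx, mul_comm]⟩

/-- A finite presentation over a cover gives one over a localisation of a quotient. -/
theorem finitePresentation_of_cover {P B E N : Type u} [CommRing P] [CommRing B] [Algebra P B] (W : Submonoid P)
    (hunit : ∀ w ∈ W, IsUnit (algebraMap P B w)) (hfrac : ∀ b : B, ∃ x w : P, w ∈ W ∧ algebraMap P B w * b = algebraMap P B x)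
    [AddCommGroup E] [Module P E] [Module.FinitePresentation P E] [AddCommGroup N] [Module B N] [Module P N]
    [IsScalarTower P B N] (φb : E →ₗ[P] N) (hker : ∀ e, φb e = 0 → ∃ s ∈ W, s • e = 0)
    (hsurj : ∀ p : N, ∃ s ∈ W, ∃ e, φb e = s • p) : Module.FinitePresentation B N := by
  let l : B ⊗[P] E →ₗ[B] N := φb.liftBaseChange B
  have hl : ∀ e, l (1 ⊗ₜ[P] e) = φb e := fun e => by rw [LinearMap.liftBaseChange_tmul, one_smul]
  have hrep : ∀ t : B ⊗[P] E, ∃ s ∈ W, ∃ e, s • t = (1 : B) ⊗ₜ[P] e := by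
    intro t
    induction t using TensorProduct.induction_on with
    | zero => exact ⟨1, W.one_mem, 0, by simp⟩
    | tmul b e =>
      obtain ⟨c, d, hd, hcd⟩ := hfrac b
      refine ⟨d, hd, c • e, ?_⟩
      rw [TensorProduct.smul_tmul', Algebra.smul_def, hcd, TensorProduct.tmul_smul, TensorProduct.smul_tmul',
        Algebra.smul_def, mul_one]
    | add t t' h h' =>
      obtain ⟨s, hs, e, he⟩ := h
      obtain ⟨s', hs', e', he'⟩ := h'
      refine ⟨s * s', W.mul_mem hs hs', s' • e + s • e', ?_⟩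
      rw [tmul_add, tmul_smul, tmul_smul, ← he, ← he', smul_smul, smul_smul, smul_add, mul_comm s' s]
  have hcancel : ∀ s ∈ W, ∀ t : B ⊗[P] E, s • t = 0 → t = 0 := fun s hs t ht => by
    obtain ⟨c, hc⟩ := hunit s hs
    rw [← algebraMap_smul B s t, ← hc] at ht
    have := congrArg ((↑c⁻¹ : B) • ·) ht
    simpa [smul_smul] using this
  have hlb : Function.Bijective l := by
    refine ⟨(injective_iff_map_eq_zero l).2 fun t ht => ?_, fun p => ?_⟩
    · obtain ⟨s, hs, e, he⟩ := hrep t
      obtain ⟨s', hs', hse⟩ := hker e (by rw [← hl, ← he, LinearMap.map_smul_of_tower, ht, smul_zero])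
      refine hcancel s hs t (hcancel s' hs' _ ?_)
      rw [he, ← tmul_smul, hse, tmul_zero]
    · obtain ⟨s, hs, e, he⟩ := hsurj p
      obtain ⟨c, hc⟩ := hunit s hs
      refine ⟨(↑c⁻¹ : B) • ((1 : B) ⊗ₜ[P] e), ?_⟩
      rw [map_smul, hl, he, ← algebraMap_smul B s p, ← hc, smul_smul, Units.inv_mul, one_smul]
  exact Module.FinitePresentation.of_equiv (LinearEquiv.ofBijective l hlb)

section

variable {A B : Type u} [CommRing A] [IsLocalRing A] [CommRing B] [IsLocalRing B] [Algebra A B]
  [IsLocalHom (algebraMap A B)] [Algebra.EssFiniteType A B] {N M : Type u} [AddCommGroup N] [Module B N]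
  [Module A N] [IsScalarTower A B N] [Module.Finite B N] [AddCommGroup M] [Module B M] [Module A M]
  [IsScalarTower A B M] [Module.Flat A M]

/-- Flatness, finite presentation and injectivity. -/
theorem flat_fp_injective (u : N →ₗ[B] M)
    (hu : ∀ y, u y ∈ maximalIdeal A • (⊤ : Submodule A M) → y ∈ maximalIdeal A • (⊤ : Submodule A N)) :
    Function.Injective u ∧ Module.FinitePresentation B N ∧ Module.Flat A N := by
  classical
  obtain ⟨n, π, hπ⟩ := exists_presentation A B
  let P := MvPolynomial (Fin n) A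
  letI : Algebra P B := π.toRingHom.toAlgebra
  haveI : IsScalarTower A P B := IsScalarTower.of_algebraMap_eq fun x => (π.commutes x).symm
  letI : Module P N := Module.compHom N (algebraMap P B)
  haveI : IsScalarTower P B N := IsScalarTower.of_algebraMap_smul fun _ _ => rfl
  haveI : IsScalarTower A P N := IsScalarTower.of_algebraMap_smul fun c y => by
    rw [← algebraMap_smul B (algebraMap A P c) y, ← IsScalarTower.algebraMap_apply A P B, algebraMap_smul]
  letI : Module P M := Module.compHom M (algebraMap P B)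
  haveI : IsScalarTower P B M := IsScalarTower.of_algebraMap_smul fun _ _ => rfl
  haveI : IsScalarTower A P M := IsScalarTower.of_algebraMap_smul fun c y => by
    rw [← algebraMap_smul B (algebraMap A P c) y, ← IsScalarTower.algebraMap_apply A P B, algebraMap_smul]
  let q : Ideal P := (maximalIdeal B).comap (algebraMap P B)
  haveI : q.IsPrime := inferInstance
  have hq : q.comap MvPolynomial.C = maximalIdeal A := by
    rw [Ideal.comap_comap]
    have : (algebraMap P B).comp MvPolynomial.C = algebraMap A B := RingHom.ext fun x => π.commutes x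
    rw [this]
    exact maximalIdeal_comap (algebraMap A B)
  have hunit : ∀ w : P, w ∉ q → IsUnit (algebraMap P B w) := fun w hw => IsLocalRing.notMem_maximalIdeal.1 hw
  have hfrac : ∀ b : B, ∃ x w : P, w ∉ q ∧ algebraMap P B w * b = algebraMap P B x := fun b => by
    obtain ⟨x, w, hw, h⟩ := hπ b
    exact ⟨x, w, fun h' => (IsLocalRing.notMem_maximalIdeal.2 hw) h', h⟩
  obtain ⟨a, y, hy⟩ := Module.Finite.exists_fin (R := B) (M := N)
  let φ : (Fin a → P) →ₗ[P] N := Fintype.linearCombination P y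
  have hdense : ∀ z : N, ∃ w ∉ q, ∃ x, φ x = w • z := by
    intro z
    have hz : z ∈ Submodule.span B (Set.range y) := hy ▸ Submodule.mem_top
    induction hz using Submodule.span_induction with
    | mem z hz =>
      obtain ⟨i, rfl⟩ := hz
      exact ⟨1, q.one_notMem, Pi.single i 1, by simp [φ]⟩
    | zero => exact ⟨1, q.one_notMem, 0, by simp⟩
    | add z z' _ _ h h' =>
      obtain ⟨w, hw, x, hx⟩ := h
      obtain ⟨w', hw', x', hx'⟩ := h'
      refine ⟨w * w', fun h => ?_, w' • x + w • x', ?_⟩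
      · rcases Ideal.IsPrime.mem_or_mem inferInstance h with h | h
        exacts [hw h, hw' h]
      · rw [map_add, map_smul, map_smul, hx, hx', smul_smul, smul_smul, smul_add, mul_comm w' w]
    | smul b z _ h =>
      obtain ⟨w, hw, x, hx⟩ := h
      obtain ⟨c, d, hd, hcd⟩ := hfrac b
      refine ⟨d * w, fun h => ?_, c • x, ?_⟩
      · rcases Ideal.IsPrime.mem_or_mem inferInstance h with h | h
        exacts [hd h, hw h]
      · rw [map_smul, hx, ← algebraMap_smul B c (w • z), ← algebraMap_smul B w z, ← algebraMap_smul B (d * w) (b • z),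
          smul_smul, smul_smul, map_mul, ← hcd]
        congr 1
        ring
  let mP : Ideal P := (maximalIdeal A).map (algebraMap A P)
  haveI : IsNoetherianRing (P ⧸ mP) :=
    isNoetherianRing_of_ringEquiv (MvPolynomial (Fin n) (ResidueField A))
      ((RingHom.quotientKerEquivOfSurjective (f := MvPolynomial.map (σ := Fin n) (residue A))
        (MvPolynomial.map_surjective _ residue_surjective)).symm.trans
        (Ideal.quotEquivOfEq (by rw [MvPolynomial.ker_map, ker_residue]; rfl)))
  have hsm : ∀ {X : Type u} [AddCommGroup X] [Module P X] [Module A X] [IsScalarTower A P X] (z : X),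
      z ∈ maximalIdeal A • (⊤ : Submodule A X) ↔ z ∈ mP • (⊤ : Submodule P X) :=
    fun z => mem_smul_top_iff (B := P) _ _
  let Ktil : Submodule P (Fin a → P) := (mP • (⊤ : Submodule P N)).comap φ
  obtain ⟨Gs, hGs⟩ : (Ktil.map (mP • (⊤ : Submodule P (Fin a → P))).mkQ).FG := by
    let X := (Fin a → P) ⧸ (mP • (⊤ : Submodule P (Fin a → P)))
    haveI : Module.Finite (P ⧸ mP) X := Module.Finite.of_restrictScalars_finite P (P ⧸ mP) X
    haveI : IsNoetherian (P ⧸ mP) X := isNoetherian_of_isNoetherianRing_of_finite (P ⧸ mP) X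
    let Y : Submodule (P ⧸ mP) X :=
      { toAddSubmonoid := (Ktil.map (mP • (⊤ : Submodule P (Fin a → P))).mkQ).toAddSubmonoid
        smul_mem' := fun c x hx => by
          obtain ⟨c, rfl⟩ := Ideal.Quotient.mk_surjective c
          exact Submodule.smul_mem _ c hx }
    exact Submodule.FG.restrictScalars_of_surjective (R := P) (IsNoetherian.noetherian Y) Ideal.Quotient.mk_surjective
  have hGm : ∀ g : Gs, ∃ x ∈ Ktil, (mP • (⊤ : Submodule P (Fin a → P))).mkQ x = g.1 := fun g =>
    Submodule.mem_map.1 (hGs ▸ Submodule.subset_span g.2)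
  choose xg hxg hxg' using hGm
  have hrel : ∀ g : Gs, ∃ (w : P) (z : Fin a → P), w ∉ q ∧ z ∈ mP • (⊤ : Submodule P (Fin a → P)) ∧
      φ (w • xg g - z) = 0 := by
    intro g
    have h : φ (xg g) ∈ mP • (⊤ : Submodule P N) := hxg g
    suffices ∀ z' ∈ mP • (⊤ : Submodule P N), ∃ w ∉ q, ∃ z ∈ mP • (⊤ : Submodule P (Fin a → P)), φ z = w • z' by
      obtain ⟨w, hw, z, hz, hzw⟩ := this _ h
      exact ⟨w, z, hw, hz, by rw [map_sub, map_smul, hzw, sub_self]⟩
    intro z' hz'
    refine Submodule.smul_induction_on hz' (fun c hc v _ => ?_) fun v v' h h' => ?_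
    · obtain ⟨w, hw, x, hx⟩ := hdense v
      exact ⟨w, hw, c • x, Submodule.smul_mem_smul hc Submodule.mem_top, by rw [map_smul, hx, smul_comm]⟩
    · obtain ⟨w, hw, x, hxm, hx⟩ := h
      obtain ⟨w', hw', x', hxm', hx'⟩ := h'
      refine ⟨w * w', fun h => ?_, w' • x + w • x', add_mem (Submodule.smul_mem _ _ hxm) (Submodule.smul_mem _ _ hxm'), ?_⟩
      · rcases Ideal.IsPrime.mem_or_mem inferInstance h with h | h
        exacts [hw h, hw' h]
      · rw [map_add, map_smul, map_smul, hx, hx', smul_smul, smul_smul, smul_add, mul_comm w' w]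
  choose w z hwq hzm hφ using hrel
  let K := Submodule.span P (Set.range fun g => w g • xg g - z g)
  have hK : K.FG := Submodule.fg_span (Set.finite_range _)
  have hKφ : K ≤ LinearMap.ker φ := Submodule.span_le.2 (Set.range_subset_iff.2 hφ)
  let φb : ((Fin a → P) ⧸ K) →ₗ[P] N := K.liftQ φ hKφ
  let v : ((Fin a → P) ⧸ K) →ₗ[P] M := u.restrictScalars P ∘ₗ φb
  have hM : ∀ s : P, s ∉ q → IsUnit (algebraMap P (Module.End P M) s) := fun s hs => by
    obtain ⟨c, hc⟩ := hunit s hs
    rw [Module.End.isUnit_iff]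
    refine ⟨fun p p' h => ?_, fun p => ⟨(↑c⁻¹ : B) • p, ?_⟩⟩
    · simp only [Module.algebraMap_end_apply] at h
      rw [← algebraMap_smul B s p, ← algebraMap_smul B s p', ← hc] at h
      have := congrArg ((↑c⁻¹ : B) • ·) h
      simpa [smul_smul] using this
    · rw [Module.algebraMap_end_apply, ← algebraMap_smul B s, ← hc, smul_smul, Units.mul_inv, one_smul]
  have hv : ∀ e, v e ∈ maximalIdeal A • (⊤ : Submodule A M) →
      ∃ s ∉ q, s • e ∈ maximalIdeal A • (⊤ : Submodule A ((Fin a → P) ⧸ K)) := by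
    intro e he
    obtain ⟨x, rfl⟩ := Submodule.Quotient.mk_surjective K e
    have hxK : x ∈ Ktil := (hsm (φ x)).1 (hu _ he)
    suffices hmain : ∀ x' : (Fin a → P) ⧸ (mP • (⊤ : Submodule P (Fin a → P))),
        x' ∈ Ktil.map (mP • (⊤ : Submodule P (Fin a → P))).mkQ →
        ∀ x, (mP • (⊤ : Submodule P (Fin a → P))).mkQ x = x' →
          ∃ s ∉ q, s • x ∈ K ⊔ mP • (⊤ : Submodule P (Fin a → P)) by
      obtain ⟨s, hs, hsx⟩ := hmain _ (Submodule.mem_map_of_mem hxK) x rfl
      refine ⟨s, hs, (hsm _).2 ?_⟩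
      have h2 := Submodule.mem_map_of_mem (f := K.mkQ) hsx
      rw [Submodule.map_sup, Submodule.mkQ_map_self, bot_sup_eq, Submodule.map_smul'', Submodule.map_top,
        Submodule.range_mkQ, map_smul] at h2
      exact h2
    rw [← hGs]
    intro x' hx'
    induction hx' using Submodule.span_induction with
    | mem x' hx' =>
      intro x hx
      refine ⟨w ⟨x', hx'⟩, hwq _, ?_⟩
      have hd : x - xg ⟨x', hx'⟩ ∈ mP • (⊤ : Submodule P (Fin a → P)) := by
        rw [← Submodule.Quotient.eq]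
        exact hx.trans (hxg' ⟨x', hx'⟩).symm
      have : w ⟨x', hx'⟩ • x = (w ⟨x', hx'⟩ • xg ⟨x', hx'⟩ - z ⟨x', hx'⟩) +
          (z ⟨x', hx'⟩ + w ⟨x', hx'⟩ • (x - xg ⟨x', hx'⟩)) := by
        rw [smul_sub]
        abel
      rw [this]
      exact add_mem (Submodule.mem_sup_left (Submodule.subset_span ⟨⟨x', hx'⟩, rfl⟩))
        (Submodule.mem_sup_right (add_mem (hzm _) (Submodule.smul_mem _ _ hd)))
    | zero =>
      intro x hx
      exact ⟨1, q.one_notMem, by rw [one_smul]; exact Submodule.mem_sup_right ((Submodule.Quotient.mk_eq_zero _).1 hx)⟩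
    | add x₁ x₂ _ _ h₁ h₂ =>
      intro x hx
      obtain ⟨p, hp⟩ := Submodule.mkQ_surjective (mP • (⊤ : Submodule P (Fin a → P))) x₁
      obtain ⟨s, hs, hsp⟩ := h₁ p hp
      obtain ⟨s', hs', hsp'⟩ := h₂ (x - p) (by rw [map_sub, hx, hp, add_sub_cancel_left])
      refine ⟨s * s', fun h => ?_, ?_⟩
      · rcases Ideal.IsPrime.mem_or_mem inferInstance h with h | h
        exacts [hs h, hs' h]
      · have : (s * s') • x = s' • (s • p) + s • (s' • (x - p)) := by
          rw [smul_smul, smul_smul, mul_comm s' s, ← smul_add, add_sub_cancel]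
        rw [this]
        exact add_mem (Submodule.smul_mem _ _ hsp) (Submodule.smul_mem _ _ hsp')
    | smul c x₁ _ h =>
      intro x hx
      obtain ⟨p, hp⟩ := Submodule.mkQ_surjective (mP • (⊤ : Submodule P (Fin a → P))) x₁
      obtain ⟨s, hs, hsp⟩ := h p hp
      refine ⟨s, hs, ?_⟩
      have hd : x - c • p ∈ mP • (⊤ : Submodule P (Fin a → P)) := by
        rw [← Submodule.Quotient.eq]
        exact hx.trans (by rw [← hp]; rfl)
      have : s • x = c • (s • p) + s • (x - c • p) := by
        rw [smul_comm c s p, ← smul_add, add_sub_cancel]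
      rw [this]
      exact add_mem (Submodule.smul_mem _ _ hsp) (Submodule.mem_sup_right (Submodule.smul_mem _ _ hd))
  obtain ⟨hflat, hkill⟩ := flatAt_and_injective_of_quotient (A := A) q hq K hK hM v hv
  have hker : ∀ e, φb e = 0 → ∃ s ∉ q, s • e = 0 := fun e he => hkill e (by
    show u (φb e) = 0
    rw [he, map_zero])
  have hNu : ∀ s : P, s ∉ q → Function.Bijective fun p : N => s • p := fun s hs => by
    obtain ⟨c, hc⟩ := hunit s hs
    refine ⟨fun p p' h => ?_, fun p => ⟨(↑c⁻¹ : B) • p, ?_⟩⟩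
    · simp only at h
      rw [← algebraMap_smul B s p, ← algebraMap_smul B s p', ← hc] at h
      have := congrArg ((↑c⁻¹ : B) • ·) h
      simpa [smul_smul] using this
    · simp only
      rw [← algebraMap_smul B s, ← hc, smul_smul, Units.mul_inv, one_smul]
  have hφsurj : ∀ p : N, ∃ s ∉ q, ∃ e, φb e = s • p := fun p => by
    obtain ⟨s, hs, x, hx⟩ := hdense p
    exact ⟨s, hs, Submodule.Quotient.mk x, hx⟩
  haveI hloc : IsLocalizedModule q.primeCompl φb := by
    refine ⟨fun s => ?_, fun p => ?_, fun {e₁ e₂} h => ?_⟩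
    · rw [Module.End.isUnit_iff]
      exact hNu s.1 s.2
    · obtain ⟨s, hs, e, he⟩ := hφsurj p
      exact ⟨(e, ⟨s, hs⟩), he.symm⟩
    · obtain ⟨s, hs, hse⟩ := hker (e₁ - e₂) (by rw [map_sub, h, sub_self])
      exact ⟨⟨s, hs⟩, by rwa [smul_sub, sub_eq_zero] at hse⟩
  haveI : Module.Flat A N := by
    haveI : Module.Flat A (LocalizedModule q.primeCompl ((Fin a → P) ⧸ K)) := hflat
    exact Module.Flat.of_linearEquiv ((IsLocalizedModule.iso q.primeCompl φb).restrictScalars A).symm
  refine ⟨(injective_iff_map_eq_zero u).2 fun p hp => ?_, ?_, inferInstance⟩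
  · obtain ⟨s, hs, e, he⟩ := hφsurj p
    obtain ⟨s', hs', hse⟩ := hkill e (by
      show u (φb e) = 0
      rw [he, ← algebraMap_smul B s p, map_smul, hp, smul_zero])
    refine (hNu s hs).1 ((hNu s' hs').1 ?_)
    simp only [smul_zero]
    rw [← he, ← map_smul, hse, map_zero]
  · haveI : Module.FinitePresentation P ((Fin a → P) ⧸ K) :=
      Module.finitePresentation_of_surjective K.mkQ K.mkQ_surjective (by rwa [Submodule.ker_mkQ])
    exact finitePresentation_of_cover q.primeCompl hunit hfrac φb hker hφsurj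

/-- Elements mapping into an extended ideal lie in it. -/
theorem mem_smul_of_map_mem (u : N →ₗ[B] M)
    (hu : ∀ y, u y ∈ maximalIdeal A • (⊤ : Submodule A M) → y ∈ maximalIdeal A • (⊤ : Submodule A N))
    (J : Ideal A) (y : N) (hy : u y ∈ J • (⊤ : Submodule A M)) : y ∈ J • (⊤ : Submodule A N) := by
  rcases eq_or_ne J ⊤ with rfl | hne
  · rw [Submodule.top_smul]
    trivial
  have hJm : J ≤ maximalIdeal A := le_maximalIdeal hne
  let JB := J.map (algebraMap A B)
  haveI : Nontrivial (A ⧸ J) := Ideal.Quotient.nontrivial_iff.mpr hne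
  haveI : IsLocalRing (A ⧸ J) := .of_surjective' _ Ideal.Quotient.mk_surjective
  have hJB : JB ≤ maximalIdeal B := Ideal.map_le_iff_le_comap.2 (by rwa [maximalIdeal_comap (algebraMap A B)])
  haveI : Nontrivial (B ⧸ JB) :=
    Ideal.Quotient.nontrivial_iff.mpr fun h => (maximalIdeal.isMaximal B).ne_top (top_le_iff.1 (h ▸ hJB))
  haveI : IsLocalRing (B ⧸ JB) := .of_surjective' _ Ideal.Quotient.mk_surjective
  haveI : IsLocalHom (algebraMap A (B ⧸ JB)) := by
    haveI : IsLocalHom (Ideal.Quotient.mk JB) := .of_surjective _ Ideal.Quotient.mk_surjective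
    exact RingHom.isLocalHom_comp (Ideal.Quotient.mk JB) (algebraMap A B)
  letI : Algebra (A ⧸ J) (B ⧸ JB) :=
    (Ideal.quotientMap JB (algebraMap A B) (Ideal.le_comap_map)).toAlgebra
  haveI : IsScalarTower A (A ⧸ J) (B ⧸ JB) := IsScalarTower.of_algebraMap_eq fun _ => rfl
  haveI : IsLocalHom (algebraMap (A ⧸ J) (B ⧸ JB)) := ⟨fun x hx => by
    obtain ⟨x, rfl⟩ := Ideal.Quotient.mk_surjective x
    exact (IsUnit.of_map (algebraMap A (B ⧸ JB)) x hx).map (Ideal.Quotient.mk J)⟩
  haveI : Algebra.EssFiniteType A (B ⧸ JB) := Algebra.EssFiniteType.comp A B (B ⧸ JB)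
  haveI : Algebra.EssFiniteType (A ⧸ J) (B ⧸ JB) := Algebra.EssFiniteType.of_comp A (A ⧸ J) (B ⧸ JB)
  let NJ := JB • (⊤ : Submodule B N)
  let MJ := JB • (⊤ : Submodule B M)
  letI : Module (A ⧸ J) (N ⧸ NJ) := Module.compHom _ (algebraMap (A ⧸ J) (B ⧸ JB))
  haveI : IsScalarTower (A ⧸ J) (B ⧸ JB) (N ⧸ NJ) := IsScalarTower.of_algebraMap_smul fun _ _ => rfl
  letI : Module (A ⧸ J) (M ⧸ MJ) := Module.compHom _ (algebraMap (A ⧸ J) (B ⧸ JB))
  haveI : IsScalarTower (A ⧸ J) (B ⧸ JB) (M ⧸ MJ) := IsScalarTower.of_algebraMap_smul fun _ _ => rfl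
  haveI : IsScalarTower A (A ⧸ J) (M ⧸ MJ) := IsScalarTower.of_algebraMap_smul fun c t => by
    show algebraMap (A ⧸ J) (B ⧸ JB) (algebraMap A (A ⧸ J) c) • t = _
    rw [← IsScalarTower.algebraMap_apply, IsScalarTower.algebraMap_apply A B (B ⧸ JB), algebraMap_smul, algebraMap_smul]
  haveI : IsScalarTower A (A ⧸ J) (N ⧸ NJ) := IsScalarTower.of_algebraMap_smul fun c t => by
    show algebraMap (A ⧸ J) (B ⧸ JB) (algebraMap A (A ⧸ J) c) • t = _
    rw [← IsScalarTower.algebraMap_apply, IsScalarTower.algebraMap_apply A B (B ⧸ JB), algebraMap_smul, algebraMap_smul]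
  haveI : Module.Finite (B ⧸ JB) (N ⧸ NJ) := Module.Finite.of_restrictScalars_finite B (B ⧸ JB) _
  haveI : Module.Flat (A ⧸ J) (M ⧸ MJ) := by
    have hsurj : Function.Surjective (TensorProduct.mk A (A ⧸ J) M 1) :=
      TensorProduct.mk_surjective A M (A ⧸ J) Ideal.Quotient.mk_surjective
    let qM : M →ₗ[A] M ⧸ MJ := MJ.mkQ.restrictScalars A
    let l : (A ⧸ J) ⊗[A] M →ₗ[A ⧸ J] M ⧸ MJ := (TensorProduct.isBaseChange A M (A ⧸ J)).lift qM
    have hl : ∀ x, l (1 ⊗ₜ x) = qM x := (TensorProduct.isBaseChange A M (A ⧸ J)).lift_eq qM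
    refine Module.Flat.of_linearEquiv (LinearEquiv.ofBijective l ⟨(injective_iff_map_eq_zero l).2 fun t ht => ?_,
      fun t => ?_⟩).symm
    · obtain ⟨x, rfl⟩ := hsurj t
      rw [TensorProduct.mk_apply, hl] at ht
      rw [TensorProduct.mk_apply, FlatteningIdeal.mk_eq_zero_iff, mem_smul_top_iff (B := B)]
      exact (Submodule.Quotient.mk_eq_zero _).1 ht
    · obtain ⟨x, rfl⟩ := MJ.mkQ_surjective t
      exact ⟨1 ⊗ₜ x, hl x⟩
  have hle : NJ ≤ MJ.comap u := fun t ht => map_smul_top_mem u JB ht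
  let u' : (N ⧸ NJ) →ₗ[B ⧸ JB] M ⧸ MJ :=
    LinearMap.extendScalarsOfSurjective Ideal.Quotient.mk_surjective (NJ.mapQ MJ u hle)
  have hmm : (maximalIdeal A).map (algebraMap A (A ⧸ J)) = maximalIdeal (A ⧸ J) :=
    IsLocalRing.map_maximalIdeal_of_surjective _ Ideal.Quotient.mk_surjective
  have hu' : ∀ t, u' t ∈ maximalIdeal (A ⧸ J) • (⊤ : Submodule (A ⧸ J) (M ⧸ MJ)) →
      t ∈ maximalIdeal (A ⧸ J) • (⊤ : Submodule (A ⧸ J) (N ⧸ NJ)) := by
    intro t ht
    obtain ⟨x, rfl⟩ := NJ.mkQ_surjective t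
    rw [← hmm, ← mem_smul_top_iff] at ht ⊢
    have h1 : Submodule.Quotient.mk (u x) ∈ maximalIdeal A • (⊤ : Submodule A (M ⧸ MJ)) := ht
    have h2 : (maximalIdeal A • (⊤ : Submodule A M)).map (MJ.mkQ.restrictScalars A) =
        maximalIdeal A • (⊤ : Submodule A (M ⧸ MJ)) := by
      rw [Submodule.map_smul'', Submodule.map_top, (LinearMap.range_eq_top (f := MJ.mkQ.restrictScalars A)).2 MJ.mkQ_surjective]
    rw [← h2] at h1
    obtain ⟨m', hm', hmm'⟩ := Submodule.mem_map.1 h1
    have hux : u x ∈ maximalIdeal A • (⊤ : Submodule A M) := by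
      have hd : m' - u x ∈ MJ := (Submodule.Quotient.eq _).1 hmm'
      have := sub_mem hm' (Submodule.smul_mono_left hJm ((mem_smul_top_iff (B := B) _ _).2 hd))
      rwa [sub_sub_cancel] at this
    exact map_smul_top_mem (NJ.mkQ.restrictScalars A) _ (hu x hux)
  obtain ⟨hinj, -, -⟩ := flat_fp_injective (A := A ⧸ J) u' hu'
  have hzero : u' (Submodule.Quotient.mk y) = 0 :=
    (Submodule.Quotient.mk_eq_zero MJ).2 ((mem_smul_top_iff (B := B) _ _).1 hy)
  have := hinj (hzero.trans (map_zero u').symm)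
  exact (mem_smul_top_iff (B := B) _ _).2 ((Submodule.Quotient.mk_eq_zero NJ).1 this)

/-- The criterion. -/
theorem criterion (u : N →ₗ[B] M)
    (hu : ∀ y, u y ∈ maximalIdeal A • (⊤ : Submodule A M) → y ∈ maximalIdeal A • (⊤ : Submodule A N)) :
    CAlgX.UniversallyInjective A (u.restrictScalars A) ∧ Module.FinitePresentation B N ∧ Module.Flat A N := by
  obtain ⟨hinj, hfp, hflat⟩ := flat_fp_injective u hu
  refine ⟨?_, hfp, hflat⟩
  let uA := u.restrictScalars A
  let g := (LinearMap.range uA).mkQ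
  have hex : Function.Exact uA g := LinearMap.exact_map_mkQ_range uA
  haveI : Module.Flat A (M ⧸ LinearMap.range uA) := by
    rw [Module.Flat.iff_lift_lsmul_comp_subtype_injective]
    intro J _
    rw [injective_iff_map_eq_zero]
    intro t ht
    obtain ⟨t', rfl⟩ := LinearMap.lTensor_surjective J (Submodule.mkQ_surjective (LinearMap.range uA)) t
    let μ : ∀ (X : Type u) [AddCommGroup X] [Module A X], J ⊗[A] X →ₗ[A] X := fun X _ _ =>
      TensorProduct.lift ((LinearMap.lsmul A X).comp J.subtype)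
    have hμ : ∀ {X X' : Type u} [AddCommGroup X] [Module A X] [AddCommGroup X'] [Module A X'] (f : X →ₗ[A] X')
        (t : J ⊗[A] X), f (μ X t) = μ X' (f.lTensor J t) := fun f t => by
      induction t using TensorProduct.induction_on with
      | zero => simp
      | tmul j x => simp [μ]
      | add a b ha hb => simp only [map_add, ha, hb]
    have h0 : g (μ M t') = 0 := (hμ g t').trans ht
    obtain ⟨p, hp⟩ := (hex _).1 h0
    have hpJ : ∀ {X : Type u} [AddCommGroup X] [Module A X] (t : J ⊗[A] X), μ X t ∈ J • (⊤ : Submodule A X) := by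
      intro X _ _ t
      induction t using TensorProduct.induction_on with
      | zero => simp
      | tmul j x => exact Submodule.smul_mem_smul j.2 Submodule.mem_top
      | add a b ha hb => rw [map_add]; exact add_mem ha hb
    have hpm : p ∈ J • (⊤ : Submodule A N) := mem_smul_of_map_mem u hu J p (by
      show uA p ∈ _
      rw [hp]
      exact hpJ t')
    obtain ⟨s, rfl⟩ : ∃ s : J ⊗[A] N, μ N s = p := by
      refine Submodule.smul_induction_on hpm (fun j hj x _ => ⟨⟨j, hj⟩ ⊗ₜ x, by simp [μ]⟩) ?_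
      rintro _ _ ⟨s, rfl⟩ ⟨s', rfl⟩
      exact ⟨s + s', map_add _ _ _⟩
    have h1 : μ M (uA.lTensor J s) = μ M t' := by rw [← hμ uA, hp]
    rw [← Module.Flat.iff_lift_lsmul_comp_subtype_injective.1 ‹Module.Flat A M› (by assumption) h1,
      ← LinearMap.comp_apply, ← LinearMap.lTensor_comp, hex.linearMap_comp_eq_zero, LinearMap.lTensor_zero,
      LinearMap.zero_apply]
  exact CAlgUI.ui_of_flat_quotient (f := uA) (g := g) hinj hex (Submodule.mkQ_surjective _)

end

end Groth.Agent.UnivInjMod
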