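import Groth.Agent.FlatModel.FlatteningIdeal
import Mathlib.RingTheory.Filtration

/-!
A module over a complete Noetherian local ring with a map to a flat module over a local algebra which is
injective modulo the maximal ideals: the flattening ideal and contents of elements die in the algebra.
-/

set_option autoImplicit false
set_option linter.style.haveILetI false
set_option linter.unusedSectionVars false

universe u

open TensorProduct IsLocalRing

namespace Groth.Agent.UnivInjMod

open FlatteningIdeal (FlatMod)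

variable {R : Type u} [CommRing R] [IsLocalRing R] {ι : Type u} {P : Type u} [AddCommGroup P] [Module R P]
  (b : ι → P)

/-- The ideal of coefficients of relations modulo a power of the maximal ideal. -/
def coefIdeal (n : ℕ) : Ideal R :=
  maximalIdeal R ^ (n + 1) ⊔ Ideal.span {r | ∃ (x : ι →₀ R) (i : ι),
    Finsupp.linearCombination R b x ∈ maximalIdeal R ^ (n + 1) • (⊤ : Submodule R P) ∧ x i = r}

/-- The ideal of coefficients of an element modulo a power of the maximal ideal. -/
def contentIdeal (p : P) (n : ℕ) : Ideal R :=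
  coefIdeal b n ⊔ Ideal.span {r | ∃ (x : ι →₀ R) (i : ι),
    p - Finsupp.linearCombination R b x ∈ maximalIdeal R ^ (n + 1) • (⊤ : Submodule R P) ∧ x i = r}

theorem pow_le_coefIdeal (n : ℕ) : maximalIdeal R ^ (n + 1) ≤ coefIdeal b n := le_sup_left

theorem coef_mem_coefIdeal {n : ℕ} {x : ι →₀ R}
    (h : Finsupp.linearCombination R b x ∈ maximalIdeal R ^ (n + 1) • (⊤ : Submodule R P)) (i : ι) :
    x i ∈ coefIdeal b n :=
  Ideal.mem_sup_right (Ideal.subset_span ⟨x, i, h, rfl⟩)

theorem coefIdeal_succ_le (n : ℕ) : coefIdeal (R := R) b (n + 1) ≤ coefIdeal b n := by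
  refine sup_le ((Ideal.pow_le_pow_right (Nat.le_succ _)).trans (pow_le_coefIdeal b n)) (Ideal.span_le.2 ?_)
  rintro _ ⟨x, i, hx, rfl⟩
  exact coef_mem_coefIdeal b (Submodule.smul_mono_left (Ideal.pow_le_pow_right (Nat.le_succ _)) hx) i

theorem coef_mem_contentIdeal {p : P} {n : ℕ} {x : ι →₀ R}
    (h : p - Finsupp.linearCombination R b x ∈ maximalIdeal R ^ (n + 1) • (⊤ : Submodule R P)) (i : ι) :
    x i ∈ contentIdeal b p n :=
  Ideal.mem_sup_right (Ideal.subset_span ⟨x, i, h, rfl⟩)

theorem contentIdeal_succ_le (p : P) (n : ℕ) : contentIdeal (R := R) b p (n + 1) ≤ contentIdeal b p n := by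
  refine sup_le ((coefIdeal_succ_le b n).trans le_sup_left) (Ideal.span_le.2 ?_)
  rintro _ ⟨x, i, hx, rfl⟩
  exact coef_mem_contentIdeal b (Submodule.smul_mono_left (Ideal.pow_le_pow_right (Nat.le_succ _)) hx) i

section Chain

variable [IsAdicComplete (maximalIdeal R) R] (D : ℕ → Ideal R)

theorem sup_iInf_eq (h1 : ∀ n, maximalIdeal R ^ (n + 1) ≤ D n) (h2 : ∀ n, D (n + 1) ≤ D n)
    (h3 : ∀ n, D n ≤ D (n + 1) ⊔ maximalIdeal R ^ (n + 1)) (n : ℕ) :
    (⨅ k, D k) ⊔ maximalIdeal R ^ (n + 1) = D n := by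
  set m := maximalIdeal R
  have hanti' : Antitone D := antitone_nat_of_succ_le h2
  refine le_antisymm (sup_le (iInf_le _ n) (h1 n)) fun x hx ↦ ?_
  have hnext : ∀ k (a : R), a ∈ D (n + k) → ∃ c, c ∈ D (n + (k + 1)) ∧ c - a ∈ m ^ (n + k + 1) := by
    intro k a ha
    obtain ⟨c, hc, d, hd, rfl⟩ := Submodule.mem_sup.mp (h3 (n + k) ha)
    exact ⟨c, hc, by rw [sub_add_cancel_left]; exact neg_mem hd⟩
  choose nx hnx1 hnx2 using hnext
  let f : ∀ k, {a // a ∈ D (n + k)} := fun k ↦
    Nat.rec (motive := fun k ↦ {a // a ∈ D (n + k)}) ⟨x, hx⟩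
      (fun k a ↦ ⟨nx k a.1 a.2, hnx1 k a.1 a.2⟩) k
  have hdiff : ∀ a c, a ≤ c → (f c).1 - (f a).1 ∈ m ^ (n + a + 1) := by
    intro a c hac
    induction c, hac using Nat.le_induction with
    | base => simp
    | succ c hac ih =>
      have : (f (c + 1)).1 - (f c).1 ∈ m ^ (n + a + 1) :=
        Ideal.pow_le_pow_right (by omega) (hnx2 c (f c).1 (f c).2)
      simpa using add_mem this ih
  obtain ⟨L, hL⟩ := IsPrecomplete.prec' (I := m) (fun k ↦ (f k).1) fun {a c} hac ↦ by
    rw [SModEq.sub_mem, smul_eq_mul, Ideal.mul_top, ← neg_sub]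
    exact neg_mem (Ideal.pow_le_pow_right (by omega) (hdiff a c hac))
  have hLf : ∀ k, L - (f k).1 ∈ m ^ (n + k + 1) := by
    intro k
    have h1 := hL (n + k + 1)
    rw [SModEq.sub_mem, smul_eq_mul, Ideal.mul_top] at h1
    have h2 := hdiff k (n + k + 1) (by omega)
    have := sub_mem h2 h1
    convert this using 1
    ring
  have hLI : L ∈ ⨅ k, D k := by
    rw [Submodule.mem_iInf]
    intro k
    have : L ∈ D (n + k) := by
      have := add_mem (h1 (n + k) (hLf k)) (f k).2
      simpa using this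
    exact hanti' (Nat.le_add_left k n) this
  have := hLf 0
  rw [← sub_sub_cancel L x]
  exact sub_mem (Ideal.mem_sup_left hLI) (Ideal.mem_sup_right this)

/-- Krull intersection for ideals of a Noetherian local ring. -/
theorem le_of_forall_le_sup_pow [IsNoetherianRing R] {I V : Ideal R}
    (h : ∀ n, I ≤ V ⊔ maximalIdeal R ^ (n + 1)) : I ≤ V := by
  intro x hx
  rw [← Submodule.Quotient.mk_eq_zero V, ← Submodule.mem_bot R,
    ← Ideal.iInf_pow_smul_eq_bot_of_isLocalRing (maximalIdeal R) (M := R ⧸ V) (maximalIdeal.isMaximal R).ne_top,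
    Submodule.mem_iInf]
  intro k
  obtain ⟨v, hv, c, hc, rfl⟩ := Submodule.mem_sup.1 (h k hx)
  rw [Submodule.Quotient.mk_add, (Submodule.Quotient.mk_eq_zero V).2 hv, zero_add]
  have : (Submodule.Quotient.mk c : R ⧸ V) = c • (Submodule.Quotient.mk 1 : R ⧸ V) := by
    rw [← Submodule.Quotient.mk_smul, smul_eq_mul, mul_one]
  rw [this]
  exact Submodule.smul_mem_smul (Ideal.pow_le_pow_right k.le_succ hc) Submodule.mem_top

end Chain

variable (hgen : LinearMap.range (Finsupp.linearCombination R b) ⊔ maximalIdeal R • (⊤ : Submodule R P) = ⊤)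

include hgen

theorem gen_pow (j : ℕ) :
    LinearMap.range (Finsupp.linearCombination R b) ⊔ maximalIdeal R ^ j • (⊤ : Submodule R P) = ⊤ := by
  induction j with
  | zero => simp
  | succ j ih =>
    refine eq_top_iff.mpr (ih.ge.trans (sup_le le_sup_left ?_))
    conv_lhs => rw [← hgen]
    rw [Submodule.smul_sup, ← Submodule.mul_smul, ← pow_succ]
    exact sup_le (Submodule.smul_le_right.trans le_sup_left) le_sup_right

theorem exists_approx (p : P) (n : ℕ) :
    ∃ x : ι →₀ R, p - Finsupp.linearCombination R b x ∈ maximalIdeal R ^ n • (⊤ : Submodule R P) := by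
  obtain ⟨_, ⟨y, rfl⟩, z, hz, rfl⟩ := Submodule.mem_sup.1 ((gen_pow b hgen n).ge (Submodule.mem_top (x := p)))
  exact ⟨y, by rwa [add_sub_cancel_left]⟩

theorem exists_lift_mem (J : Ideal R) (p : P) (hp : p ∈ J • (⊤ : Submodule R P)) (n : ℕ) :
    ∃ x : ι →₀ R, (∀ i, x i ∈ J) ∧
      p - Finsupp.linearCombination R b x ∈ (maximalIdeal R ^ n * J) • (⊤ : Submodule R P) := by
  refine Submodule.smul_induction_on hp ?_ ?_
  · intro r hr q _
    obtain ⟨y, hy⟩ := exists_approx b hgen q n
    refine ⟨r • y, fun i ↦ J.mul_mem_right _ hr, ?_⟩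
    rw [map_smul, ← smul_sub, mul_comm, Submodule.mul_smul]
    exact Submodule.smul_mem_smul hr hy
  · rintro p q ⟨x, hx, hx'⟩ ⟨y, hy, hy'⟩
    refine ⟨x + y, fun i ↦ J.add_mem (hx i) (hy i), ?_⟩
    rw [map_add, add_sub_add_comm]
    exact add_mem hx' hy'

theorem coef_mem {n : ℕ} {J : Ideal R} (hJ : coefIdeal b n ≤ J) {x : ι →₀ R}
    (hx : Finsupp.linearCombination R b x ∈ J • (⊤ : Submodule R P)) (i : ι) : x i ∈ J := by
  obtain ⟨y, hy, hxy⟩ := exists_lift_mem b hgen J _ hx (n + 1)
  rw [← map_sub] at hxy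
  have := coef_mem_coefIdeal b (Submodule.smul_mono_left Ideal.mul_le_left hxy) i
  rw [Finsupp.sub_apply] at this
  simpa using J.add_mem (hJ this) (hy i)

theorem coefIdeal_le_succ (n : ℕ) : coefIdeal b n ≤ coefIdeal b (n + 1) ⊔ maximalIdeal R ^ (n + 1) := by
  refine sup_le le_sup_right (Ideal.span_le.2 ?_)
  rintro _ ⟨x, i, hx, rfl⟩
  exact coef_mem b hgen (n := n + 1) le_sup_left (Submodule.smul_mono_left le_sup_right hx) i

theorem contentIdeal_le_succ (p : P) (n : ℕ) :
    contentIdeal b p n ≤ contentIdeal b p (n + 1) ⊔ maximalIdeal R ^ (n + 1) := by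
  refine sup_le ((coefIdeal_le_succ b hgen n).trans (sup_le_sup_right le_sup_left _)) (Ideal.span_le.2 ?_)
  rintro _ ⟨x, i, hx, rfl⟩
  obtain ⟨y, hy⟩ := exists_approx b hgen p (n + 2)
  have h : Finsupp.linearCombination R b (y - x) ∈ maximalIdeal R ^ (n + 1) • (⊤ : Submodule R P) := by
    rw [map_sub, ← sub_sub_sub_cancel_left _ _ p]
    exact sub_mem hx (Submodule.smul_mono_left (Ideal.pow_le_pow_right (Nat.le_succ _)) hy)
  have h1 := coefIdeal_le_succ b hgen n (coef_mem_coefIdeal b h i)
  rw [Finsupp.sub_apply] at h1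
  have h2 : y i ∈ contentIdeal b p (n + 1) := coef_mem_contentIdeal b hy i
  have hle : coefIdeal b (n + 1) ⊔ maximalIdeal R ^ (n + 1) ≤
      contentIdeal b p (n + 1) ⊔ maximalIdeal R ^ (n + 1) := sup_le_sup_right le_sup_left _
  have := sub_mem (Ideal.mem_sup_left (T := maximalIdeal R ^ (n + 1)) h2) (hle h1)
  simpa using this

/-- Flatness modulo ideals containing the coefficients of relations. -/
theorem flatMod_of_coefIdeal_le {n : ℕ} {J : Ideal R} (hJ : coefIdeal b n ≤ J) : FlatMod P J := by
  let v : ι → (R ⧸ J) ⊗[R] P := fun i ↦ 1 ⊗ₜ b i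
  have hv : ∀ x : ι →₀ R, (1 : R ⧸ J) ⊗ₜ[R] Finsupp.linearCombination R b x =
      Finsupp.linearCombination (R ⧸ J) v (x.mapRange (Ideal.Quotient.mk J) (map_zero _)) := by
    intro x
    induction x using Finsupp.induction_linear with
    | zero => simp
    | add x y hx hy => simp [map_add, tmul_add, hx, hy, Finsupp.mapRange_add]
    | single i r =>
      simp only [v, Finsupp.linearCombination_single, Finsupp.mapRange_single]
      rw [tmul_smul, ← Ideal.Quotient.algebraMap_eq, IsScalarTower.algebraMap_smul]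
  have hbij : Function.Bijective (Finsupp.linearCombination (R ⧸ J) v) := by
    refine ⟨?_, fun z ↦ ?_⟩
    · rw [injective_iff_map_eq_zero]
      intro y hy
      obtain ⟨x, rfl⟩ := Finsupp.mapRange_surjective (α := ι) (Ideal.Quotient.mk J) (map_zero _)
        Ideal.Quotient.mk_surjective y
      rw [← hv, FlatteningIdeal.mk_eq_zero_iff] at hy
      ext i
      rw [Finsupp.mapRange_apply, Finsupp.zero_apply, Ideal.Quotient.eq_zero_iff_mem]
      exact coef_mem b hgen hJ hy i
    · induction z with
      | zero => exact ⟨0, map_zero _⟩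
      | tmul c p =>
        obtain ⟨c, rfl⟩ := Ideal.Quotient.mk_surjective c
        obtain ⟨y, hy⟩ := exists_approx b hgen (c • p) (n + 1)
        refine ⟨y.mapRange (Ideal.Quotient.mk J) (map_zero _), ?_⟩
        rw [← hv, ← Ideal.Quotient.algebraMap_eq, Algebra.algebraMap_eq_smul_one, smul_tmul,
          eq_comm, ← sub_eq_zero, ← tmul_sub, FlatteningIdeal.mk_eq_zero_iff]
        exact Submodule.smul_mono_left ((pow_le_coefIdeal b n).trans hJ) hy
      | add x y hx hy =>
        obtain ⟨a, rfl⟩ := hx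
        obtain ⟨c, rfl⟩ := hy
        exact ⟨a + c, map_add _ _ _⟩
  exact Module.Flat.of_linearEquiv (LinearEquiv.ofBijective _ hbij).symm

omit hgen

variable {B : Type u} [CommRing B] [IsNoetherianRing B] [Algebra R B] [Module B P] [IsScalarTower R B P]
  [Module.Finite B P]

omit [IsNoetherianRing B] [Module.Finite B P] in
theorem mem_smul_top_iff (J : Ideal R) (p : P) :
    p ∈ J • (⊤ : Submodule R P) ↔ p ∈ J.map (algebraMap R B) • (⊤ : Submodule B P) := by
  rw [← Submodule.restrictScalars_mem R (J.map (algebraMap R B) • (⊤ : Submodule B P)),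
    Submodule.restrictScalars_map_smul_eq, Submodule.restrictScalars_top]

include B in
/-- Artin–Rees. -/
theorem exists_artinRees (I : Ideal R) : ∃ N : ℕ, ∀ p ∈ I • (⊤ : Submodule R P),
    p ∈ maximalIdeal R ^ N • (⊤ : Submodule R P) → p ∈ (maximalIdeal R * I) • (⊤ : Submodule R P) := by
  let K : Ideal B := (maximalIdeal R).map (algebraMap R B)
  obtain ⟨k, hk⟩ := Ideal.exists_pow_inf_eq_pow_smul K (I.map (algebraMap R B) • (⊤ : Submodule B P))
  refine ⟨k + 1, fun p hpI hpm => ?_⟩
  rw [mem_smul_top_iff (B := B)] at hpI hpm ⊢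
  rw [Ideal.map_pow] at hpm
  rw [Ideal.map_mul, Submodule.mul_smul]
  have hle := (hk (k + 1) (by omega)).le ⟨hpm, hpI⟩
  rw [show k + 1 - k = 1 by omega, pow_one] at hle
  exact SetLike.le_def.1 (smul_mono_right _ inf_le_right) hle

include B in
/-- Krull intersection modulo an ideal. -/
theorem mem_smul_of_forall (hB : (maximalIdeal R).map (algebraMap R B) ≤ Ideal.jacobson ⊥) (J : Ideal R) (p : P)
    (h : ∀ n, p ∈ (J ⊔ maximalIdeal R ^ n) • (⊤ : Submodule R P)) : p ∈ J • (⊤ : Submodule R P) := by
  rw [mem_smul_top_iff (B := B), ← Submodule.Quotient.mk_eq_zero, ← Submodule.mem_bot B,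
    ← Ideal.iInf_pow_smul_eq_bot_of_le_jacobson (M := P ⧸ J.map (algebraMap R B) • (⊤ : Submodule B P)) _ hB,
    Submodule.mem_iInf]
  intro n
  have hn := (mem_smul_top_iff (B := B) _ p).1 (h n)
  rw [Ideal.map_sup, Ideal.map_pow, Submodule.sup_smul] at hn
  obtain ⟨y, hy, z, hz, rfl⟩ := Submodule.mem_sup.1 hn
  rw [Submodule.Quotient.mk_add, (Submodule.Quotient.mk_eq_zero _).2 hy, zero_add]
  have hz' := Submodule.mem_map_of_mem (f := (J.map (algebraMap R B) • (⊤ : Submodule B P)).mkQ) hz
  rw [Submodule.map_smul''] at hz'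
  exact SetLike.le_def.1 (smul_mono_right _ le_top) hz'

variable {A M : Type u} [CommRing A] [IsLocalRing A] [Algebra R A] [AddCommGroup M] [Module A M] [Module R M]
  [IsScalarTower R A M] (g : P →ₗ[R] M)

theorem map_mem_smul (J : Ideal R) {p : P} (hp : p ∈ J • (⊤ : Submodule R P)) :
    g p ∈ J.map (algebraMap R A) • (⊤ : Submodule A M) := by
  refine Submodule.smul_induction_on hp (fun r hr q _ => ?_) fun x y hx hy => by rw [map_add]; exact add_mem hx hy
  rw [map_smul, ← algebraMap_smul A r]
  exact Submodule.smul_mem_smul (Ideal.mem_map_of_mem _ hr) Submodule.mem_top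

/-- The images of the chosen elements are independent modulo the maximal ideal. -/
def IndepMod : Prop :=
  ∀ c : ι →₀ A, Finsupp.linearCombination A (fun i => g (b i)) c ∈ maximalIdeal A • (⊤ : Submodule A M) →
    ∀ i, c i ∈ maximalIdeal A

variable {b g}

theorem IndepMod.coef_mem [Module.Flat A M] (hli : IndepMod (A := A) b g) (a : Ideal A) {x : ι →₀ R}
    (h : g (Finsupp.linearCombination R b x) ∈ a • (⊤ : Submodule A M)) (i : ι) : algebraMap R A (x i) ∈ a := by
  rcases eq_or_ne a ⊤ with rfl | hne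
  · trivial
  have ham : a ≤ maximalIdeal A := le_maximalIdeal hne
  haveI : Nontrivial (A ⧸ a) := Ideal.Quotient.nontrivial_iff.mpr hne
  haveI : IsLocalRing (A ⧸ a) := .of_surjective' _ Ideal.Quotient.mk_surjective
  haveI : IsLocalHom (Ideal.Quotient.mk a) := .of_surjective _ Ideal.Quotient.mk_surjective
  let v : ι → (A ⧸ a) ⊗[A] M := fun j => 1 ⊗ₜ g (b j)
  have hv : ∀ z : ι →₀ A, (1 : A ⧸ a) ⊗ₜ[A] Finsupp.linearCombination A (fun j => g (b j)) z =
      Finsupp.linearCombination (A ⧸ a) v (z.mapRange (Ideal.Quotient.mk a) (map_zero _)) := by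
    intro z
    induction z using Finsupp.induction_linear with
    | zero => simp
    | add x y hx hy => simp [map_add, tmul_add, hx, hy, Finsupp.mapRange_add]
    | single i r =>
      simp only [v, Finsupp.linearCombination_single, Finsupp.mapRange_single]
      rw [tmul_smul, ← Ideal.Quotient.algebraMap_eq, IsScalarTower.algebraMap_smul]
  have hli' : LinearIndependent (A ⧸ a) v := by
    refine Module.IsLocalRing.linearIndependent_of_flat v ?_
    rw [linearIndependent_iff]
    intro l hl
    obtain ⟨z, hz⟩ := Finsupp.mapRange_surjective (α := ι) ((residue (A ⧸ a)).comp (Ideal.Quotient.mk a))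
      (map_zero _) (residue_surjective.comp Ideal.Quotient.mk_surjective) l
    have h0 : TensorProduct.mk (A ⧸ a) (ResidueField (A ⧸ a)) ((A ⧸ a) ⊗[A] M) 1
        ((1 : A ⧸ a) ⊗ₜ[A] Finsupp.linearCombination A (fun j => g (b j)) z) = 0 := by
      rw [hv z, Finsupp.apply_linearCombination, ← hl, ← hz]
      clear hl hz
      induction z using Finsupp.induction_linear with
      | zero => simp
      | add x y hx hy => simp [map_add, Finsupp.mapRange_add, hx, hy]
      | single i r =>
        simp only [Finsupp.linearCombination_single, Finsupp.mapRange_single, RingHom.comp_apply,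
          Function.comp_apply]
        rw [← ResidueField.algebraMap_eq, IsScalarTower.algebraMap_smul]
    replace h0 := (FlatteningIdeal.mk_eq_zero_iff (R := A ⧸ a) (maximalIdeal (A ⧸ a)) _).mp h0
    let q := Ideal.Quotient.factor (S := a) (T := maximalIdeal A) ham
    letI : Algebra (A ⧸ a) (A ⧸ maximalIdeal A) := q.toAlgebra
    haveI : IsScalarTower A (A ⧸ a) (A ⧸ maximalIdeal A) := IsScalarTower.of_algebraMap_eq fun _ ↦ rfl
    let ψ : (A ⧸ a) ⊗[A] M →ₗ[A ⧸ a] (A ⧸ maximalIdeal A) ⊗[A] M :=
      AlgebraTensorModule.map (Algebra.linearMap (A ⧸ a) (A ⧸ maximalIdeal A)) LinearMap.id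
    have hψ : ∀ w ∈ maximalIdeal (A ⧸ a) • (⊤ : Submodule (A ⧸ a) ((A ⧸ a) ⊗[A] M)), ψ w = 0 := by
      intro w hw
      refine Submodule.smul_induction_on hw ?_ ?_
      · intro c hc y _
        obtain ⟨c, rfl⟩ := Ideal.Quotient.mk_surjective c
        have hcm : c ∈ maximalIdeal A := fun hu ↦ hc (hu.map (Ideal.Quotient.mk a))
        rw [map_smul, ← Ideal.Quotient.algebraMap_eq, IsScalarTower.algebraMap_smul,
          ← IsScalarTower.algebraMap_smul (A ⧸ maximalIdeal A), Ideal.Quotient.algebraMap_eq,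
          Ideal.Quotient.eq_zero_iff_mem.mpr hcm, zero_smul]
      · intro a b ha hb
        rw [map_add, ha, hb, add_zero]
    have hm : Finsupp.linearCombination A (fun j => g (b j)) z ∈ maximalIdeal A • (⊤ : Submodule A M) := by
      rw [← FlatteningIdeal.mk_eq_zero_iff]
      simpa [ψ] using hψ _ h0
    ext j
    rw [← hz, Finsupp.mapRange_apply, RingHom.comp_apply, Finsupp.zero_apply, residue_eq_zero_iff]
    exact (mem_maximalIdeal _).mpr fun hu ↦ (hli z hm j) (IsUnit.of_map (Ideal.Quotient.mk a) _ hu)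
  have hx' : ∀ x : ι →₀ R, g (Finsupp.linearCombination R b x) =
      Finsupp.linearCombination A (fun j => g (b j)) (x.mapRange (algebraMap R A) (map_zero _)) := by
    intro x
    induction x using Finsupp.induction_linear with
    | zero => simp
    | add x y hx hy =>
      rw [map_add, map_add, Finsupp.mapRange_add (fun a b => map_add _ a b), map_add, hx, hy]
    | single i r => simp
  have h1 := hx' x
  rw [h1] at h
  have h2 := hv (x.mapRange (algebraMap R A) (map_zero _))
  rw [(FlatteningIdeal.mk_eq_zero_iff a _).2 h] at h2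
  have h3 := DFunLike.congr_fun (linearIndependent_iff.mp hli' _ h2.symm) i
  rw [Finsupp.mapRange_apply, Finsupp.mapRange_apply, Finsupp.zero_apply] at h3
  exact Ideal.Quotient.eq_zero_iff_mem.mp h3

variable [IsNoetherianRing R] [IsAdicComplete (maximalIdeal R) R] [IsLocalHom (algebraMap R A)] [Module.Flat A M]

omit [IsNoetherianRing R] [IsAdicComplete (maximalIdeal R) R] [Module.Flat A M] in
theorem maximalIdeal_map_le : (maximalIdeal R).map (algebraMap R A) ≤ maximalIdeal A :=
  Ideal.map_le_iff_le_comap.2 (maximalIdeal_comap (algebraMap R A)).ge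

/-- An ideal whose image lies in the maximal ideal times itself dies. -/
theorem le_ker_of_map_le {I : Ideal R}
    (h : I ≤ (maximalIdeal A * I.map (algebraMap R A)).comap (algebraMap R A)) :
    I ≤ RingHom.ker (algebraMap R A) := by
  have hfg : (I.map (algebraMap R A)).FG := Ideal.FG.map (IsNoetherian.noetherian I) _
  have h0 : I.map (algebraMap R A) = ⊥ := Submodule.eq_bot_of_le_smul_of_le_jacobson_bot (maximalIdeal A) _ hfg
    (by rw [smul_eq_mul]; exact Ideal.map_le_iff_le_comap.2 h) (maximalIdeal_le_jacobson _)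
  intro x hx
  exact (Submodule.mem_bot A).1 (h0.le (Ideal.mem_map_of_mem _ hx))

theorem smul_top_le {I V : Ideal R} (hV : V = (maximalIdeal A * I.map (algebraMap R A)).comap (algebraMap R A)) :
    maximalIdeal R * I ≤ V := by
  rw [hV, ← Ideal.map_le_iff_le_comap, Ideal.map_mul]
  exact Ideal.mul_mono_left maximalIdeal_map_le

include B in
/-- The relations modulo every power of the maximal ideal die in the algebra. -/
theorem coefIdeal_le_ker (hgen : LinearMap.range (Finsupp.linearCombination R b) ⊔ maximalIdeal R • (⊤ : Submodule R P) = ⊤)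
    (hli : IndepMod (A := A) b g) (n : ℕ) :
    coefIdeal b n ≤ RingHom.ker (algebraMap R A) ⊔ maximalIdeal R ^ (n + 1) := by
  classical
  have hcl := sup_iInf_eq (coefIdeal (R := R) b) (pow_le_coefIdeal b) (coefIdeal_succ_le b) (coefIdeal_le_succ b hgen)
  let I : Ideal R := ⨅ k, coefIdeal b k
  let V := (maximalIdeal A * I.map (algebraMap R A)).comap (algebraMap R A)
  obtain ⟨N, hN⟩ := exists_artinRees (P := P) (B := B) I
  have hbig : ∀ n, N ≤ n + 1 → coefIdeal b n ≤ V ⊔ maximalIdeal R ^ (n + 1) := by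
    intro n hn
    refine sup_le le_sup_right (Ideal.span_le.2 ?_)
    rintro _ ⟨x, i, hx, rfl⟩
    have hxI : x i ∈ I ⊔ maximalIdeal R ^ (n + 1) := (hcl n).ge (coef_mem_coefIdeal b hx i)
    have hdec : ∀ j, ∃ y ∈ I, x j - y ∈ maximalIdeal R ^ (n + 1) := fun j => by
      obtain ⟨y, hy, z, hz, hyz⟩ := Submodule.mem_sup.1 ((hcl n).ge (coef_mem_coefIdeal b hx j))
      exact ⟨y, hy, by rw [← hyz, add_sub_cancel_left]; exact hz⟩
    choose y hy hy' using hdec
    let y' : ι →₀ R := Finsupp.onFinset x.support (fun j => if x j = 0 then 0 else y j) (fun j hj => by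
      by_contra h
      rw [Finsupp.notMem_support_iff] at h
      simp [h] at hj)
    have hy'I : ∀ j, y' j ∈ I := fun j => by
      simp only [y', Finsupp.onFinset_apply]
      split
      · exact zero_mem _
      · exact hy j
    have hd : ∀ j, x j - y' j ∈ maximalIdeal R ^ (n + 1) := fun j => by
      simp only [y', Finsupp.onFinset_apply]
      split
      · next h => simp [h]
      · exact hy' j
    have hm : ∀ (J : Ideal R) (z : ι →₀ R), (∀ j, z j ∈ J) → Finsupp.linearCombination R b z ∈ J • (⊤ : Submodule R P) :=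
      fun J z hz => by
        rw [Finsupp.linearCombination_apply]
        exact Submodule.sum_mem _ fun j _ => Submodule.smul_mem_smul (hz j) Submodule.mem_top
    have h1 : Finsupp.linearCombination R b y' ∈ maximalIdeal R ^ (n + 1) • (⊤ : Submodule R P) := by
      have := sub_mem hx (hm _ (x - y') hd)
      rwa [map_sub, sub_sub_cancel] at this
    have h2 := hN _ (hm I y' hy'I) (Submodule.smul_mono_left (Ideal.pow_le_pow_right hn) h1)
    have h3 := map_mem_smul (A := A) g _ (Submodule.smul_mono_left (smul_top_le (A := A) (V := V) rfl) h2)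
    have h4 : y' i ∈ V := Ideal.mem_comap.2
      (hli.coef_mem _ (Submodule.smul_mono_left Ideal.map_comap_le h3) i)
    have := add_mem (Ideal.mem_sup_left h4) (Ideal.mem_sup_right (S := V) (hd i))
    simpa using this
  have hall : ∀ n, coefIdeal b n ≤ V ⊔ maximalIdeal R ^ (n + 1) := by
    intro n
    rw [← hcl n]
    refine sup_le ?_ le_sup_right
    calc I ≤ coefIdeal b (max n N) := iInf_le _ _
      _ ≤ V ⊔ maximalIdeal R ^ (max n N + 1) := hbig _ (by omega)
      _ ≤ _ := sup_le_sup_left (Ideal.pow_le_pow_right (by omega)) _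
  have hIV : I ≤ V := le_of_forall_le_sup_pow fun n => (iInf_le _ n).trans (hall n)
  rw [← hcl n]
  exact sup_le_sup_right (le_ker_of_map_le hIV) _

include B in
/-- Flatness of the model over the image of the complete ring. -/
theorem flatMod_ker (hgen : LinearMap.range (Finsupp.linearCombination R b) ⊔ maximalIdeal R • (⊤ : Submodule R P) = ⊤)
    (hli : IndepMod (A := A) b g) (hB : (maximalIdeal R).map (algebraMap R B) ≤ Ideal.jacobson ⊥) :
    FlatMod P (RingHom.ker (algebraMap R A)) :=
  FlatteningIdeal.flatMod_of_truncations (B := B) hB _ fun n =>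
    flatMod_of_coefIdeal_le b hgen (coefIdeal_le_ker (B := B) hgen hli n)

include B in
/-- Elements of the kernel die in the base change. -/
theorem mem_smul_of_map_eq_zero (hgen : LinearMap.range (Finsupp.linearCombination R b) ⊔ maximalIdeal R • (⊤ : Submodule R P) = ⊤)
    (hli : IndepMod (A := A) b g) (hB : (maximalIdeal R).map (algebraMap R B) ≤ Ideal.jacobson ⊥)
    {p : P} (hp : g p = 0) : p ∈ RingHom.ker (algebraMap R A) • (⊤ : Submodule R P) := by
  have hcl := sup_iInf_eq (contentIdeal (R := R) b p) (fun n => (pow_le_coefIdeal b n).trans le_sup_left)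
    (contentIdeal_succ_le b p) (contentIdeal_le_succ b hgen p)
  let J : Ideal R := ⨅ k, contentIdeal b p k
  have hm : ∀ (J : Ideal R) (z : ι →₀ R), (∀ j, z j ∈ J) → Finsupp.linearCombination R b z ∈ J • (⊤ : Submodule R P) :=
    fun J z hz => by
      rw [Finsupp.linearCombination_apply]
      exact Submodule.sum_mem _ fun j _ => Submodule.smul_mem_smul (hz j) Submodule.mem_top
  have hpJ : p ∈ J • (⊤ : Submodule R P) := mem_smul_of_forall (B := B) hB J p fun n => by
    obtain ⟨x, hx⟩ := exists_approx b hgen p (n + 1)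
    have h1 : Finsupp.linearCombination R b x ∈ (J ⊔ maximalIdeal R ^ (n + 1)) • (⊤ : Submodule R P) :=
      hm _ x fun i => (hcl n).ge (coef_mem_contentIdeal b hx i)
    have := add_mem h1 (Submodule.smul_mono_left le_sup_right hx)
    rw [add_sub_cancel] at this
    exact Submodule.smul_mono_left (sup_le_sup_left (Ideal.pow_le_pow_right n.le_succ) _) this
  let V := (maximalIdeal A * J.map (algebraMap R A)).comap (algebraMap R A)
  obtain ⟨x, hxJ, hx⟩ := exists_lift_mem b hgen J p hpJ 1
  rw [pow_one] at hx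
  have hx' : p - Finsupp.linearCombination R b x ∈ V • (⊤ : Submodule R P) :=
    Submodule.smul_mono_left (smul_top_le (A := A) (V := V) rfl) hx
  have hg : g (Finsupp.linearCombination R b x) ∈ V.map (algebraMap R A) • (⊤ : Submodule A M) := by
    have := map_mem_smul (A := A) g _ hx'
    rwa [map_sub, hp, zero_sub, neg_mem_iff] at this
  have hxV : ∀ i, x i ∈ V := fun i =>
    Ideal.mem_comap.2 (hli.coef_mem _ (Submodule.smul_mono_left Ideal.map_comap_le hg) i)
  have hpV : p ∈ V • (⊤ : Submodule R P) := by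
    have := add_mem (hm V x hxV) hx'
    rwa [add_sub_cancel] at this
  have hkerV : RingHom.ker (algebraMap R A) ≤ V := fun r hr => by
    simp only [V, Ideal.mem_comap, RingHom.mem_ker.1 hr]
    exact zero_mem _
  have hall : ∀ n, contentIdeal b p n ≤ V ⊔ maximalIdeal R ^ (n + 1) := by
    intro n
    have hC := (coefIdeal_le_ker (B := B) hgen hli n).trans (sup_le_sup_right hkerV _)
    refine sup_le hC (Ideal.span_le.2 ?_)
    rintro _ ⟨y, i, hy, rfl⟩
    refine coef_mem b hgen hC ?_ i
    have := sub_mem (Submodule.smul_mono_left (le_sup_left : V ≤ V ⊔ maximalIdeal R ^ (n + 1)) hpV)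
      (Submodule.smul_mono_left (le_sup_right : _ ≤ V ⊔ maximalIdeal R ^ (n + 1)) hy)
    rwa [sub_sub_cancel] at this
  have hJV : J ≤ V := le_of_forall_le_sup_pow fun n => (iInf_le _ n).trans (hall n)
  exact Submodule.smul_mono_left (le_ker_of_map_le hJV) hpJ

end Groth.Agent.UnivInjMod
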