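import Groth.Agent.UnivInjMod.Complete
import Groth.Agent.FlatModel.Spread
import Mathlib.RingTheory.Flat.Stability

/-!
The criterion of injectivity for a finitely presented model over a complete Noetherian cover.
-/

set_option autoImplicit false
set_option linter.style.haveILetI false
set_option linter.unusedSectionVars false
set_option backward.isDefEq.respectTransparency false

universe u

open TensorProduct IsLocalRing

namespace Groth.Agent.UnivInjMod

/-- An element killed off a prime after a flat base change is killed off its contraction. -/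
theorem exists_smul_eq_zero_of_flat {S T E : Type u} [CommRing S] [CommRing T] [Algebra S T] [Module.Flat S T]
    [AddCommGroup E] [Module S E] (q : Ideal S) (qT : Ideal T) (hq : qT.comap (algebraMap S T) = q) (e : E)
    (h : ∃ t ∉ qT, t • ((1 : T) ⊗ₜ[S] e) = 0) : ∃ s ∉ q, s • e = 0 := by
  by_contra hcon
  push Not at hcon
  obtain ⟨t, ht, hte⟩ := h
  let φ := LinearMap.toSpanSingleton S E e
  have hle : LinearMap.ker φ ≤ q := fun s hs => by
    by_contra hsq
    exact hcon s hsq hs
  have hex : Function.Exact (((LinearMap.ker φ).subtype).lTensor T) (φ.lTensor T) :=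
    Module.Flat.lTensor_exact T φ.exact_subtype_ker_map
  have h1 : φ.lTensor T (t ⊗ₜ[S] (1 : S)) = 0 := by
    rw [LinearMap.lTensor_tmul, LinearMap.toSpanSingleton_apply_one]
    rwa [smul_tmul', smul_eq_mul, mul_one] at hte
  obtain ⟨y, hy⟩ := (hex _).1 h1
  have h2 : ∀ y : T ⊗[S] ↥(LinearMap.ker φ), TensorProduct.rid S T ((LinearMap.ker φ).subtype.lTensor T y) ∈ qT := by
    intro y
    induction y using TensorProduct.induction_on with
    | zero => simp
    | tmul a k =>
      rw [LinearMap.lTensor_tmul, TensorProduct.rid_tmul, Submodule.subtype_apply, Algebra.smul_def]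
      exact qT.mul_mem_right _ (by
        have := hle k.2
        rw [← hq] at this
        exact this)
    | add x y hx hy => rw [map_add, map_add]; exact add_mem hx hy
  have h3 := h2 y
  rw [hy, TensorProduct.rid_tmul, one_smul] at h3
  exact ht h3

/-- Linear maps send `I • ⊤` to `I • ⊤`. -/
theorem map_smul_top_mem {R N N' : Type u} [CommRing R] [AddCommGroup N] [Module R N] [AddCommGroup N'] [Module R N']
    (f : N →ₗ[R] N') (I : Ideal R) {x : N} (hx : x ∈ I • (⊤ : Submodule R N)) : f x ∈ I • (⊤ : Submodule R N') := by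
  have h := Submodule.mem_map_of_mem (f := f) hx
  rw [Submodule.map_smul''] at h
  exact SetLike.le_def.1 (smul_mono_right _ le_top) h

/-- A localised module, as an abstract module. -/
theorem exists_localizedModule {S : Type u} [CommRing S] (W : Submonoid S) (N : Type u) [AddCommGroup N] [Module S N] :
    ∃ (X : Type u) (_ : AddCommGroup X) (_ : Module S X) (_ : Module (Localization W) X)
      (_ : IsScalarTower S (Localization W) X) (f : N →ₗ[S] X), IsLocalizedModule W f :=
  ⟨LocalizedModule W N, inferInstance, inferInstance, inferInstance, inferInstance,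
    LocalizedModule.mkLinearMap W N, inferInstance⟩

/-- Lifts of a basis modulo the maximal ideal, with coordinates. -/
theorem exists_basis_lift (R : Type u) [CommRing R] [IsLocalRing R] (N : Type u) [AddCommGroup N] [Module R N] :
    ∃ (ι : Type u) (b : ι → N),
      LinearMap.range (Finsupp.linearCombination R b) ⊔ maximalIdeal R • (⊤ : Submodule R N) = ⊤ ∧
      ∀ i, ∃ f : N →ₗ[R] R ⧸ maximalIdeal R, (∀ l, f (b l) = Finsupp.single i (1 : R ⧸ maximalIdeal R) l) ∧
        ∀ y ∈ maximalIdeal R • (⊤ : Submodule R N), f y = 0 := by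
  classical
  let m := maximalIdeal R
  letI : Field (R ⧸ m) := Ideal.Quotient.field m
  let bk := Module.Free.chooseBasis (R ⧸ m) ((R ⧸ m) ⊗[R] N)
  let ι := Module.Free.ChooseBasisIndex (R ⧸ m) ((R ⧸ m) ⊗[R] N)
  have hsurj : Function.Surjective (TensorProduct.mk R (R ⧸ m) N 1) :=
    TensorProduct.mk_surjective R N (R ⧸ m) Ideal.Quotient.mk_surjective
  choose b hb using fun i => hsurj (bk i)
  have hbk : ∀ x : ι →₀ R, (1 : R ⧸ m) ⊗ₜ[R] Finsupp.linearCombination R b x =
      Finsupp.linearCombination (R ⧸ m) (fun i => bk i) (x.mapRange (Ideal.Quotient.mk m) (map_zero _)) := by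
    intro x
    induction x using Finsupp.induction_linear with
    | zero => simp
    | add x y hx hy => simp [map_add, tmul_add, hx, hy, Finsupp.mapRange_add]
    | single i a =>
      simp only [Finsupp.linearCombination_single, Finsupp.mapRange_single]
      rw [tmul_smul, ← TensorProduct.mk_apply, hb, ← Ideal.Quotient.algebraMap_eq, IsScalarTower.algebraMap_smul]
  refine ⟨ι, b, ?_, fun i => ⟨((bk.coord i).restrictScalars R) ∘ₗ TensorProduct.mk R (R ⧸ m) N 1,
    fun l => ?_, fun y hy => ?_⟩⟩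
  · rw [eq_top_iff]
    intro p _
    obtain ⟨x, hx⟩ := Finsupp.mapRange_surjective (α := ι) (Ideal.Quotient.mk m) (map_zero _)
      Ideal.Quotient.mk_surjective (bk.repr ((1 : R ⧸ m) ⊗ₜ[R] p))
    refine Submodule.mem_sup.mpr ⟨Finsupp.linearCombination R b x, ⟨x, rfl⟩, p - Finsupp.linearCombination R b x, ?_, by abel⟩
    rw [← FlatteningIdeal.mk_eq_zero_iff, tmul_sub, hbk, hx, bk.linearCombination_repr, sub_self]
  · rw [LinearMap.comp_apply, hb, LinearMap.restrictScalars_apply, bk.coord_apply, bk.repr_self]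
    exact Finsupp.single_apply.trans (by rw [Finsupp.single_apply]; exact ite_congr (propext eq_comm) (fun _ => rfl) fun _ => rfl)
  · rw [LinearMap.comp_apply, TensorProduct.mk_apply, (FlatteningIdeal.mk_eq_zero_iff m y).2 hy, map_zero]

/-- Maps out of a module extend to a cover of its base changes and localisations. -/
theorem exists_extension {P₀ P S T : Type u} [CommRing P₀] [CommRing P] [CommRing S] [CommRing T]
    [Algebra P₀ P] [Algebra P₀ S] [Algebra P₀ T] [Algebra P T] [Algebra S T] [IsScalarTower P₀ P T]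
    [IsScalarTower P₀ S T] (qT : Submonoid T) (qS : Submonoid S) (hq : qS ≤ qT.comap (algebraMap S T))
    {E₀ X Y Z : Type u} [AddCommGroup E₀] [Module P₀ E₀] [AddCommGroup X] [Module P X] [Module P₀ X]
    [IsScalarTower P₀ P X]
    [AddCommGroup Y] [Module S Y] (lS : S ⊗[P₀] E₀ →ₗ[S] Y) [IsLocalizedModule qS lS]
    [AddCommGroup Z] [Module T Z] [Module S Z] [IsScalarTower S T Z]
    (lT : T ⊗[P] X →ₗ[T] Z) [IsLocalizedModule qT lT] (f : E₀ →ₗ[P₀] X) :
    ∃ g : Y →ₗ[S] Z, ∀ e₀, g (lS ((1 : S) ⊗ₜ e₀)) = lT ((1 : T) ⊗ₜ[P] f e₀) := by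
  letI : Module P₀ Z := Module.compHom Z (algebraMap P₀ T)
  haveI : IsScalarTower P₀ T Z := IsScalarTower.of_algebraMap_smul fun _ _ => rfl
  haveI : IsScalarTower P₀ S Z := IsScalarTower.of_algebraMap_smul fun p z => by
    rw [← algebraMap_smul T (algebraMap P₀ S p) z, ← IsScalarTower.algebraMap_apply P₀ S T, algebraMap_smul]
  let f₀ : E₀ →ₗ[P₀] Z := (lT.restrictScalars P₀) ∘ₗ ((TensorProduct.mk P T X 1).restrictScalars P₀) ∘ₗ f
  let fS : S ⊗[P₀] E₀ →ₗ[S] Z := (TensorProduct.isBaseChange P₀ E₀ S).lift f₀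
  have hu : ∀ w : qS, IsUnit (algebraMap S (Module.End S Z) w) := fun w => by
    have h := IsLocalizedModule.map_units lT (⟨algebraMap S T w, hq w.2⟩ : qT)
    rw [Module.End.isUnit_iff] at h ⊢
    have he : ⇑(algebraMap S (Module.End S Z) (w : S)) = ⇑(algebraMap T (Module.End T Z) (algebraMap S T w)) := by
      ext x
      simp [algebraMap_smul]
    rw [he]
    exact h
  refine ⟨IsLocalizedModule.lift qS lS fS hu, fun e₀ => ?_⟩
  rw [IsLocalizedModule.lift_apply]
  exact (TensorProduct.isBaseChange P₀ E₀ S).lift_eq f₀ e₀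

/-- The retraction to the closed fibre. -/
theorem exists_retraction {P T : Type u} [CommRing P] [CommRing T] [Algebra P T] (mP : Ideal P)
    (θ : T →+* P ⧸ mP) (hθ : ∀ p, θ (algebraMap P T p) = Ideal.Quotient.mk mP p) (W : Submonoid T)
    {M Z : Type u} [AddCommGroup M] [Module P M] [AddCommGroup Z] [Module T Z]
    (lT : T ⊗[P] M →ₗ[T] Z) [IsLocalizedModule W lT]
    (hW : ∀ w ∈ W, ∃ p : P, θ w = Ideal.Quotient.mk mP p ∧ IsUnit (algebraMap P (Module.End P M) p)) :
    ∃ r : Z →+ M ⧸ (mP • (⊤ : Submodule P M)), (∀ m, r (lT ((1 : T) ⊗ₜ[P] m)) = Submodule.Quotient.mk m) ∧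
      ∀ t z, r (t • z) = θ t • r z := by
  let X := M ⧸ (mP • (⊤ : Submodule P M))
  letI : Module T X := Module.compHom X θ
  haveI : IsScalarTower P T X := IsScalarTower.of_algebraMap_smul fun p x => by
    show θ (algebraMap P T p) • x = p • x
    rw [hθ]
    induction x using Submodule.Quotient.induction_on with
    | _ y => rfl
  let rT : T ⊗[P] M →ₗ[T] X := (TensorProduct.isBaseChange P M T).lift (mP • (⊤ : Submodule P M)).mkQ
  have hrT : ∀ w : W, IsUnit (algebraMap T (Module.End T X) w) := fun ⟨w, hw⟩ => by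
    obtain ⟨p, hp, hpu⟩ := hW w hw
    have hact : ∀ y : M, (w • (Submodule.Quotient.mk y : X)) = Submodule.Quotient.mk (p • y) := fun y => by
      show θ w • (Submodule.Quotient.mk y : X) = _
      rw [hp]
      rfl
    obtain ⟨u, hu⟩ := hpu
    have hinv : ∀ y : M, (↑u⁻¹ : Module.End P M) (p • y) = y := fun y => by
      show (↑u⁻¹ : Module.End P M) (algebraMap P (Module.End P M) p y) = y
      rw [← hu, ← Module.End.mul_apply, Units.inv_mul, Module.End.one_apply]
    rw [Module.End.isUnit_iff]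
    refine ⟨fun x y hxy => ?_, fun x => ?_⟩
    · induction x using Submodule.Quotient.induction_on with
      | _ x =>
        induction y using Submodule.Quotient.induction_on with
        | _ y =>
          simp only [Module.algebraMap_end_apply] at hxy
          rw [hact, hact, Submodule.Quotient.eq, ← smul_sub] at hxy
          rw [Submodule.Quotient.eq, ← hinv (x - y)]
          exact map_smul_top_mem _ mP hxy
    · induction x using Submodule.Quotient.induction_on with
      | _ x =>
        refine ⟨Submodule.Quotient.mk ((↑u⁻¹ : Module.End P M) x), ?_⟩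
        rw [Module.algebraMap_end_apply, hact]
        congr 1
        show algebraMap P (Module.End P M) p ((↑u⁻¹ : Module.End P M) x) = x
        rw [← hu, ← Module.End.mul_apply, Units.mul_inv, Module.End.one_apply]
  let r : Z →ₗ[T] X := IsLocalizedModule.lift W lT rT hrT
  refine ⟨r.toAddMonoidHom, fun m => ?_, fun t z => r.map_smul t z⟩
  show r (lT _) = _
  rw [IsLocalizedModule.lift_apply]
  exact (TensorProduct.isBaseChange P M T).lift_eq _ m

section Indep

variable {A₀ A R A' P₀ P S T : Type u} [CommRing A₀] [CommRing A] [IsLocalRing A] [CommRing R] [IsLocalRing R]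
  [CommRing A'] [IsLocalRing A'] [CommRing P₀] [CommRing P] [CommRing S] [CommRing T]
  [Algebra A₀ A] [Algebra A₀ R] [Algebra A₀ A'] [Algebra A A'] [Algebra R A'] [IsScalarTower A₀ A A']
  [IsScalarTower A₀ R A'] [IsLocalHom (algebraMap A A')] [IsLocalHom (algebraMap R A')]
  [Algebra A₀ P₀] [Algebra A P] [Algebra R S] [Algebra A' T] [Algebra P₀ P] [Algebra P₀ S] [Algebra P₀ T]
  [Algebra P T] [Algebra S T] [IsScalarTower P₀ P T] [IsScalarTower P₀ S T]
  [Algebra A₀ P] [IsScalarTower A₀ A P] [IsScalarTower A₀ P₀ P] [Algebra.IsPushout A₀ A P₀ P]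
  [Algebra A T] [IsScalarTower A A' T] [IsScalarTower A P T]
  [Algebra R T] [IsScalarTower R A' T] [IsScalarTower R S T]
  [Algebra A₀ S] [IsScalarTower A₀ R S] [IsScalarTower A₀ P₀ S]

/-- The lifted basis of the model maps to a family independent modulo the maximal ideal. -/
theorem indepMod_of_model
    (hS : ∀ z : S, ∃ z₀ : P₀, z - algebraMap P₀ S z₀ ∈ (maximalIdeal R).map (algebraMap R S))
    (hA' : ∀ x : A', ∃ a : A, x - algebraMap A A' a ∈ maximalIdeal A')
    (q : Ideal P) (mP : Ideal P) (hmP : mP = (maximalIdeal A).map (algebraMap A P))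
    (θ : T →+* P ⧸ mP) (hθ : ∀ p, θ (algebraMap P T p) = Ideal.Quotient.mk _ p)
    (hθm : ∀ x ∈ maximalIdeal A', θ (algebraMap A' T x) = 0)
    (qS : Ideal S) [qS.IsPrime] (hmR : ∀ x ∈ maximalIdeal R, algebraMap R S x ∈ qS)
    (hqS : ∀ w₀ : P₀, algebraMap P₀ S w₀ ∈ qS ↔ algebraMap P₀ P w₀ ∈ q)
    {E₀ E M PR M' : Type u} [AddCommGroup E₀] [Module A₀ E₀] [Module P₀ E₀] [IsScalarTower A₀ P₀ E₀]
    [AddCommGroup E] [Module A E] [Module P E] [IsScalarTower A P E] [Module A₀ E] [IsScalarTower A₀ A E]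
    [Module P₀ E] [IsScalarTower P₀ P E] [IsScalarTower A₀ P₀ E]
    (j : E₀ →ₗ[P₀] E) (hj : IsBaseChange P j)
    [AddCommGroup M] [Module A M] [Module P M] [IsScalarTower A P M]
    (v : E →ₗ[P] M) (hv : ∀ e, v e ∈ maximalIdeal A • (⊤ : Submodule A M) → ∃ s ∉ q, s • e ∈ maximalIdeal A • (⊤ : Submodule A E))
    (s₀ : P₀) (hs₀ : algebraMap P₀ P s₀ ∉ q)
    (hs : ∀ e : E, (∃ t ∉ q, t • e ∈ maximalIdeal A • (⊤ : Submodule A E)) →
      algebraMap P₀ P s₀ • e ∈ maximalIdeal A • (⊤ : Submodule A E))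
    [AddCommGroup PR] [Module S PR] [Module R PR] [IsScalarTower R S PR]
    (lS : S ⊗[P₀] E₀ →ₗ[S] PR) [IsLocalizedModule qS.primeCompl lS]
    [AddCommGroup M'] [Module T M'] [Module A' M'] [IsScalarTower A' T M'] [Module S M'] [IsScalarTower S T M']
    [Module R M'] [IsScalarTower R A' M'] [IsScalarTower R S M']
    (lT : T ⊗[P] M →ₗ[T] M') (gS : PR →ₗ[S] M')
    (hgS : ∀ e₀, gS (lS ((1 : S) ⊗ₜ e₀)) = lT ((1 : T) ⊗ₜ[P] v (j e₀)))
    (r : M' →+ M ⧸ (mP • (⊤ : Submodule P M))) (hr : ∀ m, r (lT ((1 : T) ⊗ₜ[P] m)) = Submodule.Quotient.mk m)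
    (hrθ : ∀ t z, r (t • z) = θ t • r z)
    {ι : Type u} (b : ι → PR)
    (hb : ∀ i, ∃ f : PR →ₗ[R] R ⧸ maximalIdeal R, (∀ l, f (b l) = Finsupp.single i (1 : R ⧸ maximalIdeal R) l) ∧
        ∀ y ∈ maximalIdeal R • (⊤ : Submodule R PR), f y = 0) :
    IndepMod (A := A') b (gS.restrictScalars R) := by
  classical
  let m := maximalIdeal R
  letI : Module P₀ PR := Module.compHom PR (algebraMap P₀ S)
  haveI : IsScalarTower P₀ S PR := IsScalarTower.of_algebraMap_smul fun _ _ => rfl
  let inPR : E₀ →ₗ[P₀] PR := lS.restrictScalars P₀ ∘ₗ TensorProduct.mk P₀ S E₀ 1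
  have hmS : ∀ c ∈ m.map (algebraMap R S), ∀ y : PR, c • y ∈ m • (⊤ : Submodule R PR) := fun c hc y =>
    (mem_smul_top_iff (B := S) m _).2 (Submodule.smul_mem_smul hc Submodule.mem_top)
  have hSsmul : ∀ (c : S) {y : PR}, y ∈ m • (⊤ : Submodule R PR) → c • y ∈ m • (⊤ : Submodule R PR) := fun c y hy =>
    (mem_smul_top_iff (B := S) m _).2 (Submodule.smul_mem _ c ((mem_smul_top_iff (B := S) m _).1 hy))
  have hd1 : ∀ z : S ⊗[P₀] E₀, ∃ e₀, lS z - inPR e₀ ∈ m • (⊤ : Submodule R PR) := by
    intro z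
    induction z using TensorProduct.induction_on with
    | zero => exact ⟨0, by simp⟩
    | tmul a e =>
      obtain ⟨a₀, ha⟩ := hS a
      refine ⟨a₀ • e, ?_⟩
      have heq : lS (a ⊗ₜ e) - inPR (a₀ • e) = (a - algebraMap P₀ S a₀) • inPR e := by
        show lS (a ⊗ₜ e) - lS ((1 : S) ⊗ₜ (a₀ • e)) = (a - algebraMap P₀ S a₀) • lS ((1 : S) ⊗ₜ e)
        rw [← map_smul, ← map_sub, TensorProduct.smul_tmul', smul_eq_mul, mul_one, sub_tmul,
          Algebra.algebraMap_eq_smul_one, smul_tmul]
      rw [heq]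
      exact hmS _ ha _
    | add x y hx hy =>
      obtain ⟨e, he⟩ := hx
      obtain ⟨f, hf⟩ := hy
      exact ⟨e + f, by rw [map_add, map_add, add_sub_add_comm]; exact add_mem he hf⟩
  have hdens : ∀ y : PR, ∃ w₀ : P₀, algebraMap P₀ S w₀ ∉ qS ∧
      ∃ e₀, algebraMap P₀ S w₀ • y - inPR e₀ ∈ m • (⊤ : Submodule R PR) := by
    intro y
    obtain ⟨⟨z, w⟩, hzw⟩ := IsLocalizedModule.surj qS.primeCompl lS y
    obtain ⟨w₀, hw⟩ := hS w
    obtain ⟨e₀, he⟩ := hd1 z
    refine ⟨w₀, fun h => w.2 ?_, e₀, ?_⟩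
    · have := add_mem (Ideal.map_le_iff_le_comap.2 hmR hw) h
      rwa [sub_add_cancel] at this
    · have h1 : (w : S) • y - inPR e₀ ∈ m • (⊤ : Submodule R PR) := by
        rw [show (w : S) • y = _ from hzw]
        exact he
      have := sub_mem h1 (hmS _ hw y)
      rw [sub_smul] at this
      convert this using 1
      abel
  intro c hc i
  choose a ha using hA'
  choose w hw e he using fun l => hdens (b l)
  let L := insert i c.support
  let W := ∏ l ∈ L, w l
  let e' : ι → E₀ := fun l => (∏ l' ∈ L.erase l, w l') • e l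
  have hW : ∀ l ∈ L, algebraMap P₀ S W • b l - inPR (e' l) ∈ m • (⊤ : Submodule R PR) := fun l hl => by
    have hsplit : W = (∏ l' ∈ L.erase l, w l') * w l := (Finset.prod_erase_mul L w hl).symm
    rw [hsplit, map_mul, mul_smul, show inPR (e' l) = _ from map_smul inPR _ _,
      ← algebraMap_smul S (∏ l' ∈ L.erase l, w l') (inPR (e l)), ← smul_sub]
    exact hSsmul _ (he l)
  have hWq : algebraMap P₀ S W ∉ qS := by
    rw [map_prod, Ideal.IsPrime.prod_mem_iff]
    rintro ⟨l, -, hl⟩
    exact hw l hl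
  -- the combination in the module over `A`
  have hrm : ∀ y ∈ maximalIdeal A' • (⊤ : Submodule A' M'), r y = 0 := fun y hy => by
    refine Submodule.smul_induction_on hy (fun c hc z _ => ?_) fun a b ha hb => by rw [map_add, ha, hb, add_zero]
    rw [← algebraMap_smul T c z, hrθ, hθm c hc, zero_smul]
  let eA : E := ∑ l ∈ L, a (c l) • j (e' l)
  have h1 : ∀ l ∈ L, r (algebraMap S T (algebraMap P₀ S W) • (c l • gS (b l))) =
      Submodule.Quotient.mk (a (c l) • v (j (e' l))) := by
    intro l hl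
    have h2 : r (algebraMap S T (algebraMap P₀ S W) • gS (b l)) = Submodule.Quotient.mk (v (j (e' l))) := by
      have h3 := hrm _ (Submodule.smul_mono_left (maximalIdeal_map_le (R := R) (A := A'))
        (map_mem_smul (A := A') (gS.restrictScalars R) m (hW l hl)))
      rw [LinearMap.restrictScalars_apply, map_sub, map_sub, sub_eq_zero, map_smul] at h3
      rw [algebraMap_smul, h3]
      show r (gS (lS ((1 : S) ⊗ₜ e' l))) = _
      rw [hgS, hr]
    rw [← algebraMap_smul T (c l) (gS (b l)), smul_smul, mul_comm, ← smul_smul, hrθ, h2]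
    have h7 : θ (algebraMap A' T (c l)) = Ideal.Quotient.mk _ (algebraMap A P (a (c l))) := by
      have := hθm _ (ha (c l))
      rw [map_sub, map_sub, sub_eq_zero] at this
      rw [this, ← IsScalarTower.algebraMap_apply A A' T, IsScalarTower.algebraMap_apply A P T, hθ]
    rw [h7, ← algebraMap_smul P (a (c l)) (v (j (e' l)))]
    rfl
  have hveA : v eA ∈ maximalIdeal A • (⊤ : Submodule A M) := by
    have hc' : algebraMap S T (algebraMap P₀ S W) • ∑ l ∈ L, c l • gS (b l) ∈ maximalIdeal A' • (⊤ : Submodule A' M') := by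
      have hsum : ∑ l ∈ L, c l • gS (b l) = Finsupp.linearCombination A' (fun l => gS (b l)) c := by
        rw [Finsupp.linearCombination_apply, Finsupp.sum_of_support_subset c (Finset.subset_insert _ _) _ (by simp)]
      rw [hsum, mem_smul_top_iff (B := T)]
      exact Submodule.smul_mem _ _ ((mem_smul_top_iff (B := T) _ _).1 hc)
    have h0 := hrm _ hc'
    rw [Finset.smul_sum, map_sum, Finset.sum_congr rfl h1] at h0
    have h0' : (Submodule.Quotient.mk (v eA) : M ⧸ (mP • (⊤ : Submodule P M))) = 0 := by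
      rw [← h0]
      show (mP • (⊤ : Submodule P M)).mkQ (v (∑ l ∈ L, a (c l) • j (e' l))) = _
      rw [map_sum, map_sum]
      refine Finset.sum_congr rfl fun l _ => ?_
      rw [← algebraMap_smul P (a (c l)) (j (e' l)), map_smul, algebraMap_smul]
      rfl
    rw [Submodule.Quotient.mk_eq_zero, hmP] at h0'
    exact (mem_smul_top_iff (B := P) _ _).2 h0'
  obtain ⟨t, htq, hte⟩ := hv eA hveA
  have hse := hs eA ⟨t, htq, hte⟩
  -- coordinates
  have hu : IsUnit (algebraMap S (Module.End S PR) (algebraMap P₀ S (s₀ * W))) := by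
    refine IsLocalizedModule.map_units lS (⟨_, fun h => ?_⟩ : qS.primeCompl)
    rw [SetLike.mem_coe, map_mul] at h
    rcases Ideal.IsPrime.mem_or_mem inferInstance h with h | h
    · exact hs₀ ((hqS _).1 h)
    · exact hWq h
  obtain ⟨u, hu⟩ := hu
  let uinv : PR →ₗ[S] PR := ↑u⁻¹
  have huinv : ∀ y : PR, uinv (algebraMap P₀ S (s₀ * W) • y) = y := fun y => by
    show (↑u⁻¹ : Module.End S PR) (algebraMap S (Module.End S PR) _ y) = y
    rw [← hu, ← Module.End.mul_apply, Units.inv_mul, Module.End.one_apply]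
  obtain ⟨f, hfb, hfm⟩ := hb i
  let κ : R ⧸ maximalIdeal R →ₗ[R] ResidueField A' :=
    Submodule.liftQ _ (Algebra.linearMap R (ResidueField A')) fun x hx => by
      rw [LinearMap.mem_ker, Algebra.linearMap_apply, IsScalarTower.algebraMap_apply R A' (ResidueField A'),
        ResidueField.algebraMap_eq, residue_eq_zero_iff]
      exact Ideal.map_le_iff_le_comap.1 (maximalIdeal_map_le (R := R) (A := A')) hx
  let G : PR →ₗ[R] ResidueField A' := κ ∘ₗ f ∘ₗ uinv.restrictScalars R
  letI : Module A₀ PR := Module.compHom PR (algebraMap A₀ R)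
  haveI : IsScalarTower A₀ R PR := IsScalarTower.of_algebraMap_smul fun _ _ => rfl
  haveI : IsScalarTower A₀ P₀ PR := IsScalarTower.of_algebraMap_smul fun a₁ x => by
    show algebraMap P₀ S (algebraMap A₀ P₀ a₁) • x = algebraMap A₀ R a₁ • x
    rw [← IsScalarTower.algebraMap_apply A₀ P₀ S, IsScalarTower.algebraMap_apply A₀ R S, algebraMap_smul]
  haveI : IsScalarTower A₀ R (ResidueField A') := IsScalarTower.of_algebraMap_eq fun x => by
    rw [IsScalarTower.algebraMap_apply R A' (ResidueField A'), ← IsScalarTower.algebraMap_apply A₀ R A',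
      ← IsScalarTower.algebraMap_apply A₀ A' (ResidueField A')]
  let F₀ : E₀ →ₗ[A₀] ResidueField A' := G.restrictScalars A₀ ∘ₗ inPR.restrictScalars A₀
  have hF₀ : ∀ l ∈ L, F₀ (s₀ • e' l) = if l = i then 1 else 0 := by
    intro l hl
    show κ (f (uinv (inPR (s₀ • e' l)))) = _
    have h3 : f (uinv (inPR (s₀ • e' l))) = f (b l) := by
      rw [← sub_eq_zero, ← map_sub]
      refine hfm _ ?_
      rw [← huinv (b l), ← map_sub, map_smul, ← algebraMap_smul S s₀ (inPR (e' l)), map_mul, mul_smul, ← smul_sub,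
        map_smul]
      refine hSsmul _ ?_
      have h4 := neg_mem (hW l hl)
      rw [neg_sub] at h4
      exact map_smul_top_mem (uinv.restrictScalars R) m h4
    rw [h3, hfb, Finsupp.single_apply]
    by_cases h : l = i
    · rw [if_pos h.symm, if_pos h]
      show κ (Submodule.Quotient.mk 1) = 1
      rw [Submodule.liftQ_apply, Algebra.linearMap_apply, map_one]
    · rw [if_neg (Ne.symm h), if_neg h, map_zero]
  have hjA : IsBaseChange A (j.restrictScalars A₀) := (DevFlat.isBaseChange_iff (A := A₀) (A' := A) j).1 hj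
  let F : E →ₗ[A] ResidueField A' := hjA.lift F₀
  have hFm : ∀ y ∈ maximalIdeal A • (⊤ : Submodule A E), F y = 0 := fun y hy => by
    refine Submodule.smul_induction_on hy (fun x hx z _ => ?_) fun a b ha hb => by rw [map_add, ha, hb, add_zero]
    rw [map_smul, ← algebraMap_smul A' x, Algebra.smul_def, ResidueField.algebraMap_eq,
      (residue_eq_zero_iff _).2 (Ideal.map_le_iff_le_comap.1
        (((local_hom_TFAE (algebraMap A A')).out 0 2).1 ‹IsLocalHom (algebraMap A A')›) hx), zero_mul]
  have h5 := hFm _ hse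
  rw [show algebraMap P₀ P s₀ • eA = ∑ l ∈ L, a (c l) • j (s₀ • e' l) by
    rw [Finset.smul_sum]
    refine Finset.sum_congr rfl fun l _ => ?_
    rw [j.map_smul s₀ (e' l), ← algebraMap_smul P s₀ (j (e' l))]
    exact smul_comm _ _ _, map_sum] at h5
  have h6 : ∀ l ∈ L, F (a (c l) • j (s₀ • e' l)) = a (c l) • (if l = i then (1 : ResidueField A') else 0) := fun l hl => by
    rw [map_smul, ← hF₀ l hl]
    congr 1
    exact hjA.lift_eq F₀ _
  rw [Finset.sum_congr rfl h6] at h5
  simp only [smul_ite, smul_zero, Finset.sum_ite_eq', show i ∈ L from Finset.mem_insert_self _ _, if_true] at h5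
  rw [← algebraMap_smul A' (a (c i)), Algebra.smul_def, mul_one, ResidueField.algebraMap_eq, residue_eq_zero_iff] at h5
  have := add_mem (ha (c i)) h5
  rwa [sub_add_cancel] at this

variable [IsNoetherianRing R] [IsAdicComplete (maximalIdeal R) R] [IsNoetherianRing S] [Module.Flat A A']
  [Algebra.IsPushout A A' P T] [Algebra.IsPushout R A' S T]

/-- The criterion for a finitely presented model. -/
theorem flatAt_and_injective_of_model
    (hS : ∀ z : S, ∃ z₀ : P₀, z - algebraMap P₀ S z₀ ∈ (maximalIdeal R).map (algebraMap R S))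
    (hA' : ∀ x : A', ∃ a : A, x - algebraMap A A' a ∈ maximalIdeal A')
    (q : Ideal P) [q.IsPrime] (mP : Ideal P) (hmP : mP = (maximalIdeal A).map (algebraMap A P)) (hmq : mP ≤ q)
    (θ : T →+* P ⧸ mP) (hθ : ∀ p, θ (algebraMap P T p) = Ideal.Quotient.mk _ p)
    (hθm : ∀ x ∈ maximalIdeal A', θ (algebraMap A' T x) = 0)
    {E₀ E M : Type u} [AddCommGroup E₀] [Module A₀ E₀] [Module P₀ E₀] [IsScalarTower A₀ P₀ E₀]
    [Module.Finite P₀ E₀]
    [AddCommGroup E] [Module A E] [Module P E] [IsScalarTower A P E] [Module A₀ E] [IsScalarTower A₀ A E]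
    [Module P₀ E] [IsScalarTower P₀ P E] [IsScalarTower A₀ P₀ E]
    (j : E₀ →ₗ[P₀] E) (hj : IsBaseChange P j)
    [AddCommGroup M] [Module A M] [Module P M] [IsScalarTower A P M] [Module.Flat A M]
    (hM : ∀ w : P, w ∉ q → IsUnit (algebraMap P (Module.End P M) w))
    (v : E →ₗ[P] M) (hv : ∀ e, v e ∈ maximalIdeal A • (⊤ : Submodule A M) → ∃ s ∉ q, s • e ∈ maximalIdeal A • (⊤ : Submodule A E))
    (s₀ : P₀) (hs₀ : algebraMap P₀ P s₀ ∉ q)
    (hs : ∀ e : E, (∃ t ∉ q, t • e ∈ maximalIdeal A • (⊤ : Submodule A E)) →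
      algebraMap P₀ P s₀ • e ∈ maximalIdeal A • (⊤ : Submodule A E)) :
    FlatCA.FlatAt A q E ∧ ∀ e₀ : E₀, v (j e₀) = 0 → ∃ s ∉ q, s • j e₀ = 0 := by
  let qbar : Ideal (P ⧸ mP) := q.map (Ideal.Quotient.mk mP)
  haveI : qbar.IsPrime := Ideal.map_isPrime_of_surjective Ideal.Quotient.mk_surjective (by rwa [Ideal.mk_ker])
  have hmk : qbar.comap (Ideal.Quotient.mk mP) = q := by
    rw [Ideal.comap_map_of_surjective _ Ideal.Quotient.mk_surjective, ← RingHom.ker_eq_comap_bot, Ideal.mk_ker,
      sup_eq_left]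
    exact hmq
  let qT : Ideal T := qbar.comap θ
  haveI : qT.IsPrime := inferInstance
  have hqT : qT.comap (algebraMap P T) = q := by
    conv_rhs => rw [← hmk]
    ext p
    show θ (algebraMap P T p) ∈ qbar ↔ _
    rw [hθ]
    rfl
  let qS : Ideal S := qT.comap (algebraMap S T)
  haveI : qS.IsPrime := inferInstance
  have hmR : ∀ x ∈ maximalIdeal R, algebraMap R S x ∈ qS := fun x hx => by
    show θ (algebraMap S T (algebraMap R S x)) ∈ qbar
    rw [← IsScalarTower.algebraMap_apply R S T, IsScalarTower.algebraMap_apply R A' T,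
      hθm _ (Ideal.map_le_iff_le_comap.1 (maximalIdeal_map_le (R := R) (A := A')) hx)]
    exact zero_mem _
  have hqS : ∀ w₀ : P₀, algebraMap P₀ S w₀ ∈ qS ↔ algebraMap P₀ P w₀ ∈ q := fun w₀ => by
    show algebraMap S T (algebraMap P₀ S w₀) ∈ qT ↔ _
    rw [← IsScalarTower.algebraMap_apply P₀ S T, IsScalarTower.algebraMap_apply P₀ P T]
    exact SetLike.ext_iff.1 hqT _
  -- the model over the complete ring
  obtain ⟨PR, _, _, _, _, lS, hlS⟩ := exists_localizedModule qS.primeCompl (S ⊗[P₀] E₀)
  haveI := hlS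
  let BR := Localization.AtPrime qS
  haveI : IsNoetherianRing BR := IsLocalization.isNoetherianRing qS.primeCompl _ inferInstance
  haveI : Module.Finite BR PR := Module.Finite.of_isLocalizedModule qS.primeCompl lS
  letI : Module R PR := Module.compHom PR (algebraMap R S)
  haveI : IsScalarTower R S PR := IsScalarTower.of_algebraMap_smul fun _ _ => rfl
  haveI : IsScalarTower R BR PR := IsScalarTower.of_algebraMap_smul fun x y => by
    rw [IsScalarTower.algebraMap_apply R S BR, algebraMap_smul, algebraMap_smul]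
  have hB : (maximalIdeal R).map (algebraMap R BR) ≤ Ideal.jacobson ⊥ := by
    rw [IsLocalRing.jacobson_eq_maximalIdeal _ bot_ne_top, Ideal.map_le_iff_le_comap]
    intro x hx
    rw [Ideal.mem_comap, IsScalarTower.algebraMap_apply R S BR]
    exact (IsLocalization.AtPrime.to_map_mem_maximal_iff BR qS _).2 (hmR x hx)
  -- the flat target
  obtain ⟨M', _, _, _, _, lT, hlT⟩ := exists_localizedModule qT.primeCompl (T ⊗[P] M)
  haveI := hlT
  letI : Module A' M' := Module.compHom M' (algebraMap A' T)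
  haveI : IsScalarTower A' T M' := IsScalarTower.of_algebraMap_smul fun _ _ => rfl
  letI : Module S M' := Module.compHom M' (algebraMap S T)
  haveI : IsScalarTower S T M' := IsScalarTower.of_algebraMap_smul fun _ _ => rfl
  letI : Module R M' := Module.compHom M' (algebraMap R A')
  haveI : IsScalarTower R A' M' := IsScalarTower.of_algebraMap_smul fun _ _ => rfl
  haveI : IsScalarTower R S M' := IsScalarTower.of_algebraMap_smul fun x y => by
    show algebraMap S T (algebraMap R S x) • y = algebraMap A' T (algebraMap R A' x) • y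
    rw [← IsScalarTower.algebraMap_apply, ← IsScalarTower.algebraMap_apply]
  haveI : Module.Flat A' (T ⊗[P] M) := Module.Flat.of_linearEquiv
    (((DevFlat.isBaseChange_iff (A := A) (A' := A') (TensorProduct.mk P T M 1)).1
      (TensorProduct.isBaseChange P M T)).equiv).symm
  haveI : Module.Flat A' M' := by
    rw [FlatModel.flat_localized_iff qT.primeCompl lT]
    intro J y hy
    refine ⟨1, qT.primeCompl.one_mem, ?_⟩
    rw [one_smul]
    exact Module.Flat.lTensor_preserves_injective_linearMap J.subtype J.injective_subtype (hy.trans (map_zero _).symm)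
  letI : Module P₀ M := Module.compHom M (algebraMap P₀ P)
  haveI : IsScalarTower P₀ P M := IsScalarTower.of_algebraMap_smul fun _ _ => rfl
  obtain ⟨gS, hgS⟩ := exists_extension (P := P) qT.primeCompl qS.primeCompl (fun w hw => hw) lS lT
    (v.restrictScalars P₀ ∘ₗ j)
  obtain ⟨r, hr, hrθ⟩ := exists_retraction mP θ hθ qT.primeCompl lT fun w hw => by
    obtain ⟨p, hp⟩ := Ideal.Quotient.mk_surjective (θ w)
    refine ⟨p, hp.symm, hM p fun h => hw ?_⟩
    show θ w ∈ qbar
    rw [← hp]
    exact Ideal.mem_map_of_mem _ h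
  obtain ⟨ι, b, hgen, hb⟩ := exists_basis_lift R PR
  have hli : IndepMod (A := A') b (gS.restrictScalars R) :=
    indepMod_of_model (A₀ := A₀) (A := A) hS hA' q mP hmP θ hθ hθm qS hmR hqS j hj v hv s₀ hs₀ hs lS lT gS hgS r hr hrθ b hb
  let K := RingHom.ker (algebraMap R A')
  haveI : Algebra.IsPushout A P A' T := Algebra.IsPushout.symm ‹Algebra.IsPushout A A' P T›
  haveI : Module.Flat P T := Module.Flat.of_linearEquiv (Algebra.IsPushout.equiv A P A' T).symm.toLinearEquiv
  refine ⟨?_, fun e₀ he₀ => ?_⟩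
  · haveI hK : Module.Flat (R ⧸ K) ((R ⧸ K) ⊗[R] PR) := flatMod_ker (B := BR) hgen hli hB
    letI : Algebra (R ⧸ K) A' := (Ideal.Quotient.lift K (algebraMap R A') fun _ h => h).toAlgebra
    haveI : IsScalarTower R (R ⧸ K) A' := IsScalarTower.of_algebraMap_eq fun _ => rfl
    haveI : Module.Flat A' (A' ⊗[R] PR) :=
      Module.Flat.of_linearEquiv (AlgebraTensorModule.cancelBaseChange R (R ⧸ K) A' A' PR).symm
    let WT := Algebra.algebraMapSubmonoid T qS.primeCompl
    haveI : Module.Flat A' (LocalizedModule WT (T ⊗[S] (S ⊗[P₀] E₀))) :=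
      (FlatSpread.flat_localized_baseChange (R := R) (A := A') (T := T) qS.primeCompl lS).2 inferInstance
    have h1 : FlatCA.FlatAt A' qT (T ⊗[S] (S ⊗[P₀] E₀)) :=
      FlatModel.flat_localized_mono (L₁ := LocalizedModule WT (T ⊗[S] (S ⊗[P₀] E₀)))
        (L₂ := LocalizedModule qT.primeCompl (T ⊗[S] (S ⊗[P₀] E₀))) WT qT.primeCompl
        (fun x hx => ⟨1, by rw [one_mul]; obtain ⟨w, hw, rfl⟩ := hx; exact hw⟩)
        (LocalizedModule.mkLinearMap WT (T ⊗[S] (S ⊗[P₀] E₀)))
        (LocalizedModule.mkLinearMap qT.primeCompl (T ⊗[S] (S ⊗[P₀] E₀)))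
    let e : T ⊗[S] (S ⊗[P₀] E₀) ≃ₗ[T] T ⊗[P] E :=
      (AlgebraTensorModule.cancelBaseChange P₀ S T T E₀).trans
        ((AlgebraTensorModule.cancelBaseChange P₀ P T T E₀).symm.trans
          (LinearEquiv.baseChange P T _ _ hj.equiv))
    haveI h2 : Module.Flat A' (LocalizedModule qT.primeCompl (T ⊗[P] E)) := RG.flatAt_congr qT e h1
    haveI h3 : Module.Flat A (LocalizedModule qT.primeCompl (T ⊗[P] E)) := Module.Flat.trans A A' _
    exact RG.flatAt_of_baseChange qT q ⟨hqT.symm⟩ h3
  · have hp : (gS.restrictScalars R) (lS ((1 : S) ⊗ₜ e₀)) = 0 := by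
      rw [LinearMap.restrictScalars_apply, hgS, LinearMap.comp_apply, LinearMap.restrictScalars_apply, he₀,
        tmul_zero, map_zero]
    have hK := mem_smul_of_map_eq_zero (B := BR) hgen hli hB hp
    obtain ⟨L', _, _, _, _, lE, hlE⟩ := exists_localizedModule qT.primeCompl (T ⊗[P] E)
    haveI := hlE
    letI : Module A' L' := Module.compHom L' (algebraMap A' T)
    haveI : IsScalarTower A' T L' := IsScalarTower.of_algebraMap_smul fun _ _ => rfl
    letI : Module S L' := Module.compHom L' (algebraMap S T)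
    haveI : IsScalarTower S T L' := IsScalarTower.of_algebraMap_smul fun _ _ => rfl
    letI : Module R L' := Module.compHom L' (algebraMap R A')
    haveI : IsScalarTower R A' L' := IsScalarTower.of_algebraMap_smul fun _ _ => rfl
    haveI : IsScalarTower R S L' := IsScalarTower.of_algebraMap_smul fun x y => by
      show algebraMap S T (algebraMap R S x) • y = algebraMap A' T (algebraMap R A' x) • y
      rw [← IsScalarTower.algebraMap_apply, ← IsScalarTower.algebraMap_apply]
    obtain ⟨lam, hlam⟩ := exists_extension (P := P) qT.primeCompl qS.primeCompl (fun w hw => hw) lS lE j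
    have hz := map_mem_smul (A := A') (M := L') (lam.restrictScalars R) K hK
    rw [show K.map (algebraMap R A') = ⊥ from (Ideal.map_eq_bot_iff_le_ker _).2 le_rfl, Submodule.bot_smul,
      Submodule.mem_bot] at hz
    rw [LinearMap.restrictScalars_apply, hlam] at hz
    obtain ⟨⟨t, ht⟩, hte⟩ := (IsLocalizedModule.eq_zero_iff qT.primeCompl lE).1 hz
    exact exists_smul_eq_zero_of_flat q qT hqT (j e₀) ⟨t, ht, hte⟩

end Indep

end Groth.Agent.UnivInjMod
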