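import Groth.Agent.UnivInjMod.Core
import Groth.Agent.FormalFib6.Cplt
import Mathlib.RingTheory.AdicCompletion.LocalRing
import Mathlib.RingTheory.TensorProduct.MvPolynomial
import Mathlib.RingTheory.MvPolynomial.Localization

/-!
The criterion of injectivity for a quotient of a free module over a polynomial ring over a local ring.
-/

set_option autoImplicit false
set_option linter.style.haveILetI false
set_option linter.unusedSectionVars false
set_option backward.isDefEq.respectTransparency false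

universe u

open TensorProduct IsLocalRing

namespace Groth.Agent.UnivInjMod

/-- Elements killed off a prime modulo an ideal with Noetherian quotient have a common multiplier. -/
theorem exists_uniform {P E : Type u} [CommRing P] [AddCommGroup E] [Module P E] [Module.Finite P E]
    (I : Ideal P) [IsNoetherianRing (P ⧸ I)] (q : Ideal P) [q.IsPrime] :
    ∃ s ∉ q, ∀ e : E, (∃ t ∉ q, t • e ∈ I • (⊤ : Submodule P E)) → s • e ∈ I • (⊤ : Submodule P E) := by
  classical
  let IE := I • (⊤ : Submodule P E)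
  let X := E ⧸ IE
  haveI : Module.Finite (P ⧸ I) X := Module.Finite.of_restrictScalars_finite P (P ⧸ I) X
  haveI : IsNoetherian (P ⧸ I) X := isNoetherian_of_isNoetherianRing_of_finite (P ⧸ I) X
  let Z : Set X := {x | ∃ t ∉ q, t • x = 0}
  obtain ⟨G, hG⟩ := IsNoetherian.noetherian (Submodule.span (P ⧸ I) Z)
  have hkill : ∀ x ∈ Submodule.span (P ⧸ I) Z, ∃ t ∉ q, t • x = 0 := by
    intro x hx
    induction hx using Submodule.span_induction with
    | mem x hx => exact hx
    | zero => exact ⟨1, q.one_notMem, smul_zero _⟩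
    | add x y _ _ hx hy =>
      obtain ⟨t, ht, htx⟩ := hx
      obtain ⟨t', ht', hty⟩ := hy
      refine ⟨t * t', fun h => ?_, ?_⟩
      · rcases Ideal.IsPrime.mem_or_mem inferInstance h with h | h
        exacts [ht h, ht' h]
      · rw [smul_add, mul_smul, smul_comm, htx, smul_zero, mul_smul, hty, smul_zero, add_zero]
    | smul c x _ hx =>
      obtain ⟨t, ht, htx⟩ := hx
      exact ⟨t, ht, by rw [smul_comm, htx, smul_zero]⟩
  choose t ht htx using fun g : G => hkill g.1 (hG ▸ Submodule.subset_span g.2)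
  refine ⟨∏ g, t g, fun h => ?_, fun e he => ?_⟩
  · rw [Ideal.IsPrime.prod_mem_iff] at h
    obtain ⟨g, -, hg⟩ := h
    exact ht g hg
  have hz : Submodule.Quotient.mk e ∈ Submodule.span (P ⧸ I) Z := by
    obtain ⟨t', ht', hte⟩ := he
    refine Submodule.subset_span ⟨t', ht', ?_⟩
    rw [← Submodule.Quotient.mk_smul, Submodule.Quotient.mk_eq_zero]
    exact hte
  rw [← Submodule.Quotient.mk_eq_zero, Submodule.Quotient.mk_smul]
  rw [← hG] at hz
  generalize (Submodule.Quotient.mk e : X) = x at hz ⊢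
  induction hz using Submodule.span_induction with
  | mem x hx =>
    rw [← Finset.prod_erase_mul _ t (Finset.mem_univ ⟨x, hx⟩), mul_smul, htx ⟨x, hx⟩, smul_zero]
  | zero => exact smul_zero _
  | add x y _ _ hx hy => rw [smul_add, hx, hy, add_zero]
  | smul c x _ hx => rw [smul_comm, hx, smul_zero]

/-- A Noetherian local ring over which given polynomials are defined. -/
theorem exists_descent {A : Type u} [CommRing A] [IsLocalRing A] {n : ℕ} (F : Finset (MvPolynomial (Fin n) A)) :
    ∃ (A₀ : Type u) (_ : CommRing A₀) (_ : IsLocalRing A₀) (_ : IsNoetherianRing A₀) (_ : Algebra A₀ A),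
      IsLocalHom (algebraMap A₀ A) ∧
        ∀ p ∈ F, ∃ p₀ : MvPolynomial (Fin n) A₀, MvPolynomial.map (algebraMap A₀ A) p₀ = p := by
  classical
  let C : Finset A := F.biUnion fun p => p.coeffs
  let φ : MvPolynomial ↥C ℤ →+* A := MvPolynomial.eval₂Hom (Int.castRingHom A) fun c => c.1
  let 𝔮 := (maximalIdeal A).comap φ
  let A₀ := Localization.AtPrime 𝔮
  have hu : ∀ y : 𝔮.primeCompl, IsUnit (φ y) := fun y => IsLocalRing.notMem_maximalIdeal.1 y.2
  let ψ : A₀ →+* A := IsLocalization.lift hu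
  letI : Algebra A₀ A := ψ.toAlgebra
  haveI : IsNoetherianRing A₀ := IsLocalization.isNoetherianRing 𝔮.primeCompl _ inferInstance
  refine ⟨A₀, inferInstance, inferInstance, inferInstance, inferInstance, ⟨fun x hx => ?_⟩, fun p hp => ?_⟩
  · obtain ⟨⟨c, d⟩, rfl⟩ := IsLocalization.mk'_surjective 𝔮.primeCompl x
    rw [IsLocalization.AtPrime.isUnit_mk'_iff A₀ 𝔮]
    show φ c ∉ maximalIdeal A
    rw [IsLocalRing.notMem_maximalIdeal]
    have h1 : ψ (IsLocalization.mk' A₀ c d) * φ d = φ c := by
      rw [← IsLocalization.lift_eq (S := A₀) hu c, ← IsLocalization.lift_eq (S := A₀) hu d.1, ← map_mul,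
        IsLocalization.mk'_spec]
    rw [← h1]
    exact hx.mul (hu d)
  · show p ∈ Set.range _
    rw [MvPolynomial.mem_range_map_iff_coeffs_subset]
    intro c hc
    refine ⟨algebraMap (MvPolynomial ↥C ℤ) A₀ (MvPolynomial.X ⟨c, Finset.mem_biUnion.2 ⟨p, hp, hc⟩⟩), ?_⟩
    show ψ _ = c
    rw [IsLocalization.lift_eq]
    exact MvPolynomial.eval₂Hom_X' _ _ _

/-- Quotients of free modules commute with base change. -/
theorem exists_quotient_baseChange {P₀ P : Type u} [CommRing P₀] [CommRing P] [Algebra P₀ P] {a : ℕ} {β : Type u}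
    (r₀ : β → Fin a → P₀) (K : Submodule P (Fin a → P))
    (hK : K = Submodule.span P (Set.range fun i l => algebraMap P₀ P (r₀ i l))) :
    ∃ j : ((Fin a → P₀) ⧸ Submodule.span P₀ (Set.range r₀)) →ₗ[P₀] (Fin a → P) ⧸ K, IsBaseChange P j ∧
      ∀ x₀ : Fin a → P₀, j (Submodule.Quotient.mk x₀) = Submodule.Quotient.mk fun l => algebraMap P₀ P (x₀ l) := by
  classical
  let c : (Fin a → P₀) →ₗ[P₀] (Fin a → P) := LinearMap.pi fun l => Algebra.linearMap P₀ P ∘ₗ LinearMap.proj l
  let K₀ := Submodule.span P₀ (Set.range r₀)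
  have hle : K₀ ≤ LinearMap.ker ((K.mkQ.restrictScalars P₀) ∘ₗ c) := by
    rw [Submodule.span_le]
    rintro _ ⟨i, rfl⟩
    rw [SetLike.mem_coe, LinearMap.mem_ker]
    show Submodule.Quotient.mk _ = 0
    rw [Submodule.Quotient.mk_eq_zero, hK]
    exact Submodule.subset_span ⟨i, rfl⟩
  refine ⟨K₀.liftQ _ hle, ?_, fun x₀ => rfl⟩
  refine IsBaseChange.of_lift_unique _ ?_
  intro Q _ _ _ _ g
  letI : AddCommGroup Q := Module.addCommMonoidToAddCommGroup P (M := Q)
  let g₁ : (Fin a → P) →ₗ[P] Q := Fintype.linearCombination P fun l => g (Submodule.Quotient.mk (Pi.single l 1))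
  have hg₁ : ∀ x₀ : Fin a → P₀, g₁ (c x₀) = g (Submodule.Quotient.mk x₀) := fun x₀ => by
    have hx : x₀ = ∑ l, x₀ l • (Pi.single l (1 : P₀) : Fin a → P₀) := pi_eq_sum_univ' x₀
    conv_rhs => rw [hx]
    rw [← Submodule.mkQ_apply, map_sum, map_sum]
    simp only [g₁, Fintype.linearCombination_apply]
    refine Finset.sum_congr rfl fun l _ => ?_
    rw [map_smul, map_smul, ← algebraMap_smul P (x₀ l)]
    rfl
  have hg₁K : K ≤ LinearMap.ker g₁ := by
    rw [hK, Submodule.span_le]
    rintro _ ⟨i, rfl⟩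
    rw [SetLike.mem_coe, LinearMap.mem_ker]
    show g₁ (c (r₀ i)) = 0
    rw [hg₁, (Submodule.Quotient.mk_eq_zero _).2 (Submodule.subset_span (s := Set.range r₀) ⟨i, rfl⟩), map_zero]
  refine ExistsUnique.intro (K.liftQ g₁ hg₁K) ?_ fun g' hg' => ?_
  · refine LinearMap.ext fun z => ?_
    induction z using Submodule.Quotient.induction_on with
    | _ x₀ => exact hg₁ x₀
  · refine Submodule.linearMap_qext _ (LinearMap.pi_ext' fun l => LinearMap.ext_ring ?_)
    have h := LinearMap.congr_fun hg' (Submodule.Quotient.mk (Pi.single l (1 : P₀)))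
    have h1 : c (Pi.single l (1 : P₀)) = Pi.single l (1 : P) := by
      funext k
      show algebraMap P₀ P ((Pi.single l (1 : P₀) : Fin a → P₀) k) = _
      rw [Pi.single_apply, Pi.single_apply, apply_ite (algebraMap P₀ P), map_one, map_zero]
    show g' (Submodule.Quotient.mk (Pi.single l (1 : P))) = g₁ (Pi.single l 1)
    rw [Fintype.linearCombination_apply_single, one_smul, ← h, ← h1]
    rfl

variable {A : Type u} [CommRing A] [IsLocalRing A]

/-- The completion of a Noetherian cover and its tensor product localised at the closed point. -/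
theorem exists_complete_cover {A₀ : Type u} [CommRing A₀] [IsLocalRing A₀] [IsNoetherianRing A₀] [Algebra A₀ A]
    [IsLocalHom (algebraMap A₀ A)] :
    ∃ (R A' : Type u) (_ : CommRing R) (_ : IsLocalRing R) (_ : IsNoetherianRing R)
      (_ : IsAdicComplete (maximalIdeal R) R) (_ : CommRing A') (_ : IsLocalRing A')
      (_ : Algebra A₀ R) (_ : Algebra A₀ A') (_ : Algebra A A') (_ : Algebra R A'),
      IsScalarTower A₀ A A' ∧ IsScalarTower A₀ R A' ∧ IsLocalHom (algebraMap A A') ∧
      IsLocalHom (algebraMap R A') ∧ Module.Flat A A' ∧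
      (∀ y : R, ∃ x : A₀, y - algebraMap A₀ R x ∈ maximalIdeal R) ∧
      ∃ Φ : A' →+* ResidueField A, (∀ a, Φ (algebraMap A A' a) = residue A a) ∧
        RingHom.ker Φ = maximalIdeal A' := by
  let R := AdicCompletion (maximalIdeal A₀) A₀
  haveI : IsNoetherianRing R := FormalFib6.isNoetherianRing_adicCompletion A₀ _
  haveI : Module.Flat A₀ R := AdicCompletion.flat_of_isNoetherian _
  have hb := AdicCompletion.residueField_map_bijective A₀
  let eqv := RingEquiv.ofBijective _ hb
  let ψ : R →+* ResidueField A :=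
    (ResidueField.map (algebraMap A₀ A)).comp (eqv.symm.toRingHom.comp (residue R))
  have hψ : ∀ x : A₀, ψ (algebraMap A₀ R x) = residue A (algebraMap A₀ A x) := fun x => by
    show ResidueField.map _ (eqv.symm (residue R (algebraMap A₀ R x))) = _
    rw [← ResidueField.map_residue (algebraMap A₀ R), show ResidueField.map (algebraMap A₀ R) (residue A₀ x) =
      eqv (residue A₀ x) from rfl, RingEquiv.symm_apply_apply, ResidueField.map_residue]
  let kA : A →ₐ[A₀] ResidueField A := IsScalarTower.toAlgHom A₀ A (ResidueField A)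
  let ψ' : R →ₐ[A₀] ResidueField A :=
    { ψ with commutes' := fun x => (hψ x).trans (IsScalarTower.algebraMap_apply A₀ A (ResidueField A) x).symm }
  let Φ : A ⊗[A₀] R →ₐ[A₀] ResidueField A := Algebra.TensorProduct.productMap kA ψ'
  let 𝔭 : Ideal (A ⊗[A₀] R) := RingHom.ker Φ.toRingHom
  haveI : 𝔭.IsPrime := RingHom.ker_isPrime _
  letI : Algebra R (A ⊗[A₀] R) := Algebra.TensorProduct.rightAlgebra
  let A' := Localization.AtPrime 𝔭
  have hu : ∀ y : 𝔭.primeCompl, IsUnit (Φ.toRingHom y) := fun y => Ne.isUnit y.2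
  let Φ' : A' →+* ResidueField A := IsLocalization.lift hu
  have hΦA : ∀ a : A, Φ' (algebraMap A A' a) = residue A a := fun a => by
    rw [IsScalarTower.algebraMap_apply A (A ⊗[A₀] R) A', IsLocalization.lift_eq]
    show Φ (a ⊗ₜ 1) = _
    rw [Algebra.TensorProduct.productMap_apply_tmul, map_one, mul_one]
    rfl
  have hΦR : ∀ y : R, Φ' (algebraMap R A' y) = ψ y := fun y => by
    rw [IsScalarTower.algebraMap_apply R (A ⊗[A₀] R) A', IsLocalization.lift_eq]
    show Φ (1 ⊗ₜ y) = _
    rw [Algebra.TensorProduct.productMap_apply_tmul, map_one, one_mul]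
    rfl
  have hΦs : Function.Surjective Φ' := fun z => by
    obtain ⟨a, rfl⟩ := residue_surjective z
    exact ⟨_, hΦA a⟩
  have hker : RingHom.ker Φ' = maximalIdeal A' := by
    haveI := RingHom.ker_isMaximal_of_surjective Φ' hΦs
    exact eq_maximalIdeal inferInstance
  haveI : Module.Flat A A' := Module.Flat.trans A (A ⊗[A₀] R) A'
  refine ⟨R, A', inferInstance, inferInstance, inferInstance, inferInstance, inferInstance, inferInstance,
    inferInstance, inferInstance, inferInstance, inferInstance, inferInstance,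
    IsScalarTower.of_algebraMap_eq fun x => ?_, ⟨fun a ha => ?_⟩, ⟨fun y hy => ?_⟩, inferInstance, fun y => ?_,
    Φ', hΦA, hker⟩
  · rw [IsScalarTower.algebraMap_apply R (A ⊗[A₀] R) A', IsScalarTower.algebraMap_apply A₀ (A ⊗[A₀] R) A']
    congr 1
    exact ((Algebra.TensorProduct.includeRight : R →ₐ[A₀] A ⊗[A₀] R).commutes x).symm
  · refine (IsLocalRing.residue_ne_zero_iff_isUnit a).1 ?_
    rw [← hΦA]
    exact (ha.map Φ').ne_zero
  · refine (IsLocalRing.residue_ne_zero_iff_isUnit y).1 fun h => (hy.map Φ').ne_zero ?_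
    rw [hΦR]
    show ResidueField.map _ (eqv.symm (residue R y)) = 0
    rw [h, map_zero, map_zero]
  · obtain ⟨z, hz⟩ := hb.2 (residue R y)
    obtain ⟨x, rfl⟩ := residue_surjective z
    rw [ResidueField.map_residue] at hz
    exact ⟨x, by rw [← residue_eq_zero_iff, map_sub, hz, sub_self]⟩

attribute [local instance] MvPolynomial.algebraMvPolynomial

/-- Flatness and injectivity for a map from a quotient of a free module to a flat module. -/
theorem flatAt_and_injective_of_quotient {n a : ℕ} (q : Ideal (MvPolynomial (Fin n) A)) [q.IsPrime]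
    (hq : q.comap MvPolynomial.C = maximalIdeal A)
    (K : Submodule (MvPolynomial (Fin n) A) (Fin a → MvPolynomial (Fin n) A)) (hK : K.FG)
    {M : Type u} [AddCommGroup M] [Module A M] [Module (MvPolynomial (Fin n) A) M]
    [IsScalarTower A (MvPolynomial (Fin n) A) M] [Module.Flat A M]
    (hM : ∀ w : MvPolynomial (Fin n) A, w ∉ q → IsUnit (algebraMap (MvPolynomial (Fin n) A)
      (Module.End (MvPolynomial (Fin n) A) M) w))
    (v : ((Fin a → MvPolynomial (Fin n) A) ⧸ K) →ₗ[MvPolynomial (Fin n) A] M)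
    (hv : ∀ e, v e ∈ maximalIdeal A • (⊤ : Submodule A M) →
      ∃ s ∉ q, s • e ∈ maximalIdeal A • (⊤ : Submodule A ((Fin a → MvPolynomial (Fin n) A) ⧸ K))) :
    FlatCA.FlatAt A q ((Fin a → MvPolynomial (Fin n) A) ⧸ K) ∧ ∀ e, v e = 0 → ∃ s ∉ q, s • e = 0 := by
  classical
  suffices h : ∀ e, FlatCA.FlatAt A q ((Fin a → MvPolynomial (Fin n) A) ⧸ K) ∧ (v e = 0 → ∃ s ∉ q, s • e = 0) from
    ⟨(h 0).1, fun e => (h e).2⟩
  intro e
  let P := MvPolynomial (Fin n) A
  let mP : Ideal P := (maximalIdeal A).map MvPolynomial.C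
  have hmq : mP ≤ q := Ideal.map_le_iff_le_comap.2 hq.ge
  let qm : P →+* MvPolynomial (Fin n) (ResidueField A) := MvPolynomial.map (residue A)
  have hkerqm : RingHom.ker qm = mP := by
    rw [MvPolynomial.ker_map, ker_residue]
  haveI : IsNoetherianRing (P ⧸ mP) :=
    isNoetherianRing_of_ringEquiv (MvPolynomial (Fin n) (ResidueField A))
      ((RingHom.quotientKerEquivOfSurjective (f := qm) (MvPolynomial.map_surjective _ residue_surjective)).symm.trans
        (Ideal.quotEquivOfEq hkerqm))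
  obtain ⟨s, hsq, hs⟩ := exists_uniform (E := (Fin a → P) ⧸ K) mP q
  obtain ⟨x, rfl⟩ := Submodule.Quotient.mk_surjective K e
  obtain ⟨G, hG⟩ := hK
  let F : Finset P := insert s ((Finset.univ.image x) ∪ G.biUnion fun g => Finset.univ.image g)
  obtain ⟨A₀, _, _, _, _, hloc, hF⟩ := exists_descent F
  haveI := hloc
  obtain ⟨R, A', _, _, _, _, _, _, _, _, _, _, ht1, ht2, hl1, hl2, hfl, hR, Φ', hΦA, hker⟩ :=
    exists_complete_cover (A := A) (A₀ := A₀)
  haveI := ht1; haveI := ht2; haveI := hl1; haveI := hl2; haveI := hfl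
  let P₀ := MvPolynomial (Fin n) A₀
  let S := MvPolynomial (Fin n) R
  let T := MvPolynomial (Fin n) A'
  -- descend
  obtain ⟨s₀, hs₀⟩ := hF s (Finset.mem_insert_self _ _)
  choose x₀ hx₀ using fun l => hF (x l) (Finset.mem_insert_of_mem
    (Finset.mem_union_left _ (Finset.mem_image_of_mem x (Finset.mem_univ l))))
  choose r₀ hr₀ using fun (g : G) (l : Fin a) => hF (g.1 l) (Finset.mem_insert_of_mem
    (Finset.mem_union_right _ (Finset.mem_biUnion.2 ⟨g.1, g.2, Finset.mem_image_of_mem _ (Finset.mem_univ l)⟩)))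
  have halg : ∀ p₀ : P₀, algebraMap P₀ P p₀ = MvPolynomial.map (algebraMap A₀ A) p₀ := fun _ => rfl
  obtain ⟨j, hj, hjmk⟩ := exists_quotient_baseChange (P₀ := P₀) (P := P) r₀ K (by
    rw [← hG]
    congr 1
    ext z
    simp only [Set.mem_range, halg, hr₀]
    exact ⟨fun hz => ⟨⟨z, hz⟩, rfl⟩, by rintro ⟨g, rfl⟩; exact g.2⟩)
  haveI : Algebra.IsPushout A₀ A P₀ P := inferInstance
  haveI hTP : IsScalarTower P₀ P T := IsScalarTower.of_algebraMap_eq fun p => by
    show MvPolynomial.map (algebraMap A₀ A') p = MvPolynomial.map (algebraMap A A') (MvPolynomial.map (algebraMap A₀ A) p)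
    rw [MvPolynomial.map_map, ← IsScalarTower.algebraMap_eq]
  haveI hTS : IsScalarTower P₀ S T := IsScalarTower.of_algebraMap_eq fun p => by
    show MvPolynomial.map (algebraMap A₀ A') p = MvPolynomial.map (algebraMap R A') (MvPolynomial.map (algebraMap A₀ R) p)
    rw [MvPolynomial.map_map, ← IsScalarTower.algebraMap_eq]
  have hS : ∀ z : S, ∃ z₀ : P₀, z - algebraMap P₀ S z₀ ∈ (maximalIdeal R).map (algebraMap R S) := by
    intro z
    have hsur : Function.Surjective ((residue R).comp (algebraMap A₀ R)) := fun c => by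
      obtain ⟨y, rfl⟩ := residue_surjective c
      obtain ⟨x, hx⟩ := hR y
      refine ⟨x, ?_⟩
      rw [← residue_eq_zero_iff, map_sub, sub_eq_zero] at hx
      exact hx.symm
    obtain ⟨z₀, hz₀⟩ := MvPolynomial.map_surjective _ hsur (MvPolynomial.map (residue R) z)
    refine ⟨z₀, ?_⟩
    rw [MvPolynomial.algebraMap_eq, ← ker_residue (R := R), ← MvPolynomial.ker_map, RingHom.mem_ker, map_sub,
      MvPolynomial.algebraMap_def, MvPolynomial.map_map, hz₀, sub_self]
  have hA' : ∀ y : A', ∃ c : A, y - algebraMap A A' c ∈ maximalIdeal A' := fun y => by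
    obtain ⟨c, hc⟩ := residue_surjective (Φ' y)
    exact ⟨c, by rw [← hker, RingHom.mem_ker, map_sub, hΦA, hc, sub_self]⟩
  let k₁ : ResidueField A →+* P ⧸ mP := Ideal.Quotient.lift (maximalIdeal A)
    ((Ideal.Quotient.mk mP).comp MvPolynomial.C) fun c hc =>
    Ideal.Quotient.eq_zero_iff_mem.2 (Ideal.mem_map_of_mem _ hc)
  let θ : T →+* P ⧸ mP := MvPolynomial.eval₂Hom (k₁.comp Φ') fun i => Ideal.Quotient.mk mP (MvPolynomial.X i)
  have hθ : ∀ p, θ (algebraMap P T p) = Ideal.Quotient.mk _ p := by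
    intro p
    refine RingHom.congr_fun (f := θ.comp (algebraMap P T)) (g := Ideal.Quotient.mk mP)
      (MvPolynomial.ringHom_ext (fun c => ?_) fun i => ?_) p
    · show θ (MvPolynomial.map _ (MvPolynomial.C c)) = _
      rw [MvPolynomial.map_C, MvPolynomial.eval₂Hom_C, RingHom.comp_apply, hΦA]
      rfl
    · show θ (MvPolynomial.map _ (MvPolynomial.X i)) = _
      rw [MvPolynomial.map_X, MvPolynomial.eval₂Hom_X']
  have hθm : ∀ y ∈ maximalIdeal A', θ (algebraMap A' T y) = 0 := fun y hy => by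
    rw [MvPolynomial.algebraMap_eq, MvPolynomial.eval₂Hom_C, RingHom.comp_apply]
    rw [← hker, RingHom.mem_ker] at hy
    rw [hy, map_zero]
  have hsm : ∀ e', e' ∈ mP • (⊤ : Submodule P ((Fin a → P) ⧸ K)) ↔
      e' ∈ maximalIdeal A • (⊤ : Submodule A ((Fin a → P) ⧸ K)) := fun e' => (mem_smul_top_iff (B := P) _ _).symm
  have := flatAt_and_injective_of_model (A₀ := A₀) (R := R) (A' := A') (S := S) (T := T) hS hA' q mP rfl hmq
    θ hθ hθm j hj hM v hv s₀ (by rwa [MvPolynomial.algebraMap_def, hs₀])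
    (fun e' ⟨t, ht, hte⟩ => by
      rw [MvPolynomial.algebraMap_def, hs₀, ← hsm]
      exact hs e' ⟨t, ht, (hsm _).2 hte⟩)
  have hjx : j (Submodule.Quotient.mk x₀) = Submodule.Quotient.mk x := by
    rw [hjmk]
    simp only [halg, hx₀]
  exact ⟨this.1, fun he => by simpa only [hjx] using this.2 (Submodule.Quotient.mk x₀) (by rw [hjx]; exact he)⟩

end Groth.Agent.UnivInjMod
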