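import Groth.Agent.UnivInjMod.Main
import Mathlib.RingTheory.Valuation.LocalSubring
import Mathlib.RingTheory.Localization.Submodule
import Mathlib.RingTheory.Localization.FractionRing
import Mathlib.RingTheory.LocalRing.ResidueField.Basic
import Mathlib.RingTheory.Nilpotent.Basic

/-!
Over a local domain, an element of a finite module over a local algebra essentially of finite type which is
not torsion is not divisible by all nonzero elements of the domain.
-/

set_option autoImplicit false
set_option linter.style.haveILetI false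
set_option linter.unusedSectionVars false
set_option backward.isDefEq.respectTransparency false

universe u

open TensorProduct IsLocalRing

namespace Groth.Agent.UnivInjMod

/-- A finitely generated submodule of a field over a valuation subring lies in a cyclic one. -/
theorem exists_mem_mul_valuationSubring {L : Type u} [Field L] (W : ValuationSubring L) (T : Finset L) :
    ∃ e : L, e ≠ 0 ∧ ∀ x ∈ T, ∃ w ∈ W, x = w * e := by
  classical
  induction T using Finset.induction with
  | empty => exact ⟨1, one_ne_zero, fun x hx => absurd hx (Finset.notMem_empty x)⟩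
  | insert a T _ ih =>
    obtain ⟨e, he, hT⟩ := ih
    rcases W.mem_or_inv_mem (a / e) with h | h
    · refine ⟨e, he, fun x hx => ?_⟩
      rcases Finset.mem_insert.1 hx with rfl | hx
      · exact ⟨x / e, h, by field_simp⟩
      · exact hT x hx
    · rcases eq_or_ne a 0 with rfl | ha
      · refine ⟨e, he, fun x hx => ?_⟩
        rcases Finset.mem_insert.1 hx with rfl | hx
        · exact ⟨0, W.zero_mem, by simp⟩
        · exact hT x hx
      · refine ⟨a, ha, fun x hx => ?_⟩
        rcases Finset.mem_insert.1 hx with rfl | hx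
        · exact ⟨1, W.one_mem, (one_mul _).symm⟩
        · obtain ⟨w, hw, rfl⟩ := hT x hx
          refine ⟨w * (a / e)⁻¹, W.mul_mem _ _ hw h, ?_⟩
          field_simp

/-- A nonzero element stays outside a power of the maximal ideal over a flat local extension. -/
theorem exists_notMem_pow_smul {S T X : Type u} [CommRing S] [CommRing T] [IsLocalRing T] [IsNoetherianRing T]
    [Algebra S T] [Module.Flat S T] [AddCommGroup X] [Module S X] [Module.Finite S X] (Q : Ideal S)
    (hQ : (maximalIdeal T).comap (algebraMap S T) = Q) {x : X} (hx : ∀ s ∉ Q, s • x ≠ 0) :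
    ∃ (C : Type u) (_ : CommRing C) (p : T →+* C) (G : Type u) (_ : AddCommGroup G) (_ : Module C G) (τ : X →+ G),
      (∀ t ∈ maximalIdeal T, IsNilpotent (p t)) ∧ (∀ s z, τ (s • z) = p (algebraMap S T s) • τ z) ∧ τ x ≠ 0 := by
  suffices hk : ∃ k : ℕ, (1 : T) ⊗ₜ[S] x ∉ maximalIdeal T ^ k • (⊤ : Submodule T (T ⊗[S] X)) by
    obtain ⟨k, hk⟩ := hk
    refine ⟨T ⧸ maximalIdeal T ^ k, inferInstance, Ideal.Quotient.mk _,
      (T ⊗[S] X) ⧸ (maximalIdeal T ^ k • (⊤ : Submodule T (T ⊗[S] X))), inferInstance, inferInstance,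
      (Submodule.mkQ _).toAddMonoidHom.comp (TensorProduct.mk S T X 1).toAddMonoidHom,
      fun t ht => ⟨k, ?_⟩, fun s z => ?_, fun h => hk ((Submodule.Quotient.mk_eq_zero _).1 h)⟩
    · rw [← map_pow, Ideal.Quotient.eq_zero_iff_mem]
      exact Ideal.pow_mem_pow ht k
    · show Submodule.Quotient.mk ((1 : T) ⊗ₜ[S] (s • z)) =
        Ideal.Quotient.mk _ (algebraMap S T s) • Submodule.Quotient.mk ((1 : T) ⊗ₜ[S] z)
      rw [tmul_smul, ← algebraMap_smul T s, Submodule.Quotient.mk_smul]
      rfl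
  by_contra h
  push Not at h
  have h0 : (1 : T) ⊗ₜ[S] x = 0 := by
    refine (Submodule.mem_bot T).1 ?_
    rw [← Ideal.iInf_pow_smul_eq_bot_of_isLocalRing (maximalIdeal T) (M := T ⊗[S] X)
      (maximalIdeal.isMaximal T).ne_top, Submodule.mem_iInf]
    exact h
  obtain ⟨s, hs, hsy⟩ := exists_smul_eq_zero_of_flat Q (maximalIdeal T) hQ x
    ⟨1, (maximalIdeal T).one_notMem, by rw [h0, smul_zero]⟩
  exact hx s hs hsy

/-- An infinitely near thickening of a closed point of the support, with the residue field as coefficients. -/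
theorem exists_thick_point {K BK NK : Type u} [Field K] [CommRing BK] [Algebra K BK] [Algebra.EssFiniteType K BK]
    [IsNoetherianRing BK] [AddCommGroup NK] [Module BK NK] [Module.Finite BK NK] {yK : NK} (hy : yK ≠ 0) :
    ∃ (L : Type u) (_ : Field L) (f : BK →+* L) (C : Type u) (_ : CommRing C) (toC : BK →+* C) (ιL : L →+* C)
      (G : Type u) (_ : AddCommGroup G) (_ : Module C G) (τ : NK →+ G), Function.Surjective f ∧
      (∀ b, IsNilpotent (toC b - ιL (f b))) ∧
      (∀ c : K, toC (algebraMap K BK c) = ιL (f (algebraMap K BK c))) ∧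
      (∀ b z, τ (b • z) = toC b • τ z) ∧ τ yK ≠ 0 := by
  have hann : LinearMap.ker (LinearMap.toSpanSingleton BK NK yK) ≠ ⊤ := fun h => hy (by
    have h1 : (1 : BK) ∈ LinearMap.ker (LinearMap.toSpanSingleton BK NK yK) := h ▸ Submodule.mem_top
    rwa [LinearMap.mem_ker, LinearMap.toSpanSingleton_apply_one] at h1)
  obtain ⟨Q, hQ, hQann⟩ := Ideal.exists_le_maximal _ hann
  let L := BK ⧸ Q
  letI : Field L := Ideal.Quotient.field Q
  let C1 := BK ⊗[K] L
  haveI : Algebra.EssFiniteType BK C1 := inferInstance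
  haveI : IsNoetherianRing C1 := Algebra.EssFiniteType.isNoetherianRing BK C1
  let diag : C1 →ₐ[K] L := Algebra.TensorProduct.productMap (Ideal.Quotient.mkₐ K Q) (AlgHom.id K L)
  let 𝔡 : Ideal C1 := RingHom.ker diag.toRingHom
  haveI : 𝔡.IsPrime := RingHom.ker_isPrime _
  let C0 := Localization.AtPrime 𝔡
  haveI : IsNoetherianRing C0 := IsLocalization.isNoetherianRing 𝔡.primeCompl _ inferInstance
  haveI : Module.Flat BK C1 := inferInstance
  haveI : Module.Flat C1 C0 := IsLocalization.flat C0 𝔡.primeCompl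
  haveI : Module.Flat BK C0 := Module.Flat.trans BK C1 C0
  have hdiag : ∀ b : BK, diag (algebraMap BK C1 b) = Ideal.Quotient.mk Q b := fun b => by
    show diag (b ⊗ₜ 1) = _
    rw [Algebra.TensorProduct.productMap_apply_tmul, map_one, mul_one]
    rfl
  have hcomap : (maximalIdeal C0).comap (algebraMap BK C0) = Q := by
    ext b
    rw [Ideal.mem_comap, IsScalarTower.algebraMap_apply BK C1 C0,
      IsLocalization.AtPrime.to_map_mem_maximal_iff C0 𝔡, RingHom.mem_ker]
    show diag (algebraMap BK C1 b) = 0 ↔ _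
    rw [hdiag, Ideal.Quotient.eq_zero_iff_mem]
  obtain ⟨C, _, p, G, _, _, τ, hnil, hτ, hτy⟩ := exists_notMem_pow_smul (T := C0) Q hcomap (x := yK)
    fun s hs h => hs (hQann (LinearMap.mem_ker.2 h))
  let inR : L →+* C1 := (Algebra.TensorProduct.includeRight : L →ₐ[K] C1).toRingHom
  refine ⟨L, inferInstance, Ideal.Quotient.mk Q, C, inferInstance, p.comp (algebraMap BK C0),
    p.comp ((algebraMap C1 C0).comp inR), G, inferInstance, inferInstance, τ,
    Ideal.Quotient.mk_surjective, fun b => ?_, fun c => ?_, hτ, hτy⟩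
  · rw [RingHom.comp_apply, RingHom.comp_apply, ← map_sub]
    refine hnil _ ?_
    have hmem : ∀ z : C1, diag z = 0 → algebraMap C1 C0 z ∈ maximalIdeal C0 := fun z hz =>
      (IsLocalization.AtPrime.to_map_mem_maximal_iff C0 𝔡 z).2 hz
    have h := hmem (algebraMap BK C1 b - inR (Ideal.Quotient.mk Q b)) ?_
    · simp only [map_sub, ← IsScalarTower.algebraMap_apply BK C1 C0] at h
      exact h
    rw [map_sub]
    show diag _ - diag ((1 : BK) ⊗ₜ _) = 0
    rw [hdiag, Algebra.TensorProduct.productMap_apply_tmul, map_one, one_mul]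
    exact sub_self _
  · rw [RingHom.comp_apply, RingHom.comp_apply, RingHom.comp_apply, IsScalarTower.algebraMap_apply BK C1 C0]
    congr 2
    show algebraMap K BK c ⊗ₜ[K] (1 : L) = (1 : BK) ⊗ₜ[K] algebraMap K L c
    rw [Algebra.algebraMap_eq_smul_one, Algebra.algebraMap_eq_smul_one, smul_tmul]

/-- Elements of a module mapped to an infinitely near thickening of a field point are not divisible by all
nonzero scalars. -/
theorem not_divisible_of_point {D B N L C G : Type u} [CommRing D] [IsLocalRing D] [CommRing B] [IsLocalRing B]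
    [Algebra D B] [IsLocalHom (algebraMap D B)] [AddCommGroup N] [Module B N] [Module D N] [IsScalarTower D B N]
    [Module.Finite B N] [Field L] [CommRing C] [Algebra L C] [AddCommGroup G] [Module C G] [Module L G]
    [IsScalarTower L C G] {n : ℕ} (π : MvPolynomial (Fin n) D →ₐ[D] B)
    (hπ : ∀ b : B, ∃ x w, IsUnit (π w) ∧ π w * b = π x)
    (fB : B →+* L) (bC : B →+* C) (hnil : ∀ b, IsNilpotent (bC b - algebraMap L C (fB b)))
    (hD : ∀ d : D, bC (algebraMap D B d) = algebraMap L C (fB (algebraMap D B d)))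
    (hfrac : ∀ x : L, ∃ r : B, ∃ c : D, fB (algebraMap D B c) ≠ 0 ∧ x * fB (algebraMap D B c) = fB r)
    (τ : N →+ G) (hτ : ∀ b z, τ (b • z) = bC b • τ z) {d₀ : D} (hd₀ : d₀ ∈ maximalIdeal D)
    (hd₀' : fB (algebraMap D B d₀) ≠ 0) {y : N} (hy : τ y ≠ 0) :
    ∃ c : D, fB (algebraMap D B c) ≠ 0 ∧ ∀ z, c • z ≠ y := by
  classical
  by_contra hcon
  push Not at hcon
  obtain ⟨W, hWmem, hWloc⟩ := IsLocalRing.exists_factor_valuationRing fB
  letI : Algebra W C := ((algebraMap L C).comp W.subtype).toAlgebra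
  have hWC : ∀ w : W, algebraMap W C w = algebraMap L C w := fun _ => rfl
  let xC : Fin n → C := fun i => bC (π (MvPolynomial.X i))
  let aL : Fin n → L := fun i => fB (π (MvPolynomial.X i))
  let Γ := Algebra.adjoin W (Set.range fun i => xC i - algebraMap L C (aL i))
  have hpol : ∀ p : MvPolynomial (Fin n) D, bC (π p) ∈ Γ := by
    intro p
    induction p using MvPolynomial.induction_on with
    | C d =>
      rw [show π (MvPolynomial.C d) = algebraMap D B d from π.commutes d, hD, ← hWC ⟨_, hWmem _⟩]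
      exact Subalgebra.algebraMap_mem _ _
    | add p q hp hq => rw [map_add, map_add]; exact add_mem hp hq
    | mul_X p i hp =>
      rw [map_mul, map_mul]
      refine mul_mem hp ?_
      rw [← sub_add_cancel (bC (π (MvPolynomial.X i))) (algebraMap L C (aL i))]
      refine add_mem (Algebra.subset_adjoin ⟨i, rfl⟩) ?_
      rw [← hWC ⟨_, hWmem _⟩]
      exact Subalgebra.algebraMap_mem _ _
  have hBΓ : ∀ b : B, bC b ∈ Γ := by
    intro b
    obtain ⟨p, w, hw, hwb⟩ := hπ b
    have hwΓ := hpol w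
    let ω : W := ⟨fB (π w), hWmem _⟩
    have hω : IsUnit ω := hw.map (fB.codRestrict W.toSubring hWmem)
    have hωC : algebraMap W C ω ∈ Γ := Subalgebra.algebraMap_mem _ _
    have hu : IsUnit (⟨bC (π w), hwΓ⟩ : Γ) := by
      have hn : IsNilpotent (⟨bC (π w) - algebraMap W C ω, sub_mem hwΓ hωC⟩ : Γ) := by
        obtain ⟨j, hj⟩ := hnil (π w)
        exact ⟨j, Subtype.ext hj⟩
      have h := IsNilpotent.isUnit_add_left_of_commute hn (hω.map (algebraMap W Γ)) (Commute.all _ _)
      convert h using 1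
      ext
      simp
    obtain ⟨v, hv⟩ := hu.exists_left_inv
    have h1 : bC b = (v : C) * bC (π p) := by
      rw [← hwb, map_mul, ← mul_assoc, show (v : C) * bC (π w) = 1 from congrArg Subtype.val hv, one_mul]
    rw [h1]
    exact mul_mem v.2 (hpol p)
  have hΓfg : (Subalgebra.toSubmodule Γ).FG := by
    refine fg_adjoin_of_finite (Set.finite_range _) ?_
    rintro _ ⟨i, rfl⟩
    obtain ⟨j, hj⟩ := hnil (π (MvPolynomial.X i))
    exact ⟨Polynomial.X ^ j, Polynomial.monic_X_pow j, by simpa using hj⟩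
  -- the lattice
  obtain ⟨Γg, hΓg⟩ := hΓfg
  obtain ⟨a, g, hg⟩ := Module.Finite.exists_fin (R := B) (M := N)
  obtain ⟨φ, hφ⟩ : ∃ φ : G →ₗ[L] L, φ (τ y) ≠ 0 := by
    by_contra h
    push Not at h
    exact hy ((Module.forall_dual_apply_eq_zero_iff L _).1 h)
  obtain ⟨e, he, hT⟩ := exists_mem_mul_valuationSubring W
    ((Γg ×ˢ (Finset.univ : Finset (Fin a))).image fun p => φ (p.1 • τ (g p.2)))
  have hgen : ∀ γ ∈ Γ, ∀ l : Fin a, ∃ w ∈ W, φ (γ • τ (g l)) = w * e := by
    intro γ hγ l
    have hγ' : γ ∈ Submodule.span W (Γg : Set C) := hΓg ▸ hγ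
    clear hγ
    induction hγ' using Submodule.span_induction with
    | mem γ hγ => exact hT _ (Finset.mem_image.2 ⟨(γ, l), Finset.mem_product.2 ⟨hγ, Finset.mem_univ l⟩, rfl⟩)
    | zero => exact ⟨0, W.zero_mem, by simp⟩
    | add γ γ' _ _ h h' =>
      obtain ⟨w, hw, hwe⟩ := h
      obtain ⟨w', hw', hwe'⟩ := h'
      exact ⟨w + w', W.add_mem _ _ hw hw', by rw [add_smul, map_add, hwe, hwe', add_mul]⟩
    | smul c γ _ h =>
      obtain ⟨w, hw, hwe⟩ := h
      refine ⟨c * w, W.mul_mem _ _ c.2 hw, ?_⟩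
      rw [Algebra.smul_def, hWC, mul_smul, algebraMap_smul, map_smul, hwe, smul_eq_mul, mul_assoc]
  have hΛ : ∀ z : N, ∃ w ∈ W, φ (τ z) = w * e := by
    intro z
    obtain ⟨b, rfl⟩ := (Submodule.mem_span_range_iff_exists_fun B).1 (hg ▸ Submodule.mem_top : z ∈ _)
    choose w hw hwe using fun l => hgen _ (hBΓ (b l)) l
    refine ⟨∑ l, w l, sum_mem fun l _ => hw l, ?_⟩
    rw [map_sum, map_sum, Finset.sum_mul]
    exact Finset.sum_congr rfl fun l _ => by rw [hτ, hwe]
  -- the contradiction
  have hdiv : ∀ c : D, fB (algebraMap D B c) ≠ 0 → ∃ w ∈ W, φ (τ y) = fB (algebraMap D B c) * (w * e) := by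
    intro c hc
    obtain ⟨z, rfl⟩ := hcon c hc
    obtain ⟨w, hw, hwe⟩ := hΛ z
    refine ⟨w, hw, ?_⟩
    rw [← algebraMap_smul B c z, hτ, hD, algebraMap_smul, map_smul, hwe, smul_eq_mul]
  obtain ⟨r, c, hc, hr⟩ := hfrac (φ (τ y) / e)⁻¹
  obtain ⟨w, hw, hwy⟩ := hdiv (c * d₀) (by rw [map_mul, map_mul]; exact mul_ne_zero hc hd₀')
  have hone : fB (algebraMap D B d₀) * (w * fB r) = 1 := by
    rw [← hr, hwy, map_mul, map_mul]
    have hne := hφ
    rw [hwy, map_mul, map_mul] at hne
    have h1 : w ≠ 0 := by rintro rfl; exact hne (by ring)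
    field_simp
  have hd₀B : ¬ IsUnit (algebraMap D B d₀) := fun h => hd₀ (IsUnit.of_map (algebraMap D B) d₀ h)
  refine hd₀B (IsUnit.of_map (fB.codRestrict W.toSubring hWmem) _ ?_)
  exact IsUnit.of_mul_eq_one ⟨w * fB r, W.mul_mem _ _ hw (hWmem r)⟩ (Subtype.ext hone)

/-- Non-torsion elements are not divisible by all nonzero elements. -/
theorem exists_ne_smul {D B N : Type u} [CommRing D] [IsDomain D] [IsLocalRing D] [CommRing B] [IsLocalRing B]
    [Algebra D B] [IsLocalHom (algebraMap D B)] [Algebra.EssFiniteType D B] [AddCommGroup N] [Module B N]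
    [Module D N] [IsScalarTower D B N] [Module.Finite B N] {d₀ : D} (hd₀ : d₀ ∈ maximalIdeal D) (hd₀' : d₀ ≠ 0)
    (y : N) (hy : ∀ c : D, c ≠ 0 → c • y ≠ 0) : ∃ c : D, c ≠ 0 ∧ ∀ z, c • z ≠ y := by
  let U := Algebra.algebraMapSubmonoid B (nonZeroDivisors D)
  let BK := Localization U
  let K := FractionRing D
  have hDu : ∀ c : nonZeroDivisors D, IsUnit (algebraMap D BK c) := fun c => by
    rw [IsScalarTower.algebraMap_apply D B BK]
    exact IsLocalization.map_units BK (⟨_, c, c.2, rfl⟩ : U)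
  letI : Algebra K BK := (IsLocalization.lift hDu).toAlgebra
  haveI : IsScalarTower D K BK := IsScalarTower.of_algebraMap_eq fun c => (IsLocalization.lift_eq hDu c).symm
  haveI : Algebra.EssFiniteType B BK := Algebra.EssFiniteType.of_isLocalization _ U
  haveI : Algebra.EssFiniteType D BK := Algebra.EssFiniteType.comp D B BK
  haveI : Algebra.EssFiniteType K BK := Algebra.EssFiniteType.of_comp D K BK
  haveI : IsNoetherianRing BK := Algebra.EssFiniteType.isNoetherianRing K BK
  obtain ⟨NK, _, _, _, _, lN, hlN⟩ := exists_localizedModule U N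
  haveI := hlN
  haveI : Module.Finite BK NK := Module.Finite.of_isLocalizedModule U lN
  have hyK : lN y ≠ 0 := fun h => by
    obtain ⟨⟨b, hb⟩, hcy⟩ := (IsLocalizedModule.eq_zero_iff U lN).1 h
    obtain ⟨c, hc, rfl⟩ := hb
    rw [Submonoid.smul_def, algebraMap_smul] at hcy
    exact hy c (nonZeroDivisors.ne_zero hc) hcy
  obtain ⟨L, _, f, C, _, toC, ιL, G, _, _, τK, hf, hnil, hKC, hτK, hτyK⟩ := exists_thick_point (K := K) (BK := BK) (NK := NK) hyK
  letI : Algebra L C := ιL.toAlgebra
  letI : Module L G := Module.compHom G (algebraMap L C)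
  haveI : IsScalarTower L C G := IsScalarTower.of_algebraMap_smul fun _ _ => rfl
  obtain ⟨n, π, hπ⟩ := exists_presentation D B
  have hne : ∀ d : D, d ≠ 0 → f (algebraMap B BK (algebraMap D B d)) ≠ 0 := fun d hd => by
    rw [← IsScalarTower.algebraMap_apply D B BK]
    exact ((hDu ⟨d, mem_nonZeroDivisors_of_ne_zero hd⟩).map f).ne_zero
  obtain ⟨c, hc, hcz⟩ := not_divisible_of_point (L := L) (C := C) (G := G) π hπ (f.comp (algebraMap B BK))
    (toC.comp (algebraMap B BK)) (fun b => hnil _) (fun d => by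
      rw [RingHom.comp_apply, RingHom.comp_apply, ← IsScalarTower.algebraMap_apply D B BK,
        IsScalarTower.algebraMap_apply D K BK]
      exact hKC _) (fun x => by
      obtain ⟨b, rfl⟩ := hf x
      obtain ⟨⟨r, ⟨_, c, hc, rfl⟩⟩, hrc⟩ := IsLocalization.surj U b
      refine ⟨r, c, hne c (nonZeroDivisors.ne_zero hc), ?_⟩
      rw [RingHom.comp_apply, RingHom.comp_apply, ← map_mul]
      exact congrArg f hrc)
    (τK.comp lN.toAddMonoidHom) (fun b z => by
      show τK (lN (b • z)) = toC (algebraMap B BK b) • τK (lN z)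
      rw [map_smul, ← algebraMap_smul BK b (lN z), hτK])
    hd₀ (hne d₀ hd₀') hτyK
  exact ⟨c, fun h => hc (by rw [h, map_zero, map_zero]), hcz⟩

end Groth.Agent.UnivInjMod
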